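import Cfsg.Agent.Lib.AGroupIndex.Classes

/-!
# An A-group with an element of maximal `2`-power class size is soluble
-/

set_option autoImplicit false

universe u

namespace Cfsg.Agent.Lib.AGroupIndex

open Subgroup Cfsg
open scoped Pointwise

variable {G : Type u} [Group G] [Finite G]

/-- The descending series of commutators of a subgroup, inside the ambient group. -/
def commSeries (N : Subgroup G) : ℕ → Subgroup G
  | 0 => N
  | n + 1 => ⁅commSeries N n, commSeries N n⁆

omit [Finite G] in
theorem commSeries_normal (N : Subgroup G) [N.Normal] : ∀ n, (commSeries N n).Normal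
  | 0 => inferInstanceAs N.Normal
  | n + 1 => by
    haveI := commSeries_normal N n
    exact commutator_normal _ _

omit [Finite G] in
theorem commSeries_anti (N : Subgroup G) [N.Normal] (n : ℕ) :
    commSeries N (n + 1) ≤ commSeries N n := by
  haveI := commSeries_normal N n
  exact commutator_le_left _ _

theorem exists_commSeries_perfect (N : Subgroup G) [N.Normal] :
    ∃ n, ⁅commSeries N n, commSeries N n⁆ = commSeries N n := by
  obtain ⟨D, hD⟩ :=
    (Set.toFinite (Set.range (commSeries N))).exists_minimal (Set.range_nonempty _)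
  obtain ⟨n, rfl⟩ := hD.prop
  exact ⟨n, hD.eq_of_le ⟨n + 1, rfl⟩ (commSeries_anti N n)⟩

/-- An element whose powers `z ^ A` and `z ^ B`, with coprime exponents, lie in `K` lies in `K`. -/
theorem mem_of_pow_mem_pow_mem (K : Subgroup G) {z : G} {A B : ℕ} (h : A.Coprime B)
    (hA : z ^ A ∈ K) (hB : z ^ B ∈ K) : z ∈ K := by
  have e : (Nat.gcd A B : ℤ) = A * A.gcdA B + B * A.gcdB B := Nat.gcd_eq_gcd_ab A B
  rw [h.gcd_eq_one] at e
  have h1 : z = (z ^ A) ^ A.gcdA B * (z ^ B) ^ A.gcdB B := by
    rw [← zpow_natCast z A, ← zpow_natCast z B, ← zpow_mul, ← zpow_mul, ← zpow_add, ← e,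
      Nat.cast_one, zpow_one]
  rw [h1]
  exact K.mul_mem (K.zpow_mem hA _) (K.zpow_mem hB _)

/-- The key computation: a `2`-element of the soluble radical commuting with the product of two
commuting `p`-elements `a`, `b`, with `b` in a perfect normal subgroup centralising `O_p`, and `a`
centralising `O(G)`, commutes with `a`. -/
theorem commute_of_commute_mul (hA : IsAGroup G) {R D : Subgroup G} [R.Normal] [D.Normal]
    (hR : R = solvableRadical G) {p : ℕ} [Fact p.Prime] (hperf : ⁅D, D⁆ = D)
    (hDV : D ≤ centralizer (pCore p G : Set G)) {a b u : G}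
    (ha : ∀ y ∈ pPrimeCore 2 G, Commute a y) (hao : ∃ i : ℕ, a ^ p ^ i = 1)
    (hb : b ∈ D) (hab : Commute a b) (hu : u ∈ R) (hu2 : ∃ j : ℕ, orderOf u = 2 ^ j)
    (huab : Commute u (a * b)) : Commute u a := by
  haveI : Fact (Nat.Prime 2) := ⟨Nat.prime_two⟩
  haveI hOn : (pPrimeCore 2 G).Normal := sSup_normal _ fun _ h => h.1
  set O := pPrimeCore 2 G with hO
  let q := QuotientGroup.mk' O
  have hq : Function.Surjective q := QuotientGroup.mk'_surjective O
  have hAq : IsAGroup (G ⧸ O) := hA.of_surjective hq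
  -- the soluble radical has a normal Sylow `2`-subgroup modulo `O`
  have hsR : Group.IsSolvable R := hR ▸ Lib.Components.solvableRadical_isSolvable
  haveI := hsR
  haveI hRqn : (R.map q).Normal := Normal.map inferInstance q hq
  haveI hsRq : Group.IsSolvable (R.map q) :=
    Lib.Components.isSolvable_subgroup_map hsR q
  have hOq : pPrimeCore 2 (G ⧸ O) = ⊥ := by
    haveI hn' : (pPrimeCore 2 (G ⧸ O)).Normal := sSup_normal _ fun _ h => h.1
    have hle : (pPrimeCore 2 (G ⧸ O)).comap q ≤ O := by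
      refine Lib.PSolvable.le_pPrimeCore ?_
      rw [Lib.PSolvable.card_comap_mk' O]
      exact Nat.Coprime.mul_left Lib.PSolvable.pPrimeCore_coprime Lib.PSolvable.pPrimeCore_coprime
    rw [eq_bot_iff]
    intro y hy
    obtain ⟨g, rfl⟩ := hq y
    exact (QuotientGroup.eq_one_iff g).2 (hle hy)
  obtain ⟨j, hj⟩ := hu2
  have huq : q u ∈ pCore 2 (G ⧸ O) := by
    have hmem : q u ∈ R.map q := mem_map_of_mem q hu
    have hdvd : orderOf (⟨q u, hmem⟩ : R.map q) ∣ 2 ^ j := by
      rw [← orderOf_coe, ← hj]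
      exact orderOf_map_dvd q u
    obtain ⟨i, -, hi⟩ := (Nat.dvd_prime_pow Nat.prime_two).1 hdvd
    obtain ⟨P, hP⟩ := (IsPGroup.of_card (p := 2) (n := i)
      (show Nat.card (zpowers (⟨q u, hmem⟩ : R.map q)) = 2 ^ i by
        rw [Nat.card_zpowers, hi])).exists_le_sylow
    have hPn : (P : Subgroup (R.map q)).Normal := by
      refine sylow_normal_of_centralizes P ((hAq.subgroup _) 2 P) fun N hN hd => ?_
      have hle : N ≤ pPrimeCore 2 (R.map q) :=
        Lib.PSolvable.le_pPrimeCore ((Nat.prime_two.coprime_iff_not_dvd.2 hd).symm)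
      intro c _
      rw [mem_centralizer_iff]
      intro y hy
      have h1 : (y : G ⧸ O) ∈ (pPrimeCore 2 (R.map q)).map (R.map q).subtype :=
        mem_map_of_mem _ (hle hy)
      have h2 : (pPrimeCore 2 (R.map q)).map (R.map q).subtype ≤ ⊥ := by
        rw [← hOq, Lib.PSolvable.map_subtype_pPrimeCore_of_normal]
        exact inf_le_left
      have : y = 1 := Subtype.ext (mem_bot.1 (h2 h1))
      rw [this, one_mul, mul_one]
    have h1 : (P : Subgroup (R.map q)) ≤ pCore 2 (R.map q) :=
      Lib.PSolvable.le_pCore (hN := hPn) P.isPGroup'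
    have h2 := mem_map_of_mem (R.map q).subtype (h1 (hP (mem_zpowers _)))
    have h3 : (pCore 2 (R.map q)).map (R.map q).subtype ≤ pCore 2 (G ⧸ O) := by
      rw [Lib.PSolvable.map_subtype_pCore_of_normal]
      exact inf_le_left
    exact h3 h2
  -- `D` centralises `O_2(G/O)`
  haveI hAn : (pCore 2 (G ⧸ O)).Normal := sSup_normal _ fun _ h => h.1
  set K := centralizer (pCore 2 (G ⧸ O) : Set (G ⧸ O)) with hK
  haveI hKn : K.Normal := inferInstance
  have hsQ : Group.IsSolvable ((G ⧸ O) ⧸ K) := by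
    refine Cfsg.Agent.S0205.result ?_
    rw [← Nat.not_even_iff_odd, even_iff_two_dvd, ← index_eq_card]
    obtain ⟨S⟩ : Nonempty (Sylow 2 (G ⧸ O)) := inferInstance
    intro h
    refine S.not_dvd_index (h.trans (index_dvd_of_le fun s hs => ?_))
    rw [hK, mem_centralizer_iff]
    intro c hc
    exact hAq.commute S.isPGroup' (Lib.PSolvable.pCore_le_sylow S hc) hs
  have hDK : D.map q ≤ K := by
    have hk : (D.map q).map (QuotientGroup.mk' K) = ⊥ := by
      set E := (D.map q).map (QuotientGroup.mk' K) with hE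
      have hpE : ⁅E, E⁆ = E := by rw [hE, ← map_commutator, ← map_commutator, hperf]
      haveI := hsQ
      haveI : Group.IsSolvable E := inferInstance
      by_contra hne
      haveI : Nontrivial E := (nontrivial_iff_ne_bot E).2 hne
      refine (Group.IsSolvable.commutator_lt_top_of_nontrivial E).ne ?_
      apply map_injective E.subtype_injective
      rw [map_subtype_commutator, hpE, ← MonoidHom.range_eq_map, range_subtype]
    rwa [Subgroup.map_eq_bot_iff, QuotientGroup.ker_mk'] at hk
  have hcomm : Commute (q u) (q b) :=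
    mem_centralizer_iff.1 (hDK (mem_map_of_mem q hb)) (q u) huq
  -- the commutator `d`
  set d := u * a * u⁻¹ * a⁻¹ with hd
  set d' := b * u * b⁻¹ * u⁻¹ with hd'
  have hd'O : d' ∈ O := by
    rw [← QuotientGroup.eq_one_iff]
    show q d' = 1
    rw [hd', map_mul, map_mul, map_mul, map_inv, map_inv, hcomm.symm.eq, mul_assoc (q u),
      mul_inv_cancel, mul_one, mul_inv_cancel]
  have hdd : d = a * d' * a⁻¹ := by
    rw [hd, hd']
    have h := huab.eq
    calc u * a * u⁻¹ * a⁻¹ = u * (a * b) * b⁻¹ * u⁻¹ * a⁻¹ := by group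
      _ = (a * b * u) * b⁻¹ * u⁻¹ * a⁻¹ := by rw [h]
      _ = _ := by group
  have hdeq : d = d' := by rw [hdd, conj_eq_of_commute (ha d' hd'O)]
  have hdO : d ∈ O := hdeq ▸ hd'O
  have hdD : d ∈ D := by
    rw [hdeq, hd']
    have e : b * u * b⁻¹ * u⁻¹ = b * (u * b⁻¹ * u⁻¹) := by group
    rw [e]
    exact D.mul_mem hb ((inferInstance : D.Normal).conj_mem _ (D.inv_mem hb) u)
  -- `d` centralises `O`
  have haC : a ∈ centralizer (O : Set G) := mem_centralizer_iff.2 fun y hy => (ha y hy).symm.eq
  have hdC : d ∈ centralizer (O : Set G) := (centralizer (O : Set G)).mul_mem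
    ((inferInstance : (centralizer (O : Set G)).Normal).conj_mem a haC u) (inv_mem haC)
  obtain ⟨i, hi⟩ := hao
  have hdpow : d ^ p ^ i = 1 := by
    have hc : Commute d a := (ha d hdO).symm
    have e : d * a = u * a * u⁻¹ := by rw [hd]; group
    have h1 : (d * a) ^ p ^ i = 1 := by rw [e, conj_pow, hi, mul_one, mul_inv_cancel]
    rwa [hc.mul_pow, hi, mul_one] at h1
  -- the `p`-part of the centre of `O`
  let Zp : Subgroup G :=
    { carrier := {g | g ∈ O ∧ g ∈ centralizer (O : Set G) ∧ ∃ k : ℕ, g ^ p ^ k = 1}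
      one_mem' := ⟨O.one_mem, one_mem _, 0, one_pow _⟩
      mul_mem' := fun {g g'} hg hg' => ⟨O.mul_mem hg.1 hg'.1, mul_mem hg.2.1 hg'.2.1, by
        obtain ⟨k, hk⟩ := hg.2.2
        obtain ⟨k', hk'⟩ := hg'.2.2
        refine ⟨k + k', ?_⟩
        have hc : Commute g g' := (mem_centralizer_iff.1 hg.2.1 g' hg'.1).symm
        rw [hc.mul_pow, pow_add, pow_mul, hk, one_pow, one_mul, mul_comm (p ^ k), pow_mul, hk',
          one_pow]⟩
      inv_mem' := fun {g} hg => ⟨O.inv_mem hg.1, inv_mem hg.2.1, by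
        obtain ⟨k, hk⟩ := hg.2.2
        exact ⟨k, by rw [inv_pow, hk, inv_one]⟩⟩ }
  haveI hZn : Zp.Normal := ⟨fun g hg c => ⟨hOn.conj_mem g hg.1 c,
    (inferInstance : (centralizer (O : Set G)).Normal).conj_mem g hg.2.1 c, by
      obtain ⟨k, hk⟩ := hg.2.2
      exact ⟨k, by rw [conj_pow, hk, mul_one, mul_inv_cancel]⟩⟩⟩
  have hZp : IsPGroup p Zp := fun g => by
    obtain ⟨k, hk⟩ := g.2.2.2
    exact ⟨k, Subtype.ext hk⟩
  have hdV : d ∈ pCore p G := Lib.PSolvable.le_pCore (hN := hZn) hZp ⟨hdO, hdC, i, hdpow⟩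
  obtain ⟨k, -, hk⟩ := (Nat.dvd_prime_pow (Fact.out : p.Prime)).1 (orderOf_dvd_of_pow_eq_one hdpow)
  have hperfD : commutator D = ⊤ := by
    apply map_injective D.subtype_injective
    rw [map_subtype_commutator, hperf, ← MonoidHom.range_eq_map, range_subtype]
  have h1 := eq_one_of_central_of_perfect (hA.subgroup D) hperfD (p := p) (k := k) Fact.out
    (d := ⟨d, hdD⟩) (mem_center_iff.2 fun g => Subtype.ext
      (mem_centralizer_iff.1 (hDV g.2) d hdV).symm) (by rw [← orderOf_coe]; exact hk)
  exact commute_of_conj_eq (mul_inv_eq_one.1 (congrArg Subtype.val h1))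

/-- If some class of an A-group has size `2 ^ a` and none has size divisible by `2 ^ (a + 1)`, the
group is soluble. -/
theorem solvable_of_maximal_two_part (hA : IsAGroup G) (a : ℕ)
    (hmax : ∀ y : G, ¬ 2 ^ (a + 1) ∣ (centralizer ({y} : Set G)).index) {x : G}
    (hx : (centralizer ({x} : Set G)).index = 2 ^ a) : Group.IsSolvable G := by
  classical
  by_contra hns
  haveI : Fact (Nat.Prime 2) := ⟨Nat.prime_two⟩
  -- the soluble radical
  set R := solvableRadical G with hR
  haveI hRn : R.Normal := Lib.Components.solvableRadical_normal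
  have hsR : Group.IsSolvable R := Lib.Components.solvableRadical_isSolvable
  have hxR : x ∈ R := by
    have hs := Lib.Kazarin.isSolvable_normalClosure (Nat.card G) G rfl x 2 a Nat.prime_two hx
    exact (Lib.Components.subnormal_solvable_le_radical
      (normalClosure_normal (s := ({x} : Set G))).isSubnormal hs)
      (subset_normalClosure (Set.mem_singleton x))
  let π := QuotientGroup.mk' R
  have hπ : Function.Surjective π := QuotientGroup.mk'_surjective R
  have hAb : IsAGroup (G ⧸ R) := hA.of_surjective hπ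
  have hRb : solvableRadical (G ⧸ R) = ⊥ := radical_quotient_eq_bot R hR
  haveI : Nontrivial (G ⧸ R) := by
    by_contra h
    rw [not_nontrivial_iff_subsingleton] at h
    haveI := h
    haveI := hsR
    haveI : Group.IsSolvable (G ⧸ R) := Group.isSolvable_of_comm fun a b => Subsingleton.elim _ _
    exact hns (Group.isSolvable_of_ker_le_range R.subtype π
      (by rw [QuotientGroup.ker_mk', range_subtype]))
  set Cx := centralizer ({x} : Set G) with hCx
  have hHidx : (Cx.map π).index ∣ 2 ^ a := hx ▸ index_map_dvd _ hπ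
  have h2H : ∀ g : G ⧸ R, (∃ j : ℕ, orderOf g = 2 ^ j) → g ∈ Cx.map π :=
    fun g hg => mem_of_two_element hAb hRb _ hHidx hg
  obtain ⟨S⟩ : Nonempty (Sylow 2 (G ⧸ R)) := inferInstance
  have hSH : (S : Subgroup (G ⧸ R)) ≤ Cx.map π := fun g hg => h2H g (by
    obtain ⟨k, hk⟩ := S.isPGroup'.exists_card_eq
    obtain ⟨i, -, hi⟩ := (Nat.dvd_prime_pow Nat.prime_two).1
      (hk ▸ (S : Subgroup (G ⧸ R)).orderOf_dvd_natCard hg)
    exact ⟨i, hi⟩)
  obtain ⟨T, hT⟩ := exists_component hRb
  obtain ⟨hsim, hcen, hnsT⟩ := component_simple hRb hT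
  haveI := hsim
  obtain ⟨p, yb, tb, hp, hp2, hyo, hto, hinv⟩ := exists_inverted_prime (hAb.subgroup T) hnsT
  haveI := Fact.mk hp
  set ybar := (yb : G ⧸ R) with hybar
  have hybo : orderOf ybar = p := by rw [hybar, orderOf_coe]; exact hyo
  have hinvG : (tb : G ⧸ R) * ybar * (tb : G ⧸ R)⁻¹ = ybar⁻¹ := congrArg Subtype.val hinv
  -- the perfect normal subgroup centralising `O_p`
  set V := pCore p G with hV
  haveI hVn : V.Normal := sSup_normal _ fun _ h => h.1
  obtain ⟨n, hperf⟩ := exists_commSeries_perfect (centralizer (V : Set G))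
  set D := commSeries (centralizer (V : Set G)) n with hD
  haveI hDn : D.Normal := commSeries_normal _ n
  have hDV : D ≤ centralizer (V : Set G) := by
    have : ∀ m, commSeries (centralizer (V : Set G)) m ≤ centralizer (V : Set G) := by
      intro m
      induction m with
      | zero => exact le_rfl
      | succ m ih => exact (commSeries_anti _ m).trans ih
    exact this n
  have hpG : ∀ g : G, (∃ j, orderOf g = p ^ j) → g ∈ centralizer (V : Set G) := by
    rintro g ⟨j, hj⟩
    obtain ⟨P, hP⟩ := (IsPGroup.of_card (p := p) (n := j)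
      (show Nat.card (zpowers g) = p ^ j by rw [Nat.card_zpowers, hj])).exists_le_sylow
    rw [mem_centralizer_iff]
    intro v hv
    exact hA.commute P.isPGroup' (Lib.PSolvable.pCore_le_sylow P hv) (hP (mem_zpowers g))
  have hTD : T ≤ D.map π := by
    have h0 : T ≤ (centralizer (V : Set G)).map π := by
      have hsn : ((centralizer (V : Set G)).map π).IsSubnormal :=
        (Normal.map (inferInstance : (centralizer (V : Set G)).Normal) π hπ).isSubnormal
      by_contra hle
      have hc := Lib.Components.isComponent_le_centralizer_of_not_le hT hsn hle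
      obtain ⟨g, hg⟩ := hπ ybar
      obtain ⟨z, hz, hzy⟩ := Lib.Components.exists_pElement_lift π (isOfFinOrder_of_finite g)
        (k := 1) (p := p) (by rw [hg, hybo, pow_one])
      have hymem : ybar ∈ (centralizer (V : Set G)).map π :=
        ⟨g ^ z, hpG _ hz, hzy.trans hg⟩
      have hyc : yb ∈ center T := mem_center_iff.2 fun w =>
        Subtype.ext (mem_centralizer_iff.1 (hc w.2) ybar hymem).symm
      rw [hcen, mem_bot] at hyc
      rw [hyc, orderOf_one] at hyo
      exact hp.one_lt.ne hyo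
    have : ∀ m, T ≤ (commSeries (centralizer (V : Set G)) m).map π := by
      intro m
      induction m with
      | zero => exact h0
      | succ m ih =>
        rw [commSeries, map_commutator, ← Lib.Components.isComponent_commutator_self hT]
        exact commutator_mono ih ih
    exact this n
  set K := Cx ⊓ D with hK
  have hTK : T ≤ K.map π := by
    let f : D →* ↥(D.map π) :=
      (π.comp D.subtype).codRestrict (D.map π) fun d => mem_map_of_mem π d.2
    have hf : Function.Surjective f := by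
      rintro ⟨_, d, hd, rfl⟩
      exact ⟨⟨d, hd⟩, rfl⟩
    have hK0 : (Cx.subgroupOf D).index ∣ 2 ^ a := hx ▸ relIndex_dvd_index_of_normal_right
    have h1 : ((Cx.subgroupOf D).map f).index ∣ 2 ^ a := (index_map_dvd _ hf).trans hK0
    have heq : (Cx.subgroupOf D).map f = (K.map π).subgroupOf (D.map π) := by
      ext w
      constructor
      · rintro ⟨d, hd, rfl⟩
        exact ⟨(d : G), ⟨hd, d.2⟩, rfl⟩
      · rintro ⟨k, hk, hkw⟩
        exact ⟨⟨k, hk.2⟩, hk.1, Subtype.ext hkw⟩
    rw [heq] at h1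
    have h2 := (relIndex_dvd_of_isSubnormal ((K.map π).subgroupOf (D.map π))
      (T := T.subgroupOf (D.map π)) hT.1.subgroupOf).trans h1
    rw [relIndex_subgroupOf hTD] at h2
    obtain ⟨b, -, hb⟩ := (Nat.dvd_prime_pow Nat.prime_two).1 h2
    exact subgroupOf_eq_top.1 (eq_top_of_index_two_pow (hAb.subgroup T) hnsT _ hb)
  obtain ⟨g0, hg0, hg0y⟩ := hTK yb.2
  obtain ⟨z0, ⟨jy, hjy⟩, hzy⟩ := Lib.Components.exists_pElement_lift π (isOfFinOrder_of_finite g0)
    (k := 1) (p := p) (by rw [show π g0 = ybar from hg0y, hybo, pow_one])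
  set y := g0 ^ z0 with hy
  have hyK : y ∈ K := K.pow_mem hg0 z0
  have hyπ : π y = ybar := hzy.trans hg0y
  have hxy : Commute x y := (mem_centralizer_singleton_iff.1 hyK.1).symm
  set z := x * y with hz
  -- `2`-elements of the radical commuting with `xy` commute with `x`
  have hclaim : ∀ u ∈ R, (∃ j : ℕ, orderOf u = 2 ^ j) → Commute u z → Commute u x := by
    intro u hu hu2 huz
    obtain ⟨i, m, hpm, hn⟩ :=
      Nat.exists_eq_pow_mul_and_not_dvd (orderOf_pos x).ne' p hp.ne_one
    have hA1 : Commute u (x ^ p ^ (i + jy)) := by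
      have h1 : z ^ p ^ (i + jy) = x ^ p ^ (i + jy) := by
        rw [hz, hxy.mul_pow, show y ^ p ^ (i + jy) = 1 from
          orderOf_dvd_iff_pow_eq_one.1 (hjy ▸ pow_dvd_pow p (Nat.le_add_left jy i)), mul_one]
      exact h1 ▸ huz.pow_right _
    have hB1 : Commute u (x ^ m) := by
      refine commute_of_commute_mul hA hR hperf hDV (b := y ^ m) ?_ ⟨i, ?_⟩
        (D.pow_mem hyK.2 m) (hxy.pow_pow m m) hu hu2 ?_
      · intro o ho
        haveI : (pPrimeCore 2 G).Normal := sSup_normal _ fun _ h => h.1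
        have hle : pPrimeCore 2 G ≤ Cx :=
          le_of_odd_normal (Nat.coprime_two_right.1 Lib.PSolvable.pPrimeCore_coprime) hx
        exact (show Commute x o from (mem_centralizer_singleton_iff.1 (hle ho)).symm).pow_left m
      · rw [← pow_mul, mul_comm m, ← hn, pow_orderOf_eq_one]
      · rw [← hxy.mul_pow]
        exact huz.pow_right m
    have hK1 := mem_of_pow_mem_pow_mem (centralizer ({u} : Set G))
      (show (p ^ (i + jy)).Coprime m from (hp.coprime_iff_not_dvd.2 hpm).pow_left _)
      (mem_centralizer_singleton_iff.2 hA1.symm.eq) (mem_centralizer_singleton_iff.2 hB1.symm.eq)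
    exact (mem_centralizer_singleton_iff.1 hK1).symm
  -- the Sylow `2`-subgroup of the centraliser of `xy`
  set Cz := centralizer ({z} : Set G) with hCz
  obtain ⟨Qs⟩ : Nonempty (Sylow 2 Cz) := inferInstance
  set Q := (Qs : Subgroup Cz).map Cz.subtype with hQ
  have hQp : IsPGroup 2 Q := Qs.isPGroup'.map _
  have hQz : ∀ g ∈ Q, Commute g z := by
    rintro g ⟨c, -, rfl⟩
    exact mem_centralizer_singleton_iff.1 c.2
  have hker : π.ker = R := QuotientGroup.ker_mk' R
  have hQRle : Q ⊓ R ≤ Cx := by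
    intro g hg
    obtain ⟨k, hk⟩ := hQp.exists_card_eq
    obtain ⟨i, -, hi⟩ := (Nat.dvd_prime_pow Nat.prime_two).1
      (hk ▸ Q.orderOf_dvd_natCard hg.1)
    exact mem_centralizer_singleton_iff.2 (hclaim g hg.2 ⟨i, hi⟩ (hQz g hg.1)).eq
  obtain ⟨S1, hS1⟩ := ((hQp.to_le (inf_le_left : Q ⊓ R ≤ Q)).comap_of_injective Cx.subtype
    Cx.subtype_injective).exists_le_sylow
  set Q1 := (S1 : Subgroup Cx).map Cx.subtype with hQ1
  have hQR1 : Q ⊓ R ≤ Q1 ⊓ R := fun g hg =>
    ⟨⟨⟨g, hQRle hg⟩, hS1 hg, rfl⟩, hg.2⟩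
  let f1 : Cx →* ↥(Cx.map π) :=
    (π.comp Cx.subtype).codRestrict (Cx.map π) fun c => mem_map_of_mem π c.2
  have hf1 : Function.Surjective f1 := by
    rintro ⟨_, c, hc, rfl⟩
    exact ⟨⟨c, hc⟩, rfl⟩
  have hQ1map : Nat.card (S : Subgroup (G ⧸ R)) ≤ Nat.card (Q1.map π) := by
    let S1' := S1.mapSurjective hf1
    have hc1 : Nat.card (S1' : Subgroup (Cx.map π)) =
        Nat.card ((S.subtype hSH : Sylow 2 (Cx.map π)) : Subgroup (Cx.map π)) := by
      rw [S1'.card_eq_multiplicity, (S.subtype hSH).card_eq_multiplicity]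
    have hc2 : Nat.card ((S.subtype hSH : Sylow 2 (Cx.map π)) : Subgroup (Cx.map π)) =
        Nat.card (S : Subgroup (G ⧸ R)) := by
      rw [Sylow.coe_subtype]
      exact Nat.card_congr (subgroupOfEquivOfLe hSH).toEquiv
    rw [← hc2, ← hc1, ← card_map_of_injective (K := (S1' : Subgroup (Cx.map π)))
      (Cx.map π).subtype_injective]
    refine card_le_of_le ?_
    rintro w ⟨c, hc, rfl⟩
    have hc' : c ∈ (S1 : Subgroup Cx).map f1 := hc
    obtain ⟨d, hd, rfl⟩ := hc'
    exact ⟨(d : G), ⟨d, hd, rfl⟩, rfl⟩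
  have hQmap : 2 * Nat.card (Q.map π) ≤ Nat.card (S : Subgroup (G ⧸ R)) := by
    refine card_lt_of_centralizes hAb (τ := (tb : G ⧸ R)) ?_ ?_
      ⟨1, by rw [orderOf_coe, hto, pow_one]⟩ hinvG (hQp.map π) ?_ S
    · rw [hybo]; exact hp.odd_of_ne_two hp2
    · intro h
      rw [h, orderOf_one] at hybo
      exact hp.one_lt.ne hybo
    · rintro _ ⟨g, hg, rfl⟩
      have hzπ : π z = ybar := by
        rw [hz, map_mul, show π x = 1 from (QuotientGroup.eq_one_iff x).2 hxR, one_mul, hyπ]
      rw [mem_centralizer_singleton_iff, ← hzπ, ← map_mul, ← map_mul, (hQz g hg).eq]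
  have hkey : 2 * Nat.card Q ≤ Nat.card Q1 := by
    rw [card_eq_inf_mul_map π Q, card_eq_inf_mul_map π Q1, hker]
    calc 2 * (Nat.card ↥(Q ⊓ R) * Nat.card (Q.map π))
        = Nat.card ↥(Q ⊓ R) * (2 * Nat.card (Q.map π)) := by ring
      _ ≤ Nat.card ↥(Q1 ⊓ R) * Nat.card (Q1.map π) :=
        Nat.mul_le_mul (card_le_of_le hQR1) (hQmap.trans hQ1map)
  rw [hQ, hQ1, card_map_of_injective Cz.subtype_injective,
    card_map_of_injective Cx.subtype_injective, Qs.card_eq_multiplicity,
    S1.card_eq_multiplicity, ← pow_succ'] at hkey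
  have hv : (Nat.card Cz).factorization 2 + 1 ≤ (Nat.card Cx).factorization 2 :=
    (Nat.pow_le_pow_iff_right one_lt_two).1 hkey
  have hmul := (Cz.card_mul_index).trans Cx.card_mul_index.symm
  have hf := congrArg (fun N : ℕ => N.factorization 2) hmul
  simp only [hx] at hf
  rw [Nat.factorization_mul Nat.card_pos.ne' FiniteIndex.index_ne_zero,
    Nat.factorization_mul Nat.card_pos.ne' (by positivity), Finsupp.add_apply, Finsupp.add_apply,
    Nat.prime_two.factorization_pow, Finsupp.single_eq_same] at hf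
  exact hmax z ((Nat.prime_two.pow_dvd_iff_le_factorization FiniteIndex.index_ne_zero).2
    (by rw [← hCz]; omega))

end Cfsg.Agent.Lib.AGroupIndex
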