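import Mathlib
import Cfsg.Prelude.Def_Solvable
import Cfsg.Agent.Lib.Core.Fitting
import Cfsg.Agent.Lib.Involution.Basic

/-!
# Finite groups all of whose Sylow subgroups are abelian: basic tools
-/

set_option autoImplicit false

universe u

namespace Cfsg.Agent.Lib.AGroupIndex

open Subgroup

/-- All Sylow subgroups are commutative. -/
def IsAGroup (G : Type*) [Group G] : Prop :=
  ∀ (p : ℕ) [Fact p.Prime] (P : Sylow p G), IsMulCommutative (P : Subgroup G)

variable {G : Type*} [Group G]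

theorem IsAGroup.commute (hA : IsAGroup G) {p : ℕ} [Fact p.Prime] {Q : Subgroup G}
    (hQ : IsPGroup p Q) {a b : G} (ha : a ∈ Q) (hb : b ∈ Q) : a * b = b * a := by
  obtain ⟨P, hP⟩ := hQ.exists_le_sylow
  exact congrArg Subtype.val ((hA p P).is_comm.comm ⟨a, hP ha⟩ ⟨b, hP hb⟩)

theorem IsAGroup.subgroup (hA : IsAGroup G) (H : Subgroup G) : IsAGroup H := by
  intro p _ P
  have hQ : IsPGroup p ((P : Subgroup H).map H.subtype) := P.isPGroup'.map _
  exact ⟨⟨fun a b => Subtype.ext (Subtype.ext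
    (hA.commute hQ (mem_map_of_mem _ a.2) (mem_map_of_mem _ b.2)))⟩⟩

theorem IsAGroup.of_surjective [Finite G] {H : Type*} [Group H] (hA : IsAGroup G) {f : G →* H}
    (hf : Function.Surjective f) : IsAGroup H := by
  intro p _ P
  obtain ⟨Q, hQ⟩ := Sylow.mapSurjective_surjective hf p P
  refine ⟨⟨fun a b => Subtype.ext ?_⟩⟩
  have ha : (a : H) ∈ ((Q.mapSurjective hf : Sylow p H) : Subgroup H) := by rw [hQ]; exact a.2
  have hb : (b : H) ∈ ((Q.mapSurjective hf : Sylow p H) : Subgroup H) := by rw [hQ]; exact b.2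
  rw [Sylow.coe_mapSurjective] at ha hb
  obtain ⟨x, hx, hxa⟩ := mem_map.1 ha
  obtain ⟨y, hy, hyb⟩ := mem_map.1 hb
  show (a : H) * b = b * a
  rw [← hxa, ← hyb, ← map_mul, ← map_mul, hA.commute Q.isPGroup' hx hy]

theorem odd_of_dvd {a b : ℕ} (h : a ∣ b) (hb : Odd b) : Odd a := hb.of_dvd_nat h

theorem eq_one_of_odd_of_two_pow {n k : ℕ} (hn : Odd n) (h : n ∣ 2 ^ k) : n = 1 := by
  have h2 : n.Coprime (2 ^ k) := (Nat.coprime_two_right.2 hn).pow_right k
  exact Nat.Coprime.eq_one_of_dvd h2 h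

theorem relIndex_dvd_index_of_normal_right [Finite G] {N M : Subgroup G} [N.Normal] :
    M.relIndex N ∣ M.index := by
  refine ⟨(N ⊔ M).index, mul_left_cancel₀ (FiniteIndex.index_ne_zero (H := N.subgroupOf M)) ?_⟩
  change N.relIndex M * M.index = N.relIndex M * (M.relIndex N * (N ⊔ M).index)
  rw [mul_left_comm, ← relIndex_sup_left (H := M) (K := N), relIndex_mul_index le_sup_left,
    relIndex_sup_left, ← inf_relIndex_left (H := M) (K := N), relIndex_mul_index inf_le_left,
    ← inf_relIndex_right, relIndex_mul_index inf_le_right]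

/-- A normal subgroup of odd order lies in every subgroup of `2`-power index. -/
theorem le_of_odd_normal [Finite G] {N M : Subgroup G} [N.Normal] (hN : Odd (Nat.card N)) {k : ℕ}
    (hM : M.index = 2 ^ k) : N ≤ M := by
  rw [← relIndex_eq_one]
  refine eq_one_of_odd_of_two_pow (hN.of_dvd_nat ?_) (k := k) ?_
  · exact relIndex_dvd_card M N
  · rw [← hM]; exact relIndex_dvd_index_of_normal_right

/-- An element of odd order in `M`: powers of two never divide it. -/
theorem odd_orderOf [Finite G] {M : Subgroup G} (hM : Odd (Nat.card M)) {g : G} (hg : g ∈ M) :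
    Odd (orderOf g) :=
  hM.of_dvd_nat (M.orderOf_dvd_natCard hg)

theorem eq_one_of_odd_of_sq {g : G} (ho : Odd (orderOf g)) (h : g * g = 1) : g = 1 := by
  rw [← orderOf_eq_one_iff]
  have h2 : orderOf g ∣ 2 ^ 1 := by
    rw [pow_one]; exact orderOf_dvd_of_pow_eq_one (by rw [pow_two, h])
  exact eq_one_of_odd_of_two_pow ho h2

theorem eq_one_of_odd_of_mem_pGroup [Finite G] {S : Subgroup G} (hS : IsPGroup 2 S) {g : G}
    (ho : Odd (orderOf g)) (hg : g ∈ S) : g = 1 := by
  rw [← orderOf_eq_one_iff]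
  obtain ⟨k, hk⟩ := hS.exists_card_eq
  exact eq_one_of_odd_of_two_pow (k := k) ho (hk ▸ S.orderOf_dvd_natCard hg)

/-- An element of odd order in the subgroup generated by the square. -/
theorem mem_of_sq_mem {K : Subgroup G} {g : G} (ho : Odd (orderOf g)) (h : g * g ∈ K) : g ∈ K := by
  obtain ⟨j, hj⟩ := ho
  have e : g = (g * g) ^ (j + 1) := by
    rw [← pow_two, ← pow_mul, show 2 * (j + 1) = orderOf g + 1 by omega, pow_succ,
      pow_orderOf_eq_one, one_mul]
  rw [e]; exact K.pow_mem h _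

/-- A Sylow subgroup of a soluble group which is abelian and centralises every normal subgroup of
order prime to `p` is normal. -/
theorem sylow_normal_of_centralizes [Finite G] [Group.IsSolvable G] {p : ℕ} [Fact p.Prime]
    (P : Sylow p G) (hP : IsMulCommutative (P : Subgroup G))
    (h : ∀ N : Subgroup G, N.Normal → ¬ p ∣ Nat.card N →
      (P : Subgroup G) ≤ centralizer (N : Set G)) : (P : Subgroup G).Normal := by
  have hle : (P : Subgroup G) ≤ fittingSubgroup G := by
    refine le_trans ?_ Lib.Fitting.centralizer_fittingSubgroup_le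
    rw [le_centralizer_iff, Lib.Fitting.fittingSubgroup_eq_iSup_pCore]
    refine iSup_le fun q' => ?_
    obtain ⟨q, hq⟩ := q'
    show pCore q G ≤ _
    haveI := Fact.mk hq
    rw [le_centralizer_iff]
    rcases eq_or_ne q p with rfl | hne
    · intro a ha b hb
      have hle : pCore q G ≤ (P : Subgroup G) := Lib.PSolvable.pCore_le_sylow P
      exact congrArg Subtype.val (hP.is_comm.comm ⟨b, hle hb⟩ ⟨a, ha⟩)
    · refine h _ (Subgroup.sSup_normal _ fun _ h => h.1) fun hdvd => ?_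
      obtain ⟨k, hk⟩ := (Lib.PSolvable.pCore_isPGroup (p := q) (G := G)).exists_card_eq
      rw [hk] at hdvd
      exact hne ((Nat.prime_dvd_prime_iff_eq (Fact.out : p.Prime) hq).1
        ((Fact.out : p.Prime).dvd_of_dvd_pow hdvd)).symm
  haveI hFn : (fittingSubgroup G).Normal := Lib.Fitting.fittingSubgroup_normal
  haveI := Lib.Fitting.isNilpotent_fittingSubgroup (G := G)
  let Q : Sylow p (fittingSubgroup G) := P.subtype hle
  haveI : (Q : Subgroup (fittingSubgroup G)).Normal := by infer_instance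
  haveI hc : (Q : Subgroup (fittingSubgroup G)).Characteristic := Sylow.characteristic_of_normal Q inferInstance
  have := ConjAct.normal_of_characteristic_of_normal (H := fittingSubgroup G) (K := (Q : Subgroup (fittingSubgroup G)))
  rwa [Sylow.coe_subtype, map_subgroupOf_eq_of_le hle] at this

/-- The extended centraliser of `y`: elements mapping `y` to itself or to its inverse. -/
def extCentralizer (y : G) : Subgroup G where
  carrier := {g | g * y * g⁻¹ = y ∨ g * y * g⁻¹ = y⁻¹}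
  one_mem' := Or.inl (by simp)
  mul_mem' := fun {a b} ha hb => by
    have e : ∀ z : G, a * b * z * (a * b)⁻¹ = a * (b * z * b⁻¹) * a⁻¹ := fun z => by group
    have e2 : a * y⁻¹ * a⁻¹ = (a * y * a⁻¹)⁻¹ := by group
    simp only [Set.mem_setOf_eq] at *
    rw [e]
    rcases hb with hb | hb <;> rw [hb]
    · exact ha
    · rcases ha with ha | ha <;> rw [e2, ha]
      · exact Or.inr rfl
      · exact Or.inl (inv_inv y)
  inv_mem' := fun {a} ha => by
    simp only [Set.mem_setOf_eq, inv_inv] at *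
    rcases ha with ha | ha
    · left
      calc a⁻¹ * y * a = a⁻¹ * (a * y * a⁻¹) * a := by rw [ha]
        _ = y := by group
    · right
      calc a⁻¹ * y * a = (a⁻¹ * y⁻¹ * a)⁻¹ := by group
        _ = (a⁻¹ * (a * y * a⁻¹) * a)⁻¹ := by rw [ha]
        _ = y⁻¹ := by group

theorem mem_extCentralizer {y g : G} :
    g ∈ extCentralizer y ↔ g * y * g⁻¹ = y ∨ g * y * g⁻¹ = y⁻¹ := Iff.rfl

/-- An element of odd order normalising a `2`-subgroup commutes with what it inverts there. -/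
theorem eq_one_of_sq_mem [Finite G] {T : Subgroup G} (hT : IsPGroup 2 T) {y : G}
    (ho : Odd (orderOf y)) (h : y * y ∈ T) : y = 1 :=
  eq_one_of_odd_of_mem_pGroup hT ho (mem_of_sq_mem ho h)

/-- If `s` is an involution whose centraliser normalises a `2`-subgroup containing all `2`-subgroups
through `s` of that centraliser, no element of odd order commuting with `s` is inverted by a
`2`-element. -/
theorem eq_one_of_inverted [Finite G] (hA : IsAGroup G) {s : G} (hs : orderOf s = 2) {T : Subgroup G}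
    (hT : IsPGroup 2 T) (hTn : centralizer ({s} : Set G) ≤ normalizer (T : Set G))
    (hTmax : ∀ Q : Subgroup G, IsPGroup 2 Q → Q ≤ centralizer ({s} : Set G) → Q ≤ T)
    {y τ : G} (hy : Odd (orderOf y)) (hsy : Commute s y) (hτ : ∃ j : ℕ, orderOf τ = 2 ^ j)
    (hinv : τ * y * τ⁻¹ = y⁻¹) : y = 1 := by
  haveI : Fact (Nat.Prime 2) := ⟨Nat.prime_two⟩
  set C := extCentralizer y with hC
  have hsC : s ∈ C := by
    left
    rw [hsy.eq, mul_assoc, mul_inv_cancel, mul_one]
  have hτC : τ ∈ C := Or.inr hinv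
  have hp : ∀ {g : G}, (∃ j : ℕ, orderOf g = 2 ^ j) → g ∈ C →
      IsPGroup 2 ((zpowers g).subgroupOf C) := by
    intro g hg hgC
    obtain ⟨j, hj⟩ := hg
    refine IsPGroup.of_card (n := j) ?_
    rw [Nat.card_congr (subgroupOfEquivOfLe ((zpowers_le).2 hgC)).toEquiv, Nat.card_zpowers, hj]
  obtain ⟨P1, hP1⟩ := (hp ⟨1, by rw [hs, pow_one]⟩ hsC).exists_le_sylow
  obtain ⟨Pτ, hPτ⟩ := (hp hτ hτC).exists_le_sylow
  obtain ⟨g, hg⟩ := MulAction.exists_smul_eq C Pτ P1
  set τ1 : C := g * ⟨τ, hτC⟩ * g⁻¹ with hτ1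
  have hτ1P : τ1 ∈ (P1 : Subgroup C) := by
    rw [← hg, Sylow.coe_subgroup_smul]
    exact ⟨⟨τ, hτC⟩, hPτ (mem_zpowers τ), rfl⟩
  let P1' : Subgroup G := (P1 : Subgroup C).map C.subtype
  have hP1' : IsPGroup 2 P1' := P1.isPGroup'.map _
  have hsP : s ∈ P1' := ⟨⟨s, hsC⟩, hP1 (mem_zpowers s), rfl⟩
  have hP1T : P1' ≤ T := by
    refine hTmax P1' hP1' fun x hx => ?_
    rw [mem_centralizer_singleton_iff]
    exact (hA.commute hP1' hx hsP)
  have hτT : (τ1 : G) ∈ T := hP1T ⟨τ1, hτ1P, rfl⟩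
  have hinv1 : (τ1 : G) * y * (τ1 : G)⁻¹ = y⁻¹ := by
    have e1 : (τ1 : G) * y * (τ1 : G)⁻¹ =
        (g : G) * (τ * ((g : G)⁻¹ * y * g) * τ⁻¹) * (g : G)⁻¹ := by
      simp only [hτ1, coe_mul, coe_inv]; group
    rw [e1]
    rcases (g.2 : (g : G) * y * (g : G)⁻¹ = y ∨ (g : G) * y * (g : G)⁻¹ = y⁻¹) with h | h
    · have h' : (g : G)⁻¹ * y * g = y := by
        conv_lhs => rw [← h]
        group
      rw [h', hinv]
      calc (g : G) * y⁻¹ * (g : G)⁻¹ = ((g : G) * y * (g : G)⁻¹)⁻¹ := by group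
        _ = _ := by rw [h]
    · have h' : (g : G)⁻¹ * y * g = y⁻¹ := by
        have h1 : y = ((g : G) * y * (g : G)⁻¹)⁻¹ := by rw [h, inv_inv]
        conv_lhs => rw [h1]
        group
      rw [h', show τ * y⁻¹ * τ⁻¹ = (τ * y * τ⁻¹)⁻¹ by group, hinv, inv_inv, h]
  refine eq_one_of_sq_mem hT hy ?_
  have hyn : y ∈ normalizer (T : Set G) := hTn (mem_centralizer_singleton_iff.2 hsy.eq.symm)
  have h1 : y * (τ1 : G) * y⁻¹ * (τ1 : G)⁻¹ ∈ T :=
    T.mul_mem ((mem_normalizer_iff.1 hyn _).1 hτT) (T.inv_mem hτT)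
  have e : y * (τ1 : G) * y⁻¹ * (τ1 : G)⁻¹ = y * ((τ1 : G) * y * (τ1 : G)⁻¹)⁻¹ := by group
  rwa [e, hinv1, inv_inv] at h1

end Cfsg.Agent.Lib.AGroupIndex
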