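import Cfsg.Agent.Lib.AGroupIndex.Basic
import Cfsg.Agent.S0205

/-!
# An odd A-group transitive on the nonzero vectors of an elementary abelian `2`-group
-/

set_option autoImplicit false

universe u

namespace Cfsg.Agent.Lib.AGroupIndex

open Subgroup

/-- A nilpotent finite A-group is abelian. -/
theorem IsAGroup.comm_of_isNilpotent {G : Type*} [Group G] [Finite G] (hA : IsAGroup G)
    (hn : Group.IsNilpotent G) (a b : G) : a * b = b * a := by
  obtain ⟨e⟩ := ((Group.isNilpotent_of_finite_tfae (G := G)).out 0 4).mp hn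
  obtain ⟨x, rfl⟩ := e.surjective a
  obtain ⟨y, rfl⟩ := e.surjective b
  rw [← map_mul, ← map_mul]
  congr 1
  funext p P
  haveI : Fact (p : ℕ).Prime := ⟨Nat.prime_of_mem_primeFactors p.2⟩
  exact (hA p P).is_comm.comm (x p P) (y p P)

/-- The fixed field of a finite group of automorphisms of a finite field. -/
theorem card_eq_pow_card {D : Type u} [Field D] [Finite D] (G : Subgroup (RingAut D))
    (h : ∀ d : D, (∀ σ ∈ G, σ d = d) → d = 0 ∨ d = 1) : Nat.card D = 2 ^ Nat.card G := by
  classical
  haveI : Finite (RingAut D) := Finite.of_injective (fun σ : RingAut D => (σ : D → D))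
    fun a b h => RingEquiv.ext (congrFun h)
  haveI : Fintype G := Fintype.ofFinite G
  haveI : Finite (RingAut D) := inferInstance
  haveI : FaithfulSMul G D := ⟨fun {a b} h => Subtype.ext (RingEquiv.ext fun x => h x)⟩
  have h2 : Nat.card (FixedPoints.subfield G D) = 2 := by
    rw [Nat.card_eq_two_iff]
    refine ⟨0, 1, zero_ne_one, ?_⟩
    rw [Set.eq_univ_iff_forall]
    intro d
    rcases h d.1 (fun σ hσ => d.2 ⟨σ, hσ⟩) with h' | h'
    · exact Or.inl (Subtype.ext h')
    · exact Or.inr (Subtype.ext h')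
  rw [Module.natCard_eq_pow_finrank (K := FixedPoints.subfield G D) (V := D), h2,
    FixedPoints.finrank_eq_card, Nat.card_eq_fintype_card]

/-- An odd A-group acting faithfully and transitively on the nonzero vectors of an elementary
abelian `2`-group, in which an element of prime order `r` fixes a single nonzero vector `t`: the
stabiliser of `t` has order `r`, and there are at least `2 ^ r` vectors. -/
theorem fieldBound {V : Type u} [AddCommGroup V] [Finite V] (hV2 : ∀ v : V, v + v = 0)
    {K : Type u} [Group K] [Finite K] [DistribMulAction K V] [FaithfulSMul K V]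
    (hKodd : Odd (Nat.card K)) (hKA : IsAGroup K)
    (htr : ∀ v w : V, v ≠ 0 → w ≠ 0 → ∃ k : K, k • v = w) {t : V} (ht : t ≠ 0) {u : K} {r : ℕ}
    (hr : r.Prime) (hur : orderOf u = r) (hut : u • t = t)
    (hfix : ∀ v : V, u • v = v → v = 0 ∨ v = t) :
    Nat.card (MulAction.stabilizer K t) = r ∧ 2 ^ r ≤ Nat.card V := by
  classical
  haveI : Group.IsSolvable K := Cfsg.Agent.S0205.result hKodd
  set F := Cfsg.fittingSubgroup K with hF
  haveI hFn : F.Normal := Lib.Fitting.fittingSubgroup_normal
  have hFc : ∀ a ∈ F, ∀ b ∈ F, a * b = b * a := fun a ha b hb =>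
    congrArg Subtype.val ((hKA.subgroup F).comm_of_isNilpotent
      Lib.Fitting.isNilpotent_fittingSubgroup ⟨a, ha⟩ ⟨b, hb⟩)
  have hCF : centralizer (F : Set K) ≤ F := Lib.Fitting.centralizer_fittingSubgroup_le
  set φ := DistribMulAction.toAddMonoidEnd K V with hφ
  have hφs : ∀ (k : K) (v : V), φ k v = k • v := fun _ _ => rfl
  set D : Subring (AddMonoid.End V) := Subring.closure (φ '' (F : Set K)) with hD
  haveI : Finite (AddMonoid.End V) := Finite.of_injective (fun f : AddMonoid.End V => (f : V → V))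
    DFunLike.coe_injective
  haveI hDc : IsMulCommutative D := Subring.isMulCommutative_closure (by
    rintro _ ⟨a, ha, rfl⟩ _ ⟨b, hb, rfl⟩
    rw [← map_mul, ← map_mul, hFc a ha b hb])
  have hDcomm : ∀ d ∈ D, ∀ e ∈ D, d * e = e * d := fun d hd e he =>
    congrArg Subtype.val (hDc.is_comm.comm ⟨d, hd⟩ ⟨e, he⟩)
  have hmul : ∀ (d e : AddMonoid.End V) (v : V), (d * e) v = d (e v) := fun _ _ _ => rfl
  -- `K` normalises `D`
  have hconj : ∀ (k : K) (d : AddMonoid.End V), d ∈ D → φ k * d * φ k⁻¹ ∈ D := by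
    intro k d hd
    induction hd using Subring.closure_induction with
    | mem x hx =>
      obtain ⟨a, ha, rfl⟩ := hx
      rw [← map_mul, ← map_mul]
      exact Subring.subset_closure ⟨_, hFn.conj_mem a ha k, rfl⟩
    | zero => simp only [mul_zero, zero_mul]; exact D.zero_mem
    | one => rw [mul_one, ← map_mul, mul_inv_cancel, map_one]; exact D.one_mem
    | add x y _ _ hx hy => rw [mul_add, add_mul]; exact D.add_mem hx hy
    | neg x _ hx => rw [mul_neg, neg_mul]; exact D.neg_mem hx
    | mul x y _ _ hx hy =>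
      have e : φ k * (x * y) * φ k⁻¹ = (φ k * x * φ k⁻¹) * (φ k * y * φ k⁻¹) := by
        have h1 : φ k⁻¹ * φ k = 1 := by rw [← map_mul, inv_mul_cancel, map_one]
        rw [show (φ k * x * φ k⁻¹) * (φ k * y * φ k⁻¹) = φ k * x * (φ k⁻¹ * φ k) * y * φ k⁻¹ by
          simp only [mul_assoc], h1, mul_one]
        simp only [mul_assoc]
      rw [e]; exact D.mul_mem hx hy
  -- annihilators have constant size
  let Ann : V → Set D := fun v => {d : D | d.1 v = 0}
  have hAnn_le : ∀ v w : V, v ≠ 0 → w ≠ 0 → (Ann v).ncard ≤ (Ann w).ncard := by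
    intro v w hv hw
    obtain ⟨k, hk⟩ := htr v w hv hw
    refine Set.ncard_le_ncard_of_injOn
      (fun d : D => (⟨φ k * d.1 * φ k⁻¹, hconj k _ d.2⟩ : D)) (fun d hd => ?_) ?_
    · show (φ k * d.1 * φ k⁻¹) w = 0
      rw [hmul, hmul, ← hk, hφs k⁻¹, inv_smul_smul, show d.1 v = 0 from hd, map_zero]
    · intro d _ e _ hde
      have h := congrArg (fun x : D => φ k⁻¹ * x.1 * φ k) hde
      simp only [← mul_assoc, ← map_mul, inv_mul_cancel, map_one, one_mul] at h
      simp only [mul_assoc, ← map_mul, inv_mul_cancel, map_one, mul_one] at h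
      exact Subtype.ext h
  have hAnn_eq : ∀ v w : V, v ≠ 0 → w ≠ 0 → Ann v = Ann w := by
    intro v w hv hw
    by_contra hne
    have hvw : v + w ≠ 0 := by
      intro h
      refine hne ?_
      rw [show v = w from add_right_cancel (h.trans (hV2 w).symm)]
    have hsub : Ann (v + w) ⊆ Ann v ∩ Ann w := by
      intro d hd
      have hdd : d.1 v = d.1 w := add_right_cancel
        ((show d.1 v + d.1 w = 0 by rw [← map_add]; exact hd).trans (hV2 (d.1 w)).symm)
      have hx : d.1 v = 0 := by
        by_contra hx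
        have h1 : Ann v ⊆ Ann (d.1 v) := fun e he => by
          show e.1 (d.1 v) = 0
          rw [← hmul, hDcomm _ e.2 _ d.2, hmul, show e.1 v = 0 from he, map_zero]
        have h2 : Ann w ⊆ Ann (d.1 v) := fun e he => by
          show e.1 (d.1 v) = 0
          rw [hdd, ← hmul, hDcomm _ e.2 _ d.2, hmul, show e.1 w = 0 from he, map_zero]
        exact hne ((Set.eq_of_subset_of_ncard_le h1 (hAnn_le _ _ hx hv)).trans
          (Set.eq_of_subset_of_ncard_le h2 (hAnn_le _ _ hx hw)).symm)
      exact ⟨hx, (show d.1 w = 0 from hdd ▸ hx)⟩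
    have h1 := Set.eq_of_subset_of_ncard_le (fun d hd => (hsub hd).1) (hAnn_le v _ hv hvw)
    have h2 := Set.eq_of_subset_of_ncard_le (fun d hd => (hsub hd).2) (hAnn_le w _ hw hvw)
    exact hne (h1.symm.trans h2)
  have hinj : ∀ d : D, ∀ v : V, v ≠ 0 → d.1 v = 0 → d = 0 := by
    intro d v hv hd
    refine Subtype.ext (DFunLike.ext _ _ fun w => ?_)
    show d.1 w = 0
    by_cases hw : w = 0
    · rw [hw, map_zero]
    · have : d ∈ Ann w := hAnn_eq v w hv hw ▸ hd
      exact this
  -- `D` is a field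
  have h01 : (1 : D) ≠ 0 := fun h => ht (by
    have h' := congrArg (fun x : D => x.1 t) h
    exact h')
  letI : CommRing D :=
    { (inferInstance : Ring D) with
      mul_comm := fun a b => Subtype.ext (hDcomm _ a.2 _ b.2) }
  haveI : Nontrivial D := ⟨⟨1, 0, h01⟩⟩
  haveI : NoZeroDivisors D := ⟨fun {a b} hab => by
    by_cases hb : b = 0
    · exact Or.inr hb
    · refine Or.inl (hinj a (b.1 t) (fun h => hb (hinj b t ht h)) ?_)
      rw [← hmul]
      exact congrArg (fun x : D => x.1 t) hab⟩
  haveI : IsDomain D := NoZeroDivisors.to_isDomain _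
  letI : Field D := (Finite.isField_of_domain D).toField
  haveI : Finite (RingAut D) := Finite.of_injective (fun σ : RingAut D => (σ : D → D))
    fun a b h => RingEquiv.ext (congrFun h)
  have hDle : Nat.card D ≤ Nat.card V := Nat.card_le_card_of_injective (fun d : D => d.1 t)
    fun a b h => sub_eq_zero.1 (hinj (a - b) t ht (by
      show a.1 t - b.1 t = 0
      exact sub_eq_zero.2 h))
  have hFle : Nat.card F + 1 ≤ Nat.card D := by
    rw [← Finite.card_option]
    refine Nat.card_le_card_of_injective (fun x : Option F => x.elim 0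
      fun a => (⟨φ a, Subring.subset_closure ⟨a, a.2, rfl⟩⟩ : D)) ?_
    have hne : ∀ a : F, (⟨φ a, Subring.subset_closure ⟨a, a.2, rfl⟩⟩ : D) ≠ 0 := fun a h => ht (by
      have h' : (a : K) • t = 0 := congrArg (fun x : D => x.1 t) h
      exact (smul_eq_zero_iff_eq _).1 h')
    intro x y h
    rcases x with _ | a <;> rcases y with _ | b
    · rfl
    · exact absurd h.symm (hne b)
    · exact absurd h (hne a)
    · refine congrArg some (Subtype.ext (FaithfulSMul.eq_of_smul_eq_smul fun v : V => ?_))
      exact congrArg (fun x : D => x.1 v) h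
  -- conjugation
  let ψ : K →* RingAut D :=
    { toFun := fun k =>
        { toFun := fun d => ⟨φ k * d.1 * φ k⁻¹, hconj k _ d.2⟩
          invFun := fun d => ⟨φ k⁻¹ * d.1 * φ k⁻¹⁻¹, hconj k⁻¹ _ d.2⟩
          left_inv := fun d => Subtype.ext (by
            show φ k⁻¹ * (φ k * d.1 * φ k⁻¹) * φ k⁻¹⁻¹ = d.1
            simp only [inv_inv, mul_assoc, ← map_mul, inv_mul_cancel, map_one, mul_one]
            rw [← mul_assoc, ← map_mul, inv_mul_cancel, map_one, one_mul])
          right_inv := fun d => Subtype.ext (by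
            show φ k * (φ k⁻¹ * d.1 * φ k⁻¹⁻¹) * φ k⁻¹ = d.1
            simp only [inv_inv, mul_assoc, ← map_mul, mul_inv_cancel, map_one, mul_one]
            rw [← mul_assoc, ← map_mul, mul_inv_cancel, map_one, one_mul])
          map_mul' := fun a b => Subtype.ext (by
            show φ k * (a.1 * b.1) * φ k⁻¹ = (φ k * a.1 * φ k⁻¹) * (φ k * b.1 * φ k⁻¹)
            have h1 : φ k⁻¹ * φ k = 1 := by rw [← map_mul, inv_mul_cancel, map_one]
            rw [show (φ k * a.1 * φ k⁻¹) * (φ k * b.1 * φ k⁻¹) =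
              φ k * a.1 * (φ k⁻¹ * φ k) * b.1 * φ k⁻¹ by simp only [mul_assoc], h1, mul_one]
            simp only [mul_assoc])
          map_add' := fun a b => Subtype.ext (by
            show φ k * (a.1 + b.1) * φ k⁻¹ = φ k * a.1 * φ k⁻¹ + φ k * b.1 * φ k⁻¹
            rw [mul_add, add_mul]) }
      map_one' := RingEquiv.ext fun d => Subtype.ext (by
        show φ 1 * d.1 * φ (1 : K)⁻¹ = d.1
        rw [inv_one, map_one, one_mul, mul_one])
      map_mul' := fun a b => RingEquiv.ext fun d => Subtype.ext (by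
        show φ (a * b) * d.1 * φ (a * b)⁻¹ = φ a * (φ b * d.1 * φ b⁻¹) * φ a⁻¹
        rw [mul_inv_rev, map_mul, map_mul]; simp only [mul_assoc]) }
  have hker : ψ.ker ≤ F := by
    refine le_trans ?_ hCF
    intro k hk a ha
    have h := congrArg (fun σ : RingAut D =>
      (σ (⟨φ a, Subring.subset_closure ⟨a, ha, rfl⟩⟩ : D)).1) hk
    simp only [ψ, MonoidHom.coe_mk, OneHom.coe_mk, RingEquiv.coe_mk, Equiv.coe_fn_mk] at h
    have h' : k * a * k⁻¹ = a := FaithfulSMul.eq_of_smul_eq_smul fun v : V => by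
      rw [← hφs, ← hφs, map_mul, map_mul]
      exact congrArg (fun x : AddMonoid.End V => x v) h
    exact (mul_inv_eq_iff_eq_mul.1 h').symm
  have hKle : Nat.card K ≤ Nat.card F * Nat.card (RingAut D) := by
    rw [← ψ.ker.card_mul_index, index_ker]
    exact Nat.mul_le_mul (card_le_of_le hker) (Finite.card_subtype_le _)
  -- the fixed field of `u`
  have hσfix : ∀ d : D, ψ u d = d → d = 0 ∨ d = 1 := by
    intro d hd
    have h : (φ u * d.1 * φ u⁻¹) t = d.1 t := congrArg (fun x : D => x.1 t) hd
    rw [hmul, hmul, hφs u⁻¹, show u⁻¹ • t = t from inv_smul_eq_iff.2 hut.symm, hφs] at h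
    rcases hfix _ h with h | h
    · exact Or.inl (hinj d t ht h)
    · refine Or.inr (sub_eq_zero.1 (hinj (d - 1) t ht ?_))
      show d.1 t - t = 0
      exact sub_eq_zero.2 h
  have hzp : ∀ d : D, (∀ σ ∈ zpowers (ψ u), σ d = d) → d = 0 ∨ d = 1 := fun d hd =>
    hσfix d (hd _ (mem_zpowers _))
  have hc1 := card_eq_pow_card (zpowers (ψ u)) hzp
  have hc2 := card_eq_pow_card (⊤ : Subgroup (RingAut D))
    fun d hd => hσfix d (hd _ (mem_top _))
  rw [Nat.card_zpowers] at hc1
  rw [card_top] at hc2
  have hord : orderOf (ψ u) = r := by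
    rcases (Nat.dvd_prime hr).1 (hur ▸ orderOf_map_dvd ψ u) with h | h
    · exfalso
      rw [h, pow_one] at hc1
      have hF1 : F = ⊥ := by
        rw [← card_eq_one]
        have : 0 < Nat.card F := Nat.card_pos
        omega
      have hu : u ∈ F := hCF (by
        intro a ha
        rw [SetLike.mem_coe, hF1, mem_bot] at ha
        rw [ha, one_mul, mul_one])
      rw [hF1, mem_bot] at hu
      rw [hu, orderOf_one] at hur
      exact hr.one_lt.ne hur
    · exact h
  rw [hord] at hc1
  have hautr : Nat.card (RingAut D) = r :=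
    Nat.pow_right_injective le_rfl (show (2 : ℕ) ^ _ = 2 ^ _ by rw [← hc2, ← hc1])
  rw [hautr] at hKle
  -- orbit–stabiliser
  have horb : Nat.card K = (Nat.card V - 1) * Nat.card (MulAction.stabilizer K t) := by
    rw [← (MulAction.stabilizer K t).index_mul_card, MulAction.index_stabilizer]
    congr 1
    have : MulAction.orbit K t = {0}ᶜ := by
      ext v
      refine ⟨?_, fun hv => htr t v ht hv⟩
      rintro ⟨k, rfl⟩ h
      exact ht ((smul_eq_zero_iff_eq k).1 h)
    rw [this, Set.ncard_compl, Set.ncard_singleton]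
  have hu_mem : u ∈ MulAction.stabilizer K t := hut
  have hrdvd : r ∣ Nat.card (MulAction.stabilizer K t) :=
    hur ▸ (MulAction.stabilizer K t).orderOf_dvd_natCard hu_mem
  have hrle : r ≤ Nat.card (MulAction.stabilizer K t) := Nat.le_of_dvd Nat.card_pos hrdvd
  have h2r : 2 ^ r ≤ Nat.card V := hc1 ▸ hDle
  refine ⟨le_antisymm ?_ hrle, h2r⟩
  have hV1 : 0 < Nat.card V - 1 := by
    have := Nat.one_lt_two_pow hr.ne_zero
    omega
  refine Nat.le_of_mul_le_mul_left ?_ hV1
  calc (Nat.card V - 1) * Nat.card (MulAction.stabilizer K t) = Nat.card K := horb.symm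
    _ ≤ Nat.card F * r := hKle
    _ ≤ (Nat.card V - 1) * r := Nat.mul_le_mul_right _ (by omega)

end Cfsg.Agent.Lib.AGroupIndex
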