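import Cfsg.Agent.Lib.AGroupIndex.CaseG
import Cfsg.Agent.Lib.AGroupIndex.FieldBound

/-!
# The case in which an element of the stabiliser fixes a single involution of `S`: first step
-/

set_option autoImplicit false

universe u

namespace Cfsg.Agent.Lib.AGroupIndex

open Subgroup

/-- `u` is an element of prime order `r` in `C_M(t)` whose only fixed involution in `S` is `t`. -/
structure EData {G : Type u} [Group G] [Finite G] (M : Subgroup G) (S : Sylow 2 G) (t x : G)
    (r : ℕ) : Prop where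
  ctx : Ctx M
  t_mem : t ∈ (S : Subgroup G)
  t_ord : orderOf t = 2
  x_mem : x ∈ M
  prime : r.Prime
  x_ord : orderOf x = r
  x_comm : Commute x t
  single : ∀ t' ∈ (S : Subgroup G), orderOf t' = 2 → Commute x t' → t' = t

namespace EData

variable {G : Type u} [Group G] [Finite G] {M : Subgroup G} {S : Sylow 2 G} {t x : G} {r : ℕ}
  (E : EData M S t x r)

include E

theorem r_odd : Odd r := E.x_ord ▸ odd_orderOf E.ctx.odd_card E.x_mem

theorem x_ne : x ≠ 1 := fun h => by
  have := E.x_ord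
  rw [h, orderOf_one] at this
  exact E.prime.one_lt.ne this

theorem t_ne : t ≠ 1 := fun h => by
  have := E.t_ord
  rw [h, orderOf_one] at this
  exact absurd this (by norm_num)

theorem x_normalizes : x ∈ normalizer ((S : Subgroup G) : Set G) :=
  E.ctx.centralizer_invol_le S E.t_mem E.t_ord (mem_centralizer_singleton_iff.2 E.x_comm.eq)

theorem conj_x_mem {s : G} (hs : s ∈ (S : Subgroup G)) : x * s * x⁻¹ ∈ (S : Subgroup G) :=
  (mem_normalizer_iff.1 E.x_normalizes s).1 hs

/-- A point is fixed by `x` exactly when it comes from `C_S(x)`. -/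
theorem commute_of_fixes {s : G} (hs : s ∈ (S : Subgroup G)) (h : s⁻¹ * x * s ∈ M) :
    Commute x s := by
  refine commute_of_conj_eq (E.ctx.mul_inj S (E.conj_x_mem hs) hs E.x_mem h ?_)
  group

/-- The centraliser of `x` in `S` is cyclic. -/
theorem isCyclic_fixed :
    IsCyclic ↥((S : Subgroup G) ⊓ centralizer ({x} : Set G)) := by
  set A := (S : Subgroup G) ⊓ centralizer ({x} : Set G) with hA
  letI : CommGroup A :=
    { (inferInstance : Group A) with
      mul_comm := fun a b => Subtype.ext (E.ctx.comm S a.2.1 b.2.1) }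
  have hp : IsPGroup 2 A := S.isPGroup'.to_le inf_le_left
  refine Lib.Coprime.isCyclic_of_forall_mem_zpowers Nat.prime_two hp fun a b ha hb hb1 => ?_
  haveI : Fact (Nat.Prime 2) := ⟨Nat.prime_two⟩
  have key : ∀ c : A, c ^ 2 = 1 → c ≠ 1 → (c : G) = t := fun c hc hc1 =>
    E.single c c.2.1 (by rw [orderOf_coe]; exact orderOf_eq_prime hc hc1)
      (mem_centralizer_singleton_iff.1 c.2.2).symm
  by_cases ha1 : a = 1
  · rw [ha1]; exact one_mem _
  · have : a = b := Subtype.ext ((key a ha ha1).trans (key b hb hb1).symm)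
    rw [this]; exact mem_zpowers b

/-- In a subgroup meeting `S` in a cyclic group, `M` cuts out a normal complement. -/
theorem normal_complement {T : Subgroup G}
    (hsplit : ∀ s ∈ (S : Subgroup G), ∀ m ∈ M, s * m ∈ T → s ∈ T) (ht : t ∈ T)
    (hc : IsCyclic ↥((S : Subgroup G) ⊓ T)) : ∀ g ∈ T, ∀ m ∈ M, m ∈ T → g * m * g⁻¹ ∈ M := by
  haveI : Fact (Nat.Prime 2) := ⟨Nat.prime_two⟩
  have C := E.ctx
  obtain ⟨P, hP⟩ := ((S.isPGroup'.to_le
    (inf_le_left : (S : Subgroup G) ⊓ T ≤ S)).comap_of_injective T.subtype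
      T.subtype_injective).exists_le_sylow
  have hPle : ∀ p : T, p ∈ (P : Subgroup T) → (p : G) ∈ (S : Subgroup G) := by
    intro p hp
    refine C.pGroup_le_of_centralizes S E.t_mem E.t_ord (P.isPGroup'.map T.subtype)
      (fun y hy => ?_) (mem_map_of_mem T.subtype hp)
    rw [mem_centralizer_singleton_iff]
    exact C.aGroup.commute (P.isPGroup'.map T.subtype) hy
      (mem_map_of_mem T.subtype (hP (show (⟨t, ht⟩ : T) ∈ comap T.subtype _ from ⟨E.t_mem, ht⟩)))
  haveI hPc : IsCyclic (P : Subgroup T) := by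
    haveI := hc
    let f : (P : Subgroup T) →* ↥((S : Subgroup G) ⊓ T) :=
      (T.subtype.comp (P : Subgroup T).subtype).codRestrict ((S : Subgroup G) ⊓ T)
        fun p => ⟨hPle p p.2, p.1.2⟩
    exact isCyclic_of_injective f fun a b h => Subtype.ext (Subtype.ext (by
      have h' := congrArg Subtype.val h
      exact h'))
  have hmin : (Nat.card T).minFac = 2 := by
    rw [Nat.minFac_eq_two_iff, ← E.t_ord]
    exact T.orderOf_dvd_natCard ht
  have hcompl := IsCyclic.isComplement' hmin hPc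
  set O := (MonoidHom.transferSylow P (IsCyclic.normalizer_le_centralizer hmin hPc)).ker with hO
  have hOodd : Odd (Nat.card O) := by
    rw [← Nat.not_even_iff_odd, even_iff_two_dvd]
    exact MonoidHom.not_dvd_card_ker_transferSylow P _
  obtain ⟨a, ha⟩ := C.split_index S hsplit
  have hOle : O ≤ M.subgroupOf T := le_of_odd_normal hOodd ha
  have hindexO : O.index = Nat.card (P : Subgroup T) := hcompl.symm.index_eq_card
  have hOeq : O = M.subgroupOf T := by
    refine eq_of_le_of_card_ge hOle ?_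
    have h1 := (M.subgroupOf T).card_mul_index
    have h2 := O.card_mul_index
    have h3 := (P : Subgroup T).card_mul_index
    have hd : Nat.card (M.subgroupOf T) ∣ O.index * Nat.card O := by
      rw [mul_comm, h2, ← h1]; exact dvd_mul_right _ _
    have hcop : (Nat.card (M.subgroupOf T)).Coprime O.index := by
      obtain ⟨k, hk⟩ := P.isPGroup'.exists_card_eq
      rw [hindexO, hk]
      exact (Nat.coprime_two_right.2 (C.odd_subgroupOf T)).pow_right _
    exact Nat.le_of_dvd Nat.card_pos (hcop.dvd_of_dvd_mul_left hd)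
  intro g hg m hm hmT
  have hmem : (⟨m, hmT⟩ : T) ∈ O := hOeq ▸ (mem_subgroupOf.2 hm)
  have := (inferInstance : O.Normal).conj_mem _ hmem ⟨g, hg⟩
  rw [hOeq, mem_subgroupOf] at this
  exact this

/-- `C_S(x)` has order two. -/
theorem fixed_eq {s : G} (hs : s ∈ (S : Subgroup G)) (hxs : Commute x s) : s = 1 ∨ s = t := by
  classical
  by_contra hcon
  push Not at hcon
  have C := E.ctx
  haveI := Fact.mk E.prime
  haveI : Fact (Nat.Prime 2) := ⟨Nat.prime_two⟩
  set A := (S : Subgroup G) ⊓ centralizer ({x} : Set G) with hA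
  have hmemA : ∀ {a : G}, a ∈ A ↔ a ∈ (S : Subgroup G) ∧ Commute x a := fun {a} => by
    rw [hA, mem_inf, mem_centralizer_singleton_iff]; exact and_congr_right fun _ => ⟨Eq.symm, Eq.symm⟩
  -- an element of order four
  obtain ⟨y, hyA, hy2⟩ : ∃ y ∈ A, y * y = t := by
    obtain ⟨k, hk⟩ := S.isPGroup'.exists_card_eq
    obtain ⟨i, -, hi⟩ := (Nat.dvd_prime_pow Nat.prime_two).1
      (hk ▸ ((S : Subgroup G).orderOf_dvd_natCard hs))
    have hi2 : 2 ≤ i := by
      by_contra hi2
      rcases (by omega : i = 0 ∨ i = 1) with rfl | rfl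
      · exact hcon.1 (orderOf_eq_one_iff.1 (by rw [hi, pow_zero]))
      · exact hcon.2 (E.single s hs (by rw [hi, pow_one]) hxs)
    refine ⟨s ^ 2 ^ (i - 2), hmemA.2 ⟨(S : Subgroup G).pow_mem hs _, hxs.pow_right _⟩, ?_⟩
    rw [← pow_add, ← two_mul, ← pow_succ', show i - 2 + 1 = i - 1 by omega]
    refine E.single _ ((S : Subgroup G).pow_mem hs _) ?_ (hxs.pow_right _)
    rw [orderOf_pow_of_dvd (by positivity) (by rw [hi]; exact pow_dvd_pow 2 (Nat.sub_le i 1)), hi,
      Nat.pow_div (Nat.sub_le i 1) two_pos, Nat.sub_sub_self (by omega), pow_one]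
  obtain ⟨hyS, hxy⟩ := hmemA.1 hyA
  have hy1 : y ≠ 1 := fun h => E.t_ne (by rw [← hy2, h, one_mul])
  have hyt : y ≠ t := fun h => by
    rw [h, mul_self_of_orderOf_two E.t_ord] at hy2
    exact E.t_ne hy2.symm
  -- a Sylow subgroup of the two-point stabiliser
  set B := twoPt M t with hB
  have hxB : x ∈ B := mem_twoPt.2 ⟨E.x_mem, by
    rw [conj_eq_of_commute E.x_comm.symm]; exact E.x_mem⟩
  obtain ⟨P, hP⟩ := (IsPGroup.of_card (p := r) (n := 1)
    (show Nat.card (zpowers (⟨x, hxB⟩ : B)) = r ^ 1 by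
      rw [Nat.card_zpowers, ← orderOf_coe, E.x_ord, pow_one])).exists_le_sylow
  set Q := (P : Subgroup B).map B.subtype with hQ
  have hxQ : x ∈ Q := ⟨_, hP (mem_zpowers _), rfl⟩
  have hQc : Q ≤ centralizer ({x} : Set G) := fun p hp =>
    mem_centralizer_singleton_iff.2 (C.aGroup.commute (P.isPGroup'.map _) hp hxQ)
  have hQM : Q ≤ M := (map_subtype_le _).trans twoPt_le
  set H := centralizer ({x} : Set G) with hH
  have hsplitH := C.split_centralizer_of_normalizes S E.x_mem E.x_normalizes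
  have htH : t ∈ H := mem_centralizer_singleton_iff.2 E.x_comm.symm.eq
  have hnormH := E.normal_complement hsplitH htH E.isCyclic_fixed
  have hQfix : ∀ a ∈ A, ∀ p ∈ Q, a⁻¹ * p * a ∈ M := fun a ha p hp => by
    have := hnormH a⁻¹ (H.inv_mem ha.2) p (hQM hp) (hQc hp)
    rwa [inv_inv] at this
  -- Witt's argument
  obtain ⟨h, hh, he⟩ := C.exists_orbit S E.t_mem E.t_ne hyS hy1
  have hmap : Q.map (MulAut.conj h⁻¹).toMonoidHom ≤ B := by
    rintro z ⟨p, hp, rfl⟩
    simp only [MulEquiv.coe_toMonoidHom, MulAut.conj_apply, inv_inv]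
    refine mem_twoPt.2 ⟨M.mul_mem (M.mul_mem (M.inv_mem hh) (hQM hp)) hh, ?_⟩
    have e : t * (h⁻¹ * p * h) * t⁻¹ =
        (y⁻¹ * h * t⁻¹)⁻¹ * (y⁻¹ * p * y) * (y⁻¹ * h * t⁻¹) := by group
    rw [e, inv_eq_self_of_orderOf_two E.t_ord]
    exact M.mul_mem (M.mul_mem (M.inv_mem he) (hQfix y hyA p hp)) he
  have hP2 : IsPGroup r ((Q.map (MulAut.conj h⁻¹).toMonoidHom).subgroupOf B) :=
    ((P.isPGroup'.map _).map _).comap_of_injective _ B.subtype_injective
  obtain ⟨P2, hP2le⟩ := hP2.exists_le_sylow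
  obtain ⟨b, hb⟩ := MulAction.exists_smul_eq B P P2
  have hQnorm : ∀ p ∈ Q, (h * (b : G))⁻¹ * p * (h * (b : G)) ∈ Q := by
    intro p hp
    have hmem : h⁻¹ * p * h ∈ Q.map (MulAut.conj h⁻¹).toMonoidHom :=
      ⟨p, hp, by simp⟩
    have h2 : (⟨h⁻¹ * p * h, hmap hmem⟩ : B) ∈ (P2 : Subgroup B) := hP2le hmem
    rw [← hb, Sylow.coe_subgroup_smul, mem_pointwise_smul_iff_inv_smul_mem] at h2
    refine ⟨_, h2, ?_⟩
    simp
    group
  set n := h * (b : G) with hn
  have hnM : n ∈ M := M.mul_mem hh (twoPt_le b.2)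
  have hnt : y⁻¹ * n * t ∈ M := by
    have e : y⁻¹ * n * t = (y⁻¹ * h * t) * (t⁻¹ * (b : G) * t) := by rw [hn]; group
    rw [e]
    refine M.mul_mem he ?_
    have := (mem_twoPt.1 b.2).2
    rwa [inv_eq_self_of_orderOf_two E.t_ord] at this ⊢
  -- the setwise stabiliser of the fixed points of `x`
  let T : Subgroup G :=
    { carrier := {g | ∀ a ∈ A, (C.sPart S (g * a) : G) ∈ A}
      one_mem' := fun a ha => by
        rw [one_mul, C.sPart_unique S (s := ⟨a, ha.1⟩) (by simp)]
        exact ha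
      mul_mem' := fun {g g'} hg hg' a ha => by
        have h1 := hg _ (hg' a ha)
        have : C.sPart S (g * g' * a) = C.sPart S (g * (C.sPart S (g' * a) : G)) := by
          refine C.sPart_unique S ?_
          have e : (C.sPart S (g * (C.sPart S (g' * a) : G)) : G)⁻¹ * (g * g' * a) =
              ((C.sPart S (g * (C.sPart S (g' * a) : G)) : G)⁻¹ *
                (g * (C.sPart S (g' * a) : G))) *
              ((C.sPart S (g' * a) : G)⁻¹ * (g' * a)) := by group
          rw [e]
          exact M.mul_mem (C.sPart_spec S _) (C.sPart_spec S _)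
        rw [this]; exact h1
      inv_mem' := fun {g} hg => by
        have hpow : ∀ j : ℕ, ∀ a ∈ A, (C.sPart S (g ^ j * a) : G) ∈ A := by
          intro j
          induction j with
          | zero =>
            intro a ha
            rw [pow_zero, one_mul, C.sPart_unique S (s := ⟨a, ha.1⟩) (by simp)]
            exact ha
          | succ j ih =>
            intro a ha
            have h1 := hg _ (ih a ha)
            have : C.sPart S (g ^ (j + 1) * a) = C.sPart S (g * (C.sPart S (g ^ j * a) : G)) := by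
              refine C.sPart_unique S ?_
              have e : (C.sPart S (g * (C.sPart S (g ^ j * a) : G)) : G)⁻¹ * (g ^ (j + 1) * a) =
                  ((C.sPart S (g * (C.sPart S (g ^ j * a) : G)) : G)⁻¹ *
                    (g * (C.sPart S (g ^ j * a) : G))) *
                  ((C.sPart S (g ^ j * a) : G)⁻¹ * (g ^ j * a)) := by rw [pow_succ']; group
              rw [e]
              exact M.mul_mem (C.sPart_spec S _) (C.sPart_spec S _)
            rw [this]; exact h1
        have e : g⁻¹ = g ^ (orderOf g - 1) := inv_eq_of_mul_eq_one_right (by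
          rw [← pow_succ', Nat.sub_add_cancel (orderOf_pos g), pow_orderOf_eq_one])
        show ∀ a ∈ A, (C.sPart S (g⁻¹ * a) : G) ∈ A
        rw [e]; exact hpow _ }
  have hST : ∀ a : G, a ∈ (S : Subgroup G) → (a ∈ T ↔ a ∈ A) := by
    intro a ha
    constructor
    · intro haT
      have := haT 1 A.one_mem
      rw [mul_one, C.sPart_unique S (s := ⟨a, ha⟩) (by simp)] at this
      exact this
    · intro haA c hc
      rw [C.sPart_unique S (s := ⟨a * c, (S : Subgroup G).mul_mem ha hc.1⟩) (by simp)]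
      exact A.mul_mem haA hc
  have hsplitT : ∀ s ∈ (S : Subgroup G), ∀ m ∈ M, s * m ∈ T → s ∈ T := by
    intro s hs m hm hsm
    refine (hST s hs).2 ?_
    have := hsm 1 A.one_mem
    rwa [mul_one, C.sPart_unique S (s := ⟨s, hs⟩) (by simpa using hm)] at this
  have hnT : n ∈ T := by
    intro a ha
    set a' := C.sPart S (n * a) with ha'
    have hs' := C.sPart_spec S (n * a)
    refine hmemA.2 ⟨a'.2, E.commute_of_fixes a'.2 ?_⟩
    have hp := hQnorm x hxQ
    have e : (a' : G)⁻¹ * x * (a' : G) = ((a' : G)⁻¹ * (n * a)) * (a⁻¹ * (n⁻¹ * x * n) * a) *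
        ((a' : G)⁻¹ * (n * a))⁻¹ := by group
    rw [e]
    exact M.mul_mem (M.mul_mem hs' (hQfix a ha _ hp)) (M.inv_mem hs')
  have hcyc : IsCyclic ↥((S : Subgroup G) ⊓ T) := by
    have : (S : Subgroup G) ⊓ T = A := by
      ext a
      exact ⟨fun h => (hST a h.1).1 h.2, fun h => ⟨h.1, (hST a h.1).2 h⟩⟩
    rw [this]; exact E.isCyclic_fixed
  have htT : t ∈ T := (hST t E.t_mem).2 (hmemA.2 ⟨E.t_mem, E.x_comm⟩)
  have hfin := E.normal_complement hsplitT htT hcyc t⁻¹ (T.inv_mem htT) n hnM hnT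
  rw [inv_inv] at hfin
  have hyinv : y⁻¹ * t ∈ M := by
    have e : y⁻¹ * t = (y⁻¹ * n * t) * (t⁻¹ * n * t)⁻¹ := by group
    rw [e]; exact M.mul_mem hnt (M.inv_mem hfin)
  exact hyt (inv_mul_eq_one.1 (C.eq_one_of_mem_of_mem S hyinv
    ((S : Subgroup G).mul_mem ((S : Subgroup G).inv_mem hyS) E.t_mem)))

/-- `S` is elementary abelian. -/
theorem elementary {s : G} (hs : s ∈ (S : Subgroup G)) : s * s = 1 := by
  classical
  by_contra hne
  have C := E.ctx
  haveI := Fact.mk E.prime
  haveI : Fact (Nat.Prime 2) := ⟨Nat.prime_two⟩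
  obtain ⟨k, hk⟩ := S.isPGroup'.exists_card_eq
  obtain ⟨i, -, hi⟩ := (Nat.dvd_prime_pow Nat.prime_two).1
    (hk ▸ ((S : Subgroup G).orderOf_dvd_natCard hs))
  have hi2 : 2 ≤ i := by
    by_contra hi2
    refine hne ?_
    rw [← pow_two, ← orderOf_dvd_iff_pow_eq_one, hi]
    exact (pow_dvd_pow 2 (show i ≤ 1 by omega)).trans (by norm_num)
  set y := s ^ 2 ^ (i - 2) with hy
  have hy2 : orderOf (y * y) = 2 := by
    rw [hy, ← pow_add, ← two_mul, ← pow_succ', show i - 2 + 1 = i - 1 by omega,
      orderOf_pow_of_dvd (by positivity) (by rw [hi]; exact pow_dvd_pow 2 (Nat.sub_le i 1)), hi,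
      Nat.pow_div (Nat.sub_le i 1) two_pos, Nat.sub_sub_self (by omega), pow_one]
  have hyS : y ∈ (S : Subgroup G) := (S : Subgroup G).pow_mem hs _
  obtain ⟨g, hg, hgt⟩ := C.exists_conj_invol hy2 E.t_ord
  have hgn := C.mem_normalizer_of_conj S ((S : Subgroup G).mul_mem hyS hyS) hy2 (hgt ▸ E.t_mem)
  have hz : g * y * g⁻¹ ∈ (S : Subgroup G) := (mem_normalizer_iff.1 hgn y).1 hyS
  have hz2 : (g * y * g⁻¹) * (g * y * g⁻¹) = t := by rw [← hgt]; group
  letI : CommGroup (S : Subgroup G) :=
    { (inferInstance : Group (S : Subgroup G)) with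
      mul_comm := fun a b => Subtype.ext (C.comm S a.2 b.2) }
  -- the square roots of `t`
  let X := {a : (S : Subgroup G) // (a : G) * a = t}
  letI : MulAction (zpowers x) X :=
    { smul := fun g a => ⟨⟨(g : G) * a.1 * (g : G)⁻¹,
          (mem_normalizer_iff.1 ((zpowers_le).2 E.x_normalizes g.2) _).1 a.1.2⟩, by
          obtain ⟨j, hj⟩ := mem_zpowers_iff.1 g.2
          show (g : G) * a.1 * (g : G)⁻¹ * ((g : G) * a.1 * (g : G)⁻¹) = t
          calc _ = (g : G) * ((a.1 : G) * a.1) * (g : G)⁻¹ := by group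
            _ = t := by rw [a.2, ← hj]; exact conj_eq_of_commute (E.x_comm.zpow_left j)⟩
      one_smul := fun a => Subtype.ext (Subtype.ext (by
        show ((1 : zpowers x) : G) * a.1 * ((1 : zpowers x) : G)⁻¹ = a.1
        simp))
      mul_smul := fun g g' a => Subtype.ext (Subtype.ext (by
        show ((g * g' : zpowers x) : G) * a.1 * ((g * g' : zpowers x) : G)⁻¹ =
          (g : G) * ((g' : G) * a.1 * (g' : G)⁻¹) * (g : G)⁻¹
        simp only [coe_mul]; group)) }
  have hX : Nat.card X ∣ Nat.card (S : Subgroup G) := by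
    let K := (powMonoidHom 2 : (S : Subgroup G) →* (S : Subgroup G)).ker
    have hK : ∀ a : (S : Subgroup G), a ∈ K ↔ a * a = 1 := fun a => by
      simp [K, MonoidHom.mem_ker, pow_two]
    set z : (S : Subgroup G) := ⟨_, hz⟩
    have hz' : (z : G) * z = t := hz2
    have : Nat.card X = Nat.card K := by
      refine Nat.card_congr
        { toFun := fun a => ⟨a.1 * z⁻¹, (hK _).2 ?_⟩
          invFun := fun c => ⟨c.1 * z, ?_⟩
          left_inv := fun a => Subtype.ext (inv_mul_cancel_right a.1 z)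
          right_inv := fun c => Subtype.ext (mul_inv_cancel_right c.1 z) }
      · have : a.1 * a.1 = z * z := Subtype.ext (a.2.trans hz'.symm)
        rw [mul_mul_mul_comm, this, ← mul_inv_rev, mul_inv_cancel]
      · show ((c.1 * z : (S : Subgroup G)) : G) * ((c.1 * z : (S : Subgroup G)) : G) = t
        rw [← coe_mul, mul_mul_mul_comm, (hK _).1 c.2, one_mul, coe_mul, hz']
    rw [this]
    exact card_subgroup_dvd_card K
  have hnd : ¬ r ∣ Nat.card X := fun h => by
    have h2 := E.prime.dvd_of_dvd_pow (hk ▸ h.trans hX)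
    have hr2 := (Nat.prime_dvd_prime_iff_eq E.prime Nat.prime_two).1 h2
    have := E.r_odd
    rw [hr2] at this
    exact absurd this (by decide)
  obtain ⟨a, ha⟩ := (IsPGroup.of_card (p := r) (n := 1)
    (show Nat.card (zpowers x) = r ^ 1 by rw [Nat.card_zpowers, E.x_ord, pow_one])
    ).nonempty_fixed_point_of_prime_not_dvd_card X hnd
  have hfa : x * (a.1 : G) * x⁻¹ = a.1 :=
    congrArg (fun b : X => (b.1 : G)) (ha ⟨x, mem_zpowers x⟩)
  have ha2 := a.2
  rcases E.fixed_eq a.1.2 (commute_of_conj_eq hfa) with h | h <;> rw [h] at ha2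
  · exact E.t_ne (by rw [← ha2, one_mul])
  · exact E.t_ne (by rw [← ha2, mul_self_of_orderOf_two E.t_ord])

theorem orderOf_eq_two {s : G} (hs : s ∈ (S : Subgroup G)) (hs1 : s ≠ 1) : orderOf s = 2 :=
  haveI : Fact (Nat.Prime 2) := ⟨Nat.prime_two⟩
  orderOf_eq_prime (by rw [pow_two]; exact E.elementary hs) hs1

/-- The order of `S` is congruent to `2` modulo `r`. -/
theorem card_modEq : Nat.card (S : Subgroup G) ≡ 2 [MOD r] := by
  classical
  haveI := Fact.mk E.prime
  letI : MulAction (zpowers x) (S : Subgroup G) :=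
    { smul := fun g a => ⟨(g : G) * a * (g : G)⁻¹,
        (mem_normalizer_iff.1 ((zpowers_le).2 E.x_normalizes g.2) _).1 a.2⟩
      one_smul := fun a => Subtype.ext (by
        show ((1 : zpowers x) : G) * a * ((1 : zpowers x) : G)⁻¹ = a
        simp)
      mul_smul := fun g g' a => Subtype.ext (by
        show ((g * g' : zpowers x) : G) * a * ((g * g' : zpowers x) : G)⁻¹ =
          (g : G) * ((g' : G) * a * (g' : G)⁻¹) * (g : G)⁻¹
        simp only [coe_mul]; group) }
  have h := (IsPGroup.of_card (p := r) (n := 1)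
    (show Nat.card (zpowers x) = r ^ 1 by rw [Nat.card_zpowers, E.x_ord, pow_one])
    ).card_modEq_card_fixedPoints (S : Subgroup G)
  have h2 : Nat.card (MulAction.fixedPoints (zpowers x) (S : Subgroup G)) = 2 := by
    rw [Nat.card_eq_two_iff]
    have hf1 : (1 : (S : Subgroup G)) ∈ MulAction.fixedPoints (zpowers x) (S : Subgroup G) :=
      fun g => Subtype.ext (by
        show (g : G) * ((1 : (S : Subgroup G)) : G) * (g : G)⁻¹ = _
        simp)
    have hft : (⟨t, E.t_mem⟩ : (S : Subgroup G)) ∈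
        MulAction.fixedPoints (zpowers x) (S : Subgroup G) := fun g => Subtype.ext (by
      obtain ⟨j, hj⟩ := mem_zpowers_iff.1 g.2
      show (g : G) * t * (g : G)⁻¹ = t
      rw [← hj]; exact conj_eq_of_commute (E.x_comm.zpow_left j))
    refine ⟨⟨_, hf1⟩, ⟨_, hft⟩, fun h => E.t_ne ?_, ?_⟩
    · exact (congrArg (fun a : MulAction.fixedPoints (zpowers x) (S : Subgroup G) => (a.1 : G)) h).symm
    · rw [Set.eq_univ_iff_forall]
      intro a
      have hfa : x * (a.1 : G) * x⁻¹ = a.1 :=
        congrArg Subtype.val (a.2 ⟨x, mem_zpowers x⟩)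
      rcases E.fixed_eq a.1.2 (commute_of_conj_eq hfa) with h | h
      · exact Or.inl (Subtype.ext (Subtype.ext h))
      · exact Or.inr (Subtype.ext (Subtype.ext h))
  rwa [h2] at h

/-- `C_M(t)` is generated by `x`, and `2 ^ r` is at most the order of `S`. -/
theorem stab_facts :
    (∀ v ∈ M, Commute v t → v ∈ zpowers x) ∧ 2 ^ r ≤ Nat.card (S : Subgroup G) := by
  classical
  have C := E.ctx
  letI : CommGroup (S : Subgroup G) :=
    { (inferInstance : Group (S : Subgroup G)) with
      mul_comm := fun a b => Subtype.ext (C.comm S a.2 b.2) }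
  set K := M ⊓ normalizer ((S : Subgroup G) : Set G) with hK
  let cj : K → ↥(S : Subgroup G) → ↥(S : Subgroup G) := fun k a =>
    ⟨(k : G) * a * (k : G)⁻¹, (mem_normalizer_iff.1 k.2.2 _).1 a.2⟩
  letI : DistribMulAction K (Additive (S : Subgroup G)) :=
    { smul := fun k a => Additive.ofMul (cj k a.toMul)
      one_smul := fun a => congrArg Additive.ofMul (Subtype.ext (by simp [cj]; rfl))
      mul_smul := fun k k' a => congrArg Additive.ofMul (Subtype.ext (by
        show ((k * k' : K) : G) * (a.toMul : G) * ((k * k' : K) : G)⁻¹ =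
          (k : G) * ((k' : G) * (a.toMul : G) * (k' : G)⁻¹) * (k : G)⁻¹
        simp only [coe_mul]; group))
      smul_zero := fun k => congrArg Additive.ofMul (Subtype.ext (by simp [cj]))
      smul_add := fun k a b => congrArg Additive.ofMul (Subtype.ext (by
        show (k : G) * ((a.toMul : G) * (b.toMul : G)) * (k : G)⁻¹ =
          ((k : G) * (a.toMul : G) * (k : G)⁻¹) * ((k : G) * (b.toMul : G) * (k : G)⁻¹)
        group)) }
  have hsm : ∀ (k : K) (a : Additive (S : Subgroup G)),
      (((k • a).toMul : (S : Subgroup G)) : G) = (k : G) * (a.toMul : G) * (k : G)⁻¹ :=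
    fun _ _ => rfl
  haveI : FaithfulSMul K (Additive (S : Subgroup G)) := ⟨fun {a b} h => by
    have hz : ((a⁻¹ * b : K) : G) = 1 := by
      refine C.eq_one_of_fixes_all S fun s hs => ?_
      have h1 : (a : G) * s * (a : G)⁻¹ = (b : G) * s * (b : G)⁻¹ := by
        have h' := congrArg (fun z : Additive (S : Subgroup G) => (z.toMul : G))
          (h (Additive.ofMul ⟨s, hs⟩))
        simpa [hsm] using h'
      have h2 : s⁻¹ * ((a⁻¹ * b : K) : G) * s = ((a⁻¹ * b : K) : G) := by
        simp only [coe_mul, coe_inv]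
        calc s⁻¹ * ((a : G)⁻¹ * b) * s
            = s⁻¹ * (a : G)⁻¹ * ((b : G) * s * (b : G)⁻¹) * b := by group
          _ = s⁻¹ * (a : G)⁻¹ * ((a : G) * s * (a : G)⁻¹) * b := by rw [h1]
          _ = _ := by group
      rw [h2]
      exact (a⁻¹ * b).2.1
    exact inv_mul_eq_one.1 (Subtype.ext hz)⟩
  have hodd : Odd (Nat.card K) := C.odd_card.of_dvd_nat (card_dvd_of_le inf_le_left)
  have hxK : x ∈ K := ⟨E.x_mem, E.x_normalizes⟩
  have h := fieldBound (V := Additive (S : Subgroup G))
    (fun v => congrArg Additive.ofMul (Subtype.ext (E.elementary v.toMul.2))) hodd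
    (C.aGroup.subgroup K) (fun v w hv hw => by
      have hv' : orderOf (v.toMul : G) = 2 := E.orderOf_eq_two v.toMul.2 fun h => hv
        (congrArg Additive.ofMul (show v.toMul = 1 from Subtype.ext h))
      have hw' : orderOf (w.toMul : G) = 2 := E.orderOf_eq_two w.toMul.2 fun h => hw
        (congrArg Additive.ofMul (show w.toMul = 1 from Subtype.ext h))
      obtain ⟨k, hk, hkv⟩ := C.exists_conj_invol hv' hw'
      have hkn := C.mem_normalizer_of_conj S v.toMul.2 hv' (hkv ▸ w.toMul.2)
      exact ⟨⟨k, hk, hkn⟩, congrArg Additive.ofMul (Subtype.ext hkv)⟩)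
    (t := Additive.ofMul ⟨t, E.t_mem⟩)
    (fun h => E.t_ne (congrArg (fun a : Additive (S : Subgroup G) => (a.toMul : G)) h))
    (u := ⟨x, hxK⟩) E.prime (by rw [← orderOf_coe]; exact E.x_ord)
    (congrArg Additive.ofMul (Subtype.ext (conj_eq_of_commute E.x_comm)))
    (fun v hv => by
      have hfa : x * (v.toMul : G) * x⁻¹ = v.toMul :=
        congrArg (fun a : Additive (S : Subgroup G) => (a.toMul : G)) hv
      rcases E.fixed_eq v.toMul.2 (commute_of_conj_eq hfa) with h | h
      · exact Or.inl (congrArg Additive.ofMul (show v.toMul = 1 from Subtype.ext h))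
      · exact Or.inr (congrArg Additive.ofMul
          (show v.toMul = ⟨t, E.t_mem⟩ from Subtype.ext h)))
  obtain ⟨h1, h2⟩ := h
  refine ⟨fun v hv hvt => ?_, h2⟩
  have hvn := C.centralizer_invol_le S E.t_mem E.t_ord (mem_centralizer_singleton_iff.2 hvt.eq)
  set St := MulAction.stabilizer K (Additive.ofMul (⟨t, E.t_mem⟩ : (S : Subgroup G))) with hSt
  have hmem : ∀ k : K, Commute (k : G) t → k ∈ St := fun k hk =>
    congrArg Additive.ofMul (Subtype.ext (conj_eq_of_commute hk))
  have heq : zpowers (⟨x, hxK⟩ : K) = St := by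
    refine eq_of_le_of_card_ge (zpowers_le.2 (hmem _ E.x_comm)) ?_
    rw [h1, Nat.card_zpowers, ← orderOf_coe, E.x_ord]
  have hvk := hmem ⟨v, hv, hvn⟩ hvt
  rw [← heq, mem_zpowers_iff] at hvk
  obtain ⟨j, hj⟩ := hvk
  exact ⟨j, by simpa using congrArg Subtype.val hj⟩

end EData

end Cfsg.Agent.Lib.AGroupIndex
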