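import Cfsg.Agent.Lib.AGroupIndex.Schur

/-!
# An involution acting on a group of odd order: fixed points and cosets
-/

set_option autoImplicit false

namespace Cfsg.Agent.Lib.AGroupIndex

open Subgroup

variable {G : Type*} [Group G] [Finite G] {t : G}

omit [Finite G] in
theorem conj_conj_self (ht : t * t = 1) (g : G) : t * (t * g * t⁻¹) * t⁻¹ = g := by
  rw [show t * (t * g * t⁻¹) * t⁻¹ = t * t * g * (t * t)⁻¹ by group, ht]
  group

/-- An invariant coset of an invariant subgroup of odd order has a fixed point. -/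
theorem exists_fixed_mul {C : Subgroup G} {n : G} (ht : t * t = 1)
    (htC : ∀ c ∈ C, t * c * t⁻¹ ∈ C) (hC : Odd (Nat.card C)) (h : n⁻¹ * (t * n * t⁻¹) ∈ C) :
    ∃ c ∈ C, Commute (n * c) t := by
  classical
  haveI : Fintype C := Fintype.ofFinite C
  let f : C → C := fun c => ⟨n⁻¹ * (t * n * t⁻¹) * (t * c * t⁻¹), C.mul_mem h (htC c c.2)⟩
  have hf : ∀ c, f (f c) = c := fun c => Subtype.ext (by
    show n⁻¹ * (t * n * t⁻¹) * (t * (n⁻¹ * (t * n * t⁻¹) * (t * (c : G) * t⁻¹)) * t⁻¹) = c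
    calc _ = n⁻¹ * (t * (t * (n * (c : G)) * t⁻¹) * t⁻¹) := by group
      _ = n⁻¹ * (n * (c : G)) := by rw [conj_conj_self ht]
      _ = c := inv_mul_cancel_left _ _)
  obtain ⟨c, hc⟩ : ∃ c, f c = c := by
    by_contra hno
    push Not at hno
    have h := even_card_of_involutive Finset.univ f (fun _ _ => Finset.mem_univ _)
      (fun c _ => hf c) (fun c _ => hno c)
    rw [Finset.card_univ, ← Nat.card_eq_fintype_card] at h
    exact Nat.not_even_iff_odd.2 hC h
  refine ⟨c, c.2, ?_⟩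
  have hc' : n⁻¹ * (t * n * t⁻¹) * (t * (c : G) * t⁻¹) = c := congrArg Subtype.val hc
  have e : t * (n * (c : G)) * t⁻¹ = n * c := by
    calc t * (n * (c : G)) * t⁻¹ = n * (n⁻¹ * (t * n * t⁻¹) * (t * (c : G) * t⁻¹)) := by group
      _ = n * c := by rw [hc']
  exact (mul_inv_eq_iff_eq_mul.1 e).symm

/-- If all fixed points lie in the invariant normal subgroup `C`, then `t` inverts modulo `C`. -/
theorem conj_mul_mem_of_fixed_mem {N C : Subgroup G} (ht : t * t = 1)
    (htN : ∀ a ∈ N, t * a * t⁻¹ ∈ N) (htC : ∀ c ∈ C, t * c * t⁻¹ ∈ C) (hCN : C ≤ N)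
    (hn : ∀ a ∈ N, ∀ c ∈ C, a * c * a⁻¹ ∈ C) (hC : Odd (Nat.card C))
    (hfix : ∀ a ∈ N, Commute a t → a ∈ C) {n : G} (h : n ∈ N) : n * (t * n * t⁻¹) ∈ C := by
  haveI hnor : (C.subgroupOf N).Normal := ⟨fun c hc a => mem_subgroupOf.2 (by
    simpa using hn a a.2 c (mem_subgroupOf.1 hc))⟩
  let c : N →* N :=
    { toFun := fun a => ⟨t * a * t⁻¹, htN a a.2⟩
      map_one' := Subtype.ext (by simp)
      map_mul' := fun a b => Subtype.ext (by
        show t * ((a : G) * b) * t⁻¹ = t * a * t⁻¹ * (t * b * t⁻¹)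
        group) }
  let τ : N ⧸ C.subgroupOf N →* N ⧸ C.subgroupOf N :=
    QuotientGroup.map _ _ c fun a ha => mem_subgroupOf.2 (htC a (mem_subgroupOf.1 ha))
  have hτ : ∀ a : N, τ (a : N ⧸ C.subgroupOf N) = ((c a : N) : N ⧸ C.subgroupOf N) := fun _ => rfl
  have hfree : ∀ q, τ q = q → q = 1 := by
    intro q
    induction q using QuotientGroup.induction_on with
    | H a =>
      intro hq
      rw [hτ] at hq
      have h1 : (a : G)⁻¹ * (t * a * t⁻¹) ∈ C := by
        have := mem_subgroupOf.1 (QuotientGroup.eq.1 hq.symm)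
        exact this
      obtain ⟨d, hd, hdt⟩ := exists_fixed_mul ht htC hC h1
      have had := hfix _ (N.mul_mem a.2 (hCN hd)) hdt
      rw [QuotientGroup.eq_one_iff, mem_subgroupOf]
      have := C.mul_mem had (C.inv_mem hd)
      rwa [mul_inv_cancel_right] at this
  have hinj : Function.Injective (fun q : N ⧸ C.subgroupOf N => q⁻¹ * τ q) := by
    intro p q hpq
    simp only at hpq
    have : τ (q * p⁻¹) = q * p⁻¹ := by
      rw [map_mul, map_inv]
      calc τ q * (τ p)⁻¹ = q * (q⁻¹ * τ q) * (p⁻¹ * τ p)⁻¹ * p⁻¹ := by group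
        _ = q * p⁻¹ := by rw [hpq]; group
    exact (mul_inv_eq_one.1 (hfree _ this)).symm
  obtain ⟨q, hq⟩ := (Finite.injective_iff_surjective.1 hinj)
    ((⟨n, h⟩ : N) : N ⧸ C.subgroupOf N)
  simp only at hq
  have hττ : τ (τ q) = q := by
    induction q using QuotientGroup.induction_on with
    | H a =>
      rw [hτ, hτ]
      exact congrArg _ (Subtype.ext (conj_conj_self ht (a : G)))
  have h2 : ((⟨n, h⟩ : N) : N ⧸ C.subgroupOf N) * τ ((⟨n, h⟩ : N) : N ⧸ C.subgroupOf N) = 1 := by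
    rw [← hq, map_mul, map_inv, hττ]
    group
  rw [hτ, ← QuotientGroup.mk_mul, QuotientGroup.eq_one_iff, mem_subgroupOf] at h2
  exact h2

end Cfsg.Agent.Lib.AGroupIndex
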