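import Cfsg.Agent.Lib.AGroupIndex.CaseE1
import Cfsg.Agent.Lib.AGroupIndex.Fixed
import Cfsg.Agent.Lib.Transfer.Abelian

/-!
# The structure of the stabiliser of two points
-/

set_option autoImplicit false

universe u

namespace Cfsg.Agent.Lib.AGroupIndex

open Subgroup
open scoped Pointwise commutatorElement

/-- A Sylow `r`-subgroup of `G` inside the centraliser of `x` in `M`, normalised by `t`. -/
structure PData {G : Type u} [Group G] [Finite G] (M : Subgroup G) (S : Sylow 2 G) (t x : G)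
    (r : ℕ) (P : Sylow r G) : Prop where
  base : EData M S t x r
  mem_x : x ∈ (P : Subgroup G)
  le_m : (P : Subgroup G) ≤ M
  conj_t : ∀ p ∈ (P : Subgroup G), t * p * t⁻¹ ∈ (P : Subgroup G)

namespace EData

variable {G : Type u} [Group G] [Finite G] {M : Subgroup G} {S : Sylow 2 G} {t x : G} {r : ℕ}
  (E : EData M S t x r)

include E

theorem t_inv : t⁻¹ = t := inv_eq_self_of_orderOf_two E.t_ord

theorem zpowers_le_stab : zpowers x ≤ M ⊓ centralizer ({t} : Set G) :=
  zpowers_le.2 ⟨E.x_mem, mem_centralizer_singleton_iff.2 E.x_comm.eq⟩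

/-- An element of `M` fixing `tM` together with `x`: the centraliser of `x` in `M`. -/
theorem centralizer_le_twoPt : M ⊓ centralizer ({x} : Set G) ≤ twoPt M t := by
  rintro m ⟨hm, hmx⟩
  refine mem_twoPt.2 ⟨hm, ?_⟩
  have C := E.ctx
  obtain ⟨s, hs, m', hm', e⟩ := C.exists_eq_mul S (m * t)
  have hfx : s⁻¹ * x * s ∈ M := by
    have hc : m * t * x = x * (m * t) := by
      rw [mul_assoc, ← E.x_comm.eq, ← mul_assoc, mem_centralizer_singleton_iff.1 hmx, mul_assoc]
    have e2 : s⁻¹ * x * s = m' * x * m'⁻¹ := by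
      have hs' : s = m * t * m'⁻¹ := by rw [e]; group
      rw [hs']
      calc (m * t * m'⁻¹)⁻¹ * x * (m * t * m'⁻¹) = m' * (m * t)⁻¹ * (x * (m * t)) * m'⁻¹ := by
            group
        _ = m' * (m * t)⁻¹ * (m * t * x) * m'⁻¹ := by rw [hc]
        _ = _ := by group
    rw [e2]
    exact M.mul_mem (M.mul_mem hm' E.x_mem) (M.inv_mem hm')
  rcases E.fixed_eq hs (E.commute_of_fixes hs hfx) with h | h <;> rw [h] at e
  · rw [one_mul] at e
    refine absurd ?_ (C.invol_not_mem E.t_ord)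
    have : t = m⁻¹ * m' := by rw [← e]; group
    rw [this]; exact M.mul_mem (M.inv_mem hm) hm'
  · rw [E.t_inv, mul_assoc, e, ← mul_assoc, mul_self_of_orderOf_two E.t_ord, one_mul]
    exact hm'

/-- The odd part of the centraliser of `x` lies in `M`. -/
theorem mem_of_odd_centralizes {g : G} (hg : Odd (orderOf g)) (hgx : Commute g x) : g ∈ M := by
  have C := E.ctx
  set H := centralizer ({x} : Set G) with hH
  have hsplit := C.split_centralizer_of_normalizes S E.x_mem E.x_normalizes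
  have htH : t ∈ H := mem_centralizer_singleton_iff.2 E.x_comm.symm.eq
  have hnorm := E.normal_complement hsplit htH E.isCyclic_fixed
  have hgH : g ∈ H := mem_centralizer_singleton_iff.2 hgx.eq
  obtain ⟨s, hs, m, hm, e⟩ := C.exists_eq_mul S g
  have hsH : s ∈ H := hsplit s hs m hm (e ▸ hgH)
  have hmH : m ∈ H := by
    have : m = s⁻¹ * g := by rw [e]; group
    exact this ▸ H.mul_mem (H.inv_mem hsH) hgH
  have h2 : g * g ∈ M ⊓ H := by
    refine ⟨?_, H.mul_mem hgH hgH⟩
    have hs2 : s * s = 1 := E.elementary hs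
    have : g * g = (s * m * s⁻¹) * m := by
      rw [inv_eq_of_mul_eq_one_right hs2, e]; group
    rw [this]
    exact M.mul_mem (hnorm s hsH m hm hmH) hm
  exact (mem_of_sq_mem (K := M ⊓ H) hg h2).1

/-- A Sylow subgroup as required exists. -/
theorem exists_pData : ∃ P : Sylow r G, PData M S t x r P := by
  classical
  have C := E.ctx
  haveI := Fact.mk E.prime
  haveI : Fact (Nat.Prime 2) := ⟨Nat.prime_two⟩
  set L := M ⊓ centralizer ({x} : Set G) with hL
  have htL : ∀ g ∈ L, t * g * t⁻¹ ∈ L := by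
    intro g hg
    refine ⟨(mem_twoPt.1 (E.centralizer_le_twoPt hg)).2, mem_centralizer_singleton_iff.2 ?_⟩
    have h1 : Commute g x := mem_centralizer_singleton_iff.1 hg.2
    exact (((E.x_comm.symm).mul_left h1).mul_left E.x_comm.symm.inv_left).eq
  let c : L ≃* L :=
    { toFun := fun g => ⟨t * g * t⁻¹, htL g g.2⟩
      invFun := fun g => ⟨t * g * t⁻¹, htL g g.2⟩
      left_inv := fun g => Subtype.ext (by
        show t * (t * (g : G) * t⁻¹) * t⁻¹ = g
        rw [show t * (t * (g : G) * t⁻¹) * t⁻¹ = t * t * g * (t * t)⁻¹ by group,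
          mul_self_of_orderOf_two E.t_ord]
        group)
      right_inv := fun g => Subtype.ext (by
        show t * (t * (g : G) * t⁻¹) * t⁻¹ = g
        rw [show t * (t * (g : G) * t⁻¹) * t⁻¹ = t * t * g * (t * t)⁻¹ by group,
          mul_self_of_orderOf_two E.t_ord]
        group)
      map_mul' := fun a b => Subtype.ext (by
        show t * ((a : G) * b) * t⁻¹ = t * a * t⁻¹ * (t * b * t⁻¹)
        group) }
  haveI : Finite (Sylow r L) := inferInstance
  haveI : Fintype (Sylow r L) := Fintype.ofFinite _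
  have hodd : Odd (Nat.card L) := C.odd_card.of_dvd_nat (card_dvd_of_le inf_le_left)
  have hsur : Function.Surjective c.toMonoidHom := c.surjective
  let σ : Sylow r L → Sylow r L := fun P => P.mapSurjective hsur
  have hσ : ∀ P, σ (σ P) = P := fun P => Sylow.ext (by
    simp only [σ, Sylow.coe_mapSurjective, Subgroup.map_map]
    have : c.toMonoidHom.comp c.toMonoidHom = MonoidHom.id L :=
      MonoidHom.ext fun g => c.left_inv g
    rw [this, Subgroup.map_id])
  obtain ⟨P, hP⟩ : ∃ P, σ P = P := by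
    by_contra hno
    push Not at hno
    have h := even_card_of_involutive Finset.univ σ (fun _ _ => Finset.mem_univ _)
      (fun P _ => hσ P) (fun P _ => hno P)
    rw [Finset.card_univ, ← Nat.card_eq_fintype_card] at h
    exact Nat.not_even_iff_odd.2
      (hodd.of_dvd_nat (((default : Sylow r L).card_dvd_index).trans (index_dvd_card _))) h
  -- `x` lies in it
  have hxL : x ∈ L := ⟨E.x_mem, mem_centralizer_singleton_iff.2 rfl⟩
  have hxP : (⟨x, hxL⟩ : L) ∈ (P : Subgroup L) := by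
    have hp : IsPGroup r (zpowers (⟨x, hxL⟩ : L)) := IsPGroup.of_card (n := 1) (by
      rw [Nat.card_zpowers, ← orderOf_coe, E.x_ord, pow_one])
    haveI : (zpowers (⟨x, hxL⟩ : L)).Normal := by
      refine ⟨fun a ha g => ?_⟩
      obtain ⟨j, rfl⟩ := mem_zpowers_iff.1 ha
      have hc : Commute (g : L) ⟨x, hxL⟩ :=
        Subtype.ext (mem_centralizer_singleton_iff.1 g.2.2)
      rw [conj_eq_of_commute (hc.zpow_right j)]
      exact ⟨j, rfl⟩
    exact (hp.le_sylow_of_normal P) (mem_zpowers _)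
  set PG := (P : Subgroup L).map L.subtype with hPG
  obtain ⟨Q, hQ⟩ := (P.isPGroup'.map L.subtype).exists_le_sylow
  have hxQ : x ∈ (Q : Subgroup G) := hQ ⟨_, hxP, rfl⟩
  have hQL : (Q : Subgroup G) ≤ L := by
    intro g hg
    have hgx : Commute g x := C.aGroup.commute Q.isPGroup' hg hxQ
    obtain ⟨k, hk⟩ := Q.isPGroup'.exists_card_eq
    exact ⟨E.mem_of_odd_centralizes ((E.r_odd.pow).of_dvd_nat
      (hk ▸ (Q : Subgroup G).orderOf_dvd_natCard hg)) hgx, mem_centralizer_singleton_iff.2 hgx.eq⟩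
  have hQeq : (Q : Subgroup G) = PG := by
    refine le_antisymm ?_ hQ
    have h := P.3 ((Q.isPGroup').comap_of_injective L.subtype L.subtype_injective)
      (fun p hp => hQ ⟨p, hp, rfl⟩)
    intro g hg
    exact ⟨⟨g, hQL hg⟩, h.le (show (⟨g, hQL hg⟩ : L) ∈ comap L.subtype (Q : Subgroup G) from hg), rfl⟩
  refine ⟨Q, E, hxQ, hQL.trans inf_le_left, ?_⟩
  rw [hQeq]
  rintro p ⟨a, ha, rfl⟩
  refine ⟨c a, ?_, rfl⟩
  have hca : c a ∈ (σ P : Subgroup L) := ⟨a, ha, rfl⟩
  rwa [hP] at hca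

end EData

namespace PData

variable {G : Type u} [Group G] [Finite G] {M : Subgroup G} {S : Sylow 2 G} {t x : G} {r : ℕ}
  {P : Sylow r G} (D : PData M S t x r P)

include D

theorem comm {a b : G} (ha : a ∈ (P : Subgroup G)) (hb : b ∈ (P : Subgroup G)) : a * b = b * a :=
  haveI := Fact.mk D.base.prime
  D.base.ctx.aGroup.commute P.isPGroup' ha hb

theorem le_twoPt : (P : Subgroup G) ≤ twoPt M t := fun _ hp =>
  D.base.centralizer_le_twoPt
    ⟨D.le_m hp, mem_centralizer_singleton_iff.2 (D.comm hp D.mem_x)⟩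

theorem fix_le {v : G} (hv : v ∈ M) (hvt : Commute v t) : v ∈ (P : Subgroup G) :=
  zpowers_le.2 D.mem_x (D.base.stab_facts.1 v hv hvt)

/-- An element normalising `P` interchanges or fixes the two points. -/
theorem normalizer_cases {n : G} (hn : n ∈ normalizer ((P : Subgroup G) : Set G)) :
    n ∈ twoPt M t ∨ t * n ∈ twoPt M t := by
  have C := D.base.ctx
  have key : ∀ n : G, n ∈ normalizer ((P : Subgroup G) : Set G) → n ∈ M ∨ t⁻¹ * n ∈ M := by
    intro n hn
    obtain ⟨s, hs, m, hm, e⟩ := C.exists_eq_mul S n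
    have h1 : n⁻¹ * x * n ∈ (P : Subgroup G) := by
      have := (mem_normalizer_iff.1 (inv_mem hn) x).1 D.mem_x
      rwa [inv_inv] at this
    have h2 : s⁻¹ * x * s ∈ M := by
      have : s⁻¹ * x * s = m * (n⁻¹ * x * n) * m⁻¹ := by rw [e]; group
      rw [this]; exact M.mul_mem (M.mul_mem hm (D.le_m h1)) (M.inv_mem hm)
    rcases D.base.fixed_eq hs (D.base.commute_of_fixes hs h2) with h | h
    · left; rw [e, h, one_mul]; exact hm
    · right; rw [e, h, inv_mul_cancel_left]; exact hm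
  have htn : t ∈ normalizer ((P : Subgroup G) : Set G) := by
    rw [mem_normalizer_iff]
    intro z
    refine ⟨D.conj_t z, fun hz => ?_⟩
    have := D.conj_t _ hz
    rwa [show t * (t * z * t⁻¹) * t⁻¹ = t * t * z * (t * t)⁻¹ by group,
      mul_self_of_orderOf_two D.base.t_ord, one_mul, inv_one, mul_one] at this
  have hnt : ∀ m : G, m ∈ M → m ∈ normalizer ((P : Subgroup G) : Set G) → m ∈ twoPt M t := by
    intro m hm hmn
    rcases key (m * t) (mul_mem hmn htn) with h | h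
    · refine absurd ?_ (C.invol_not_mem D.base.t_ord)
      have := M.mul_mem (M.inv_mem hm) h
      rwa [inv_mul_cancel_left] at this
    · refine mem_twoPt.2 ⟨hm, ?_⟩
      rw [D.base.t_inv] at h ⊢
      rwa [mul_assoc]
  rcases key n hn with h | h
  · exact Or.inl (hnt n h hn)
  · rw [D.base.t_inv] at h
    exact Or.inr (hnt _ h (mul_mem htn hn))

/-- The focal criterion: a subgroup with the stated properties contains `P`. -/
theorem le_of_commutators {Q : Subgroup G} (htQ : ∀ q ∈ Q, t * q * t⁻¹ ∈ Q)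
    (h1 : ∀ p ∈ (P : Subgroup G), p * t * p⁻¹ * t⁻¹ ∈ Q)
    (h2 : ∀ p ∈ (P : Subgroup G), ∀ b ∈ twoPt M t,
      b ∈ normalizer ((P : Subgroup G) : Set G) → p * b * p⁻¹ * b⁻¹ ∈ Q) :
    (P : Subgroup G) ≤ Q := by
  haveI := Fact.mk D.base.prime
  haveI := D.base.ctx.simple
  have hperf : commutator G = ⊤ := by
    rcases (inferInstance : (commutator G).Normal).eq_bot_or_eq_top with h | h
    · refine absurd (fun a b => ?_) D.base.ctx.not_comm
      have hab : ⁅a, b⁆ ∈ commutator G := commutator_mem_commutator (mem_top a) (mem_top b)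
      rw [h, mem_bot] at hab
      exact commutatorElement_eq_one_iff_mul_comm.1 hab
    · exact h
  have h := (Lib.Transfer.abelian_sylow_normalizer P (D.base.ctx.aGroup r P)).1
  rw [hperf, top_inf_eq] at h
  refine h.symm.le.trans (commutator_le.2 fun p hp n hn => ?_)
  have hgen : ∀ b ∈ twoPt M t, b ∈ normalizer ((P : Subgroup G) : Set G) →
      p * (t * b) * p⁻¹ * (t * b)⁻¹ ∈ Q := by
    intro b hb hbn
    have e : p * (t * b) * p⁻¹ * (t * b)⁻¹ =
        (p * t * p⁻¹ * t⁻¹) * (t * (p * b * p⁻¹ * b⁻¹) * t⁻¹) := by group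
    rw [e]
    exact Q.mul_mem (h1 p hp) (htQ _ (h2 p hp b hb hbn))
  rw [commutatorElement_def]
  rcases D.normalizer_cases hn with hb | hb
  · exact h2 p hp n hb hn
  · have htn : t ∈ normalizer ((P : Subgroup G) : Set G) := by
      have hn2 : n ∈ normalizer ((P : Subgroup G) : Set G) := hn
      rw [mem_normalizer_iff]
      intro z
      refine ⟨D.conj_t z, fun hz => ?_⟩
      have := D.conj_t _ hz
      rwa [show t * (t * z * t⁻¹) * t⁻¹ = t * t * z * (t * t)⁻¹ by group,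
        mul_self_of_orderOf_two D.base.t_ord, one_mul, inv_one, mul_one] at this
    have := hgen (t * n) hb (mul_mem htn hn)
    rwa [← mul_assoc t t n, mul_self_of_orderOf_two D.base.t_ord, one_mul] at this

/-- `O_{r'}` of the stabiliser of two points. -/
def rest (M : Subgroup G) (t : G) (r : ℕ) : Subgroup G :=
  (Cfsg.pPrimeCore r (twoPt M t)).map (twoPt M t).subtype

omit D in
theorem rest_le {M : Subgroup G} {t : G} {r : ℕ} : rest M t r ≤ twoPt M t := map_subtype_le _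

omit D in
theorem rest_coprime {M : Subgroup G} {t : G} {r : ℕ} : (Nat.card (rest M t r)).Coprime r := by
  rw [rest, card_map_of_injective (twoPt M t).subtype_injective]
  exact Lib.PSolvable.pPrimeCore_coprime

omit D in
theorem rest_conj {M : Subgroup G} {t : G} {r : ℕ} {b e : G} (hb : b ∈ twoPt M t)
    (he : e ∈ rest M t r) : b * e * b⁻¹ ∈ rest M t r := by
  obtain ⟨a, ha, rfl⟩ := he
  haveI : (Cfsg.pPrimeCore r (twoPt M t)).Normal := sSup_normal _ fun _ h => h.1
  exact ⟨⟨b, hb⟩ * a * ⟨b, hb⟩⁻¹, Normal.conj_mem inferInstance a ha _, rfl⟩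

theorem rest_conj_t {e : G} (he : e ∈ rest M t r) : t * e * t⁻¹ ∈ rest M t r := by
  obtain ⟨a, ha, rfl⟩ := he
  have C := D.base.ctx
  have hinv : ∀ g : G, t * (t * g * t⁻¹) * t⁻¹ = g := fun g => by
    rw [show t * (t * g * t⁻¹) * t⁻¹ = t * t * g * (t * t)⁻¹ by group,
      mul_self_of_orderOf_two D.base.t_ord]
    group
  let c : twoPt M t ≃* twoPt M t :=
    { toFun := fun g => ⟨t * g * t⁻¹, C.conj_mem_twoPt D.base.t_ord g.2⟩
      invFun := fun g => ⟨t * g * t⁻¹, C.conj_mem_twoPt D.base.t_ord g.2⟩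
      left_inv := fun g => Subtype.ext (hinv g)
      right_inv := fun g => Subtype.ext (hinv g)
      map_mul' := fun a b => Subtype.ext (by
        show t * ((a : G) * b) * t⁻¹ = t * a * t⁻¹ * (t * b * t⁻¹)
        group) }
  refine ⟨c a, ?_, rfl⟩
  rw [← Lib.PSolvable.map_pPrimeCore_equiv c]
  exact mem_map_of_mem _ ha

theorem rest_inverts {e : G} (he : e ∈ rest M t r) : t * e * t⁻¹ = e⁻¹ := by
  haveI := Fact.mk D.base.prime
  refine Lib.CharCount.inverts_of_fixedPointFree (mul_self_of_orderOf_two D.base.t_ord)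
    (fun a ha => D.rest_conj_t ha) (fun a ha hat => ?_) he
  have h := D.base.stab_facts.1 a (twoPt_le (rest_le ha)) (commute_of_conj_eq hat).symm
  obtain ⟨j, hj⟩ := mem_zpowers_iff.1 h
  have h1 : orderOf a ∣ r := by
    rw [← hj, ← D.base.x_ord]
    exact orderOf_dvd_of_mem_zpowers ⟨j, rfl⟩
  have h2 : orderOf a ∣ Nat.card (rest M t r) := (rest M t r).orderOf_dvd_natCard ha
  exact orderOf_eq_one_iff.1 (Nat.eq_one_of_dvd_coprimes rest_coprime h2 h1)

/-- Every `b⁻¹ b^t` centralises `O_{r'}`. -/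
theorem commute_rest {b e : G} (hb : b ∈ twoPt M t) (he : e ∈ rest M t r) :
    Commute (b⁻¹ * (t * b * t⁻¹)) e := by
  have h1 : (t * b * t⁻¹) * (t * e * t⁻¹) * (t * b * t⁻¹)⁻¹ =
      t * (b * e * b⁻¹) * t⁻¹ := by group
  rw [D.rest_inverts he, D.rest_inverts (rest_conj hb he)] at h1
  have h2 : (t * b * t⁻¹) * e * (t * b * t⁻¹)⁻¹ = b * e * b⁻¹ := by
    have := congrArg (fun g : G => g⁻¹) h1
    simp only [mul_inv_rev, inv_inv] at this ⊢
    simpa [mul_assoc] using this
  refine commute_of_conj_eq ?_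
  calc b⁻¹ * (t * b * t⁻¹) * e * (b⁻¹ * (t * b * t⁻¹))⁻¹
      = b⁻¹ * ((t * b * t⁻¹) * e * (t * b * t⁻¹)⁻¹) * b := by group
    _ = b⁻¹ * (b * e * b⁻¹) * b := by rw [h2]
    _ = e := by group

theorem t_conj_twoPt {b : G} (hb : b ∈ twoPt M t) : t * b * t⁻¹ ∈ twoPt M t :=
  D.base.ctx.conj_mem_twoPt D.base.t_ord hb

/-- Modulo the centraliser of `P`, `t` inverts. -/
theorem mul_conj_centralizes (N : Subgroup G) (hN : N ≤ twoPt M t)
    (hNn : N ≤ normalizer ((P : Subgroup G) : Set G)) (hNt : ∀ n ∈ N, t * n * t⁻¹ ∈ N) {n : G}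
    (hn : n ∈ N) : n * (t * n * t⁻¹) ∈ centralizer ((P : Subgroup G) : Set G) := by
  haveI := Fact.mk D.base.prime
  refine (conj_mul_mem_of_fixed_mem (N := N) (C := N ⊓ centralizer ((P : Subgroup G) : Set G))
    (mul_self_of_orderOf_two D.base.t_ord) hNt (fun c hc => ⟨hNt c hc.1, ?_⟩) inf_le_left
    (fun a ha c hc => ⟨N.mul_mem (N.mul_mem ha hc.1) (N.inv_mem ha), ?_⟩)
    (D.base.ctx.odd_card.of_dvd_nat (card_dvd_of_le (inf_le_left.trans (hN.trans twoPt_le))))
    (fun a ha hat => ⟨ha, ?_⟩) hn).2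
  · refine mem_centralizer_iff.2 fun p hp => ?_
    have h1 := mem_centralizer_iff.1 hc.2 _ (D.conj_t p hp)
    have h2 := congrArg (fun g : G => t * g * t⁻¹) h1
    have hinv : ∀ g : G, t * (t * g * t⁻¹) * t⁻¹ = g := fun g => by
      rw [show t * (t * g * t⁻¹) * t⁻¹ = t * t * g * (t * t)⁻¹ by group,
        mul_self_of_orderOf_two D.base.t_ord]
      group
    calc p * (t * c * t⁻¹) = t * ((t * p * t⁻¹) * c) * t⁻¹ := by
          conv_lhs => rw [← hinv p]
          group
      _ = t * (c * (t * p * t⁻¹)) * t⁻¹ := h2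
      _ = (t * c * t⁻¹) * p := by
          conv_rhs => rw [← hinv p]
          group
  · refine mem_centralizer_iff.2 fun p hp => ?_
    have hp' : a⁻¹ * p * a ∈ (P : Subgroup G) := by
      have := (mem_normalizer_iff.1 (inv_mem (hNn ha)) p).1 hp
      rwa [inv_inv] at this
    have h1 := mem_centralizer_iff.1 hc.2 _ hp'
    calc p * (a * c * a⁻¹) = a * ((a⁻¹ * p * a) * c) * a⁻¹ := by group
      _ = a * (c * (a⁻¹ * p * a)) * a⁻¹ := by rw [h1]
      _ = _ := by group
  · exact mem_centralizer_iff.2 fun p hp =>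
      D.comm hp (D.fix_le (twoPt_le (hN ha)) hat)

/-- `P` centralises `O_{r'}`. -/
theorem le_centralizer_rest : (P : Subgroup G) ≤ centralizer (rest M t r : Set G) := by
  haveI := Fact.mk D.base.prime
  set Q := (P : Subgroup G) ⊓ centralizer (rest M t r : Set G) with hQ
  suffices h : (P : Subgroup G) ≤ Q from h.trans inf_le_right
  have htc : ∀ c ∈ centralizer (rest M t r : Set G),
      t * c * t⁻¹ ∈ centralizer (rest M t r : Set G) := by
    intro c hc
    rw [mem_centralizer_iff]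
    intro e he
    have h1 := mem_centralizer_iff.1 hc _ (D.rest_conj_t he)
    calc e * (t * c * t⁻¹) = t * ((t⁻¹ * e * t) * c) * t⁻¹ := by group
      _ = t * ((t * e * t⁻¹) * c) * t⁻¹ := by rw [D.base.t_inv]
      _ = t * (c * (t * e * t⁻¹)) * t⁻¹ := by rw [h1]
      _ = t * (c * (t⁻¹ * e * t)) * t⁻¹ := by rw [D.base.t_inv]
      _ = _ := by group
  have h1 : ∀ p ∈ (P : Subgroup G), p * t * p⁻¹ * t⁻¹ ∈ Q := by
    intro p hp
    have hpi := (P : Subgroup G).inv_mem hp
    have e : p * t * p⁻¹ * t⁻¹ = p⁻¹⁻¹ * (t * p⁻¹ * t⁻¹) := by group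
    rw [e]
    refine ⟨(P : Subgroup G).mul_mem ((P : Subgroup G).inv_mem hpi) (D.conj_t _ hpi), ?_⟩
    refine mem_centralizer_iff.2 fun z hz => ?_
    exact (D.commute_rest (D.le_twoPt hpi) hz).symm.eq
  refine D.le_of_commutators (fun q hq => ⟨D.conj_t q hq.1, htc q hq.2⟩) h1 fun p hp b hb hbn => ?_
  set N := twoPt M t ⊓ normalizer ((P : Subgroup G) : Set G) with hN
  have hPn : ∀ g ∈ N, ∀ p ∈ (P : Subgroup G), g * p * g⁻¹ ∈ (P : Subgroup G) :=
    fun g hg p hp => (mem_normalizer_iff.1 hg.2 p).1 hp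
  have hQn : ∀ g ∈ N, ∀ q ∈ Q, g * q * g⁻¹ ∈ Q := by
    intro g hg q hq
    refine ⟨hPn g hg q hq.1, ?_⟩
    refine mem_centralizer_iff.2 fun e he => ?_
    have he' : g⁻¹ * e * g ∈ rest M t r := by
      have := rest_conj (inv_mem hg.1) he
      rwa [inv_inv] at this
    have h := mem_centralizer_iff.1 hq.2 _ he'
    calc e * (g * q * g⁻¹) = g * ((g⁻¹ * e * g) * q) * g⁻¹ := by group
      _ = g * (q * (g⁻¹ * e * g)) * g⁻¹ := by rw [h]
      _ = _ := by group
  -- elements acting trivially on `P` modulo `Q`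
  let T : Subgroup G :=
    { carrier := {g | g ∈ N ∧ ∀ p ∈ (P : Subgroup G), p * g * p⁻¹ * g⁻¹ ∈ Q}
      one_mem' := ⟨N.one_mem, fun p _ => by simp⟩
      mul_mem' := fun {a c} ha hc => ⟨N.mul_mem ha.1 hc.1, fun p hp => by
        have e : p * (a * c) * p⁻¹ * (a * c)⁻¹ =
            (p * a * p⁻¹ * a⁻¹) * (a * (p * c * p⁻¹ * c⁻¹) * a⁻¹) := by group
        rw [e]
        exact Q.mul_mem (ha.2 p hp) (hQn a ha.1 _ (hc.2 p hp))⟩
      inv_mem' := fun {a} ha => ⟨N.inv_mem ha.1, fun p hp => by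
        have e : p * a⁻¹ * p⁻¹ * a⁻¹⁻¹ = a⁻¹ * (p * a * p⁻¹ * a⁻¹)⁻¹ * a⁻¹⁻¹ := by group
        rw [e]
        exact hQn a⁻¹ (N.inv_mem ha.1) _ (Q.inv_mem (ha.2 p hp))⟩ }
  suffices hT : b ∈ T from hT.2 p hp
  refine mem_of_sq_mem (odd_orderOf (D.base.ctx.odd_twoPt t) hb) ⟨N.mul_mem ⟨hb, hbn⟩ ⟨hb, hbn⟩, ?_⟩
  intro z hz
  have hbN : b ∈ N := ⟨hb, hbn⟩
  have htn : ∀ n ∈ N, t * n * t⁻¹ ∈ N := by
    intro n hn
    refine ⟨D.t_conj_twoPt hn.1, mem_normalizer_iff.2 ?_⟩
    have hinv : ∀ g : G, t * (t * g * t⁻¹) * t⁻¹ = g := fun g => by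
      rw [show t * (t * g * t⁻¹) * t⁻¹ = t * t * g * (t * t)⁻¹ by group,
        mul_self_of_orderOf_two D.base.t_ord]
      group
    intro w
    have e : t * n * t⁻¹ * w * (t * n * t⁻¹)⁻¹ = t * (n * (t⁻¹ * w * t) * n⁻¹) * t⁻¹ := by group
    rw [e, D.base.t_inv]
    constructor
    · intro hw
      have h1 := hPn n hn _ (D.conj_t w hw)
      rw [D.base.t_inv] at h1
      have h2 := D.conj_t _ h1
      rwa [D.base.t_inv] at h2
    · intro hw
      have h1 := D.conj_t _ hw
      rw [D.base.t_inv] at h1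
      have h2 : n * (t * w * t) * n⁻¹ ∈ (P : Subgroup G) := by
        have := hinv (n * (t * w * t) * n⁻¹)
        rw [D.base.t_inv] at this
        rwa [this] at h1
      have h3 := hPn n⁻¹ (N.inv_mem hn) _ h2
      have e3 : n⁻¹ * (n * (t * w * t) * n⁻¹) * n⁻¹⁻¹ = t * w * t := by group
      rw [e3] at h3
      have h4 := D.conj_t _ h3
      have := hinv w
      rw [D.base.t_inv] at h4 this
      rwa [this] at h4
  have hc : b * (t * b * t⁻¹) ∈ centralizer ((P : Subgroup G) : Set G) :=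
    D.mul_conj_centralizes N inf_le_left inf_le_right htn hbN
  -- `b t b t` centralises `z`
  set z1 := b⁻¹ * z * b with hz1
  have hz1P : z1 ∈ (P : Subgroup G) := by
    have := hPn b⁻¹ (N.inv_mem hbN) z hz
    rwa [inv_inv] at this
  have hz2 : b⁻¹ * z1 * b ∈ (P : Subgroup G) := by
    have := hPn b⁻¹ (N.inv_mem hbN) z1 hz1P
    rwa [inv_inv] at this
  have hcz := mem_centralizer_iff.1 hc z hz
  have e1 : z1 = t * b * t⁻¹ * z * (t * b * t⁻¹)⁻¹ := by
    rw [hz1]
    calc b⁻¹ * z * b = b⁻¹ * (z * (b * (t * b * t⁻¹))) * (t * b * t⁻¹)⁻¹ := by group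
      _ = b⁻¹ * ((b * (t * b * t⁻¹)) * z) * (t * b * t⁻¹)⁻¹ := by rw [hcz]
      _ = _ := by group
  have hq1 : z * t * z⁻¹ * t⁻¹ ∈ Q := h1 z hz
  have hkey : z * (b * b) * z⁻¹ * (b * b)⁻¹ ∈ Q := by
    have hq2 := hQn (t * b * t⁻¹) (htn b hbN) _ (h1 _ hz)
    have hb' : b * z * b⁻¹ ∈ (P : Subgroup G) := hPn b hbN z hz
    have hq3 := h1 _ hb'
    have htz : t * z * t⁻¹ ∈ (P : Subgroup G) := D.conj_t z hz
    have hq4 := hQn b hbN _ (h1 _ hz)
    -- `b⁻¹zb ≡ bzb⁻¹` modulo `Q`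
    have hA : (b * z * b⁻¹)⁻¹ * z1 ∈ Q := by
      have e2 : (b * z * b⁻¹)⁻¹ * z1 = ((b * z * b⁻¹)⁻¹ * (t * (b * z * b⁻¹) * t⁻¹)) *
          (t * (b * ((z⁻¹ * (t * z * t⁻¹))) * b⁻¹) * t⁻¹) := by
        rw [e1]
        have : t * (b * (z⁻¹ * (t * z * t⁻¹)) * b⁻¹) * t⁻¹ =
            (t * (b * z * b⁻¹) * t⁻¹)⁻¹ * (t * b * (t * z * t⁻¹) * b⁻¹ * t⁻¹) := by group
        rw [this]
        have htt : ∀ g : G, t * (t * g) = g := fun g => by
          rw [← mul_assoc, mul_self_of_orderOf_two D.base.t_ord, one_mul]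
        simp only [mul_inv_rev, inv_inv, D.base.t_inv, mul_assoc, htt, mul_inv_cancel_left,
          inv_mul_cancel_left]
      rw [e2]
      have hq5 : (b * z * b⁻¹)⁻¹ * (t * (b * z * b⁻¹) * t⁻¹) ∈ Q := by
        have := h1 _ ((P : Subgroup G).inv_mem hb')
        have e : (b * z * b⁻¹)⁻¹ * (t * (b * z * b⁻¹) * t⁻¹) =
            (b * z * b⁻¹)⁻¹ * t * (b * z * b⁻¹)⁻¹⁻¹ * t⁻¹ := by group
        rwa [e]
      refine Q.mul_mem hq5 ⟨D.conj_t _ ?_, htc _ ?_⟩
      · refine hPn b hbN _ ((P : Subgroup G).mul_mem ((P : Subgroup G).inv_mem hz) htz)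
      · have := hQn b hbN _ (h1 _ ((P : Subgroup G).inv_mem hz))
        have e : b * (z⁻¹ * (t * z * t⁻¹)) * b⁻¹ = b * (z⁻¹ * t * z⁻¹⁻¹ * t⁻¹) * b⁻¹ := by group
        rw [e]; exact this.2
    have e : z * (b * b) * z⁻¹ * (b * b)⁻¹ =
        b * (z1 * (b * z * b⁻¹)⁻¹) * b⁻¹ := by rw [hz1]; group
    rw [e]
    refine hQn b hbN _ ?_
    rw [D.comm hz1P ((P : Subgroup G).inv_mem hb')]
    exact hA
  exact hkey

/-- `P` is normal in the stabiliser of two points. -/
theorem twoPt_le_normalizer : twoPt M t ≤ normalizer ((P : Subgroup G) : Set G) := by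
  haveI := Fact.mk D.base.prime
  set B := twoPt M t with hB
  haveI : Group.IsSolvable B := Cfsg.Agent.S0205.result (D.base.ctx.odd_twoPt t)
  let PB : Sylow r B := P.subtype D.le_twoPt
  have hn : (PB : Subgroup B).Normal := by
    refine sylow_normal_of_centralizes PB ((D.base.ctx.aGroup.subgroup B) r PB) fun N hN hd => ?_
    have hle : N ≤ Cfsg.pPrimeCore r B :=
      Lib.PSolvable.le_pPrimeCore ((D.base.prime.coprime_iff_not_dvd.2 hd).symm)
    intro p hp
    rw [mem_centralizer_iff]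
    intro y hy
    exact Subtype.ext (mem_centralizer_iff.1 (D.le_centralizer_rest hp) _ ⟨y, hle hy, rfl⟩)
  intro b hb
  rw [mem_normalizer_iff]
  intro z
  constructor
  · intro hz
    exact hn.conj_mem (⟨z, D.le_twoPt hz⟩ : B) hz ⟨b, hb⟩
  · intro hz
    have := hn.conj_mem (⟨_, D.le_twoPt hz⟩ : B) hz ⟨b, hb⟩⁻¹
    have e : b⁻¹ * (b * z * b⁻¹) * b⁻¹⁻¹ = z := by group
    rw [← e]; exact this

theorem conj_mem_sylow {b p : G} (hb : b ∈ twoPt M t) (hp : p ∈ (P : Subgroup G)) :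
    b * p * b⁻¹ ∈ (P : Subgroup G) :=
  (mem_normalizer_iff.1 (D.twoPt_le_normalizer hb) p).1 hp

theorem mul_conj_mem {b : G} (hb : b ∈ twoPt M t) :
    b * (t * b * t⁻¹) ∈ centralizer ((P : Subgroup G) : Set G) :=
  D.mul_conj_centralizes (twoPt M t) le_rfl D.twoPt_le_normalizer (fun _ h => D.t_conj_twoPt h) hb

/-- The centraliser of `P` in the two-point stabiliser is `P × O_{r'}`. -/
theorem exists_eq_mul_rest {c : G} (hc : c ∈ twoPt M t)
    (hcP : c ∈ centralizer ((P : Subgroup G) : Set G)) :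
    ∃ p ∈ (P : Subgroup G), ∃ e ∈ rest M t r, c = p * e := by
  haveI := Fact.mk D.base.prime
  set B := twoPt M t with hB
  set C := B ⊓ centralizer ((P : Subgroup G) : Set G) with hC
  have hPC : (P : Subgroup G) ≤ C := fun p hp =>
    ⟨D.le_twoPt hp, mem_centralizer_iff.2 fun q hq => D.comm hq hp⟩
  let PC : Sylow r C := P.subtype hPC
  have hcen : normalizer ((PC : Subgroup C) : Set C) ≤ centralizer ((PC : Subgroup C) : Set C) :=
    fun g _ => mem_centralizer_iff.2 fun q hq => Subtype.ext (mem_centralizer_iff.1 g.2.2 q hq)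
  set K := (MonoidHom.transferSylow PC hcen).ker with hK
  have hcompl := MonoidHom.ker_transferSylow_isComplement' PC hcen
  have hcop : (Nat.card K).Coprime r :=
    (D.base.prime.coprime_iff_not_dvd.2 (MonoidHom.not_dvd_card_ker_transferSylow PC hcen)).symm
  -- an element of order prime to `r` lies in `K`
  have hmemK : ∀ g : C, (orderOf g).Coprime r → g ∈ K := by
    intro g hg
    rw [hK, MonoidHom.mem_ker, ← orderOf_eq_one_iff]
    obtain ⟨k, hk⟩ := PC.isPGroup'.exists_card_eq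
    refine Nat.eq_one_of_dvd_coprimes (hg.pow_right k) (orderOf_map_dvd _ g) ?_
    exact hk ▸ _root_.orderOf_dvd_natCard _
  have hKn : ∀ b ∈ B, ∀ k ∈ K.map C.subtype, b * k * b⁻¹ ∈ K.map C.subtype := by
    rintro b hb - ⟨k, hk, rfl⟩
    have hmem : b * (k : G) * b⁻¹ ∈ C := by
      refine ⟨B.mul_mem (B.mul_mem hb k.2.1) (B.inv_mem hb), mem_centralizer_iff.2 fun q hq => ?_⟩
      have hq' : b⁻¹ * q * b ∈ (P : Subgroup G) := by
        have := D.conj_mem_sylow (inv_mem hb) hq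
        rwa [inv_inv] at this
      have h := mem_centralizer_iff.1 k.2.2 _ hq'
      calc q * (b * (k : G) * b⁻¹) = b * ((b⁻¹ * q * b) * (k : G)) * b⁻¹ := by group
        _ = b * ((k : G) * (b⁻¹ * q * b)) * b⁻¹ := by rw [h]
        _ = _ := by group
    refine ⟨⟨_, hmem⟩, hmemK _ ?_, rfl⟩
    rw [← orderOf_coe, orderOf_conj', orderOf_coe]
    exact hcop.coprime_dvd_left (K.orderOf_dvd_natCard hk)
  have hKrest : K.map C.subtype ≤ rest M t r := by
    set N := (K.map C.subtype).subgroupOf B with hN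
    have hle : K.map C.subtype ≤ B := (map_subtype_le _).trans inf_le_left
    haveI : N.Normal := ⟨fun a ha g => hKn g g.2 a ha⟩
    have hcard : (Nat.card N).Coprime r := by
      rw [hN, Nat.card_congr (subgroupOfEquivOfLe hle).toEquiv,
        card_map_of_injective C.subtype_injective]
      exact hcop
    intro k hk
    exact ⟨⟨k, hle hk⟩, Lib.PSolvable.le_pPrimeCore hcard (show (⟨k, hle hk⟩ : B) ∈ N from hk), rfl⟩
  obtain ⟨⟨k, p⟩, h⟩ := hcompl.2 ⟨c, hc, hcP⟩
  have h' : ((k : C) : G) * ((p : C) : G) = c := congrArg Subtype.val h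
  refine ⟨((p : C) : G), p.2, ((k : C) : G), hKrest ⟨k, k.2, rfl⟩, ?_⟩
  rw [← h']
  exact (mem_centralizer_iff.1 (k : C).2.2 _ p.2).symm

theorem rest_commute_sylow {p e : G} (hp : p ∈ (P : Subgroup G)) (he : e ∈ rest M t r) :
    Commute p e :=
  (mem_centralizer_iff.1 (D.le_centralizer_rest hp) e he).symm

/-- `O_{r'}` is central in the two-point stabiliser. -/
theorem rest_central {b e : G} (hb : b ∈ twoPt M t) (he : e ∈ rest M t r) : Commute b e := by
  haveI := Fact.mk D.base.prime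
  set C := twoPt M t ⊓ centralizer (rest M t r : Set G) with hC
  have hcen : ∀ g ∈ C, ∀ z ∈ rest M t r, Commute g z := fun g hg z hz =>
    (mem_centralizer_iff.1 hg.2 z hz).symm
  have h1 : b⁻¹ * (t * b * t⁻¹) ∈ C := ⟨(twoPt M t).mul_mem ((twoPt M t).inv_mem hb)
    (D.t_conj_twoPt hb), mem_centralizer_iff.2 fun z hz => (D.commute_rest hb hz).symm.eq⟩
  obtain ⟨c, hc, hct⟩ := exists_fixed_mul (C := C) (n := b) (mul_self_of_orderOf_two D.base.t_ord)
    (fun c hc => ⟨D.t_conj_twoPt hc.1, mem_centralizer_iff.2 fun z hz => by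
      have h := mem_centralizer_iff.1 hc.2 _ (D.rest_conj_t hz)
      rw [D.rest_inverts hz] at h
      have h2 := congrArg (fun g : G => t * g * t⁻¹) h
      have e1 : t * z⁻¹ * t⁻¹ = z := by
        rw [show t * z⁻¹ * t⁻¹ = (t * z * t⁻¹)⁻¹ by group, D.rest_inverts hz, inv_inv]
      calc z * (t * c * t⁻¹) = (t * z⁻¹ * t⁻¹) * (t * c * t⁻¹) := by rw [e1]
        _ = t * (z⁻¹ * c) * t⁻¹ := by group
        _ = t * (c * z⁻¹) * t⁻¹ := h2
        _ = (t * c * t⁻¹) * (t * z⁻¹ * t⁻¹) := by group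
        _ = _ := by rw [e1]⟩)
    (D.base.ctx.odd_card.of_dvd_nat (card_dvd_of_le (inf_le_left.trans twoPt_le))) h1
  have hbcM : b * c ∈ M := M.mul_mem (twoPt_le hb) (twoPt_le hc.1)
  have hbcP : b * c ∈ (P : Subgroup G) := D.fix_le hbcM hct
  have : Commute (b * c * c⁻¹) e :=
    (D.rest_commute_sylow hbcP he).mul_left ((hcen c hc e he).inv_left)
  rwa [mul_inv_cancel_right] at this

end PData

end Cfsg.Agent.Lib.AGroupIndex
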