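import Cfsg.Agent.Lib.AGroupIndex.CaseE2

/-!
# The two-point stabiliser: central part times a plane
-/

set_option autoImplicit false

universe u

namespace Cfsg.Agent.Lib.AGroupIndex

open Subgroup

/-- The centre of the two-point stabiliser, as a subgroup of `G`. -/
def centralPart {G : Type u} [Group G] (M : Subgroup G) (t : G) : Subgroup G :=
  twoPt M t ⊓ centralizer (twoPt M t : Set G)

/-- The two-point stabiliser: its centre is inverted by `t`, the centraliser of `P` is the product of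
the centre with a plane `W ∋ x`, and the index `l` of this centraliser is at most `(r+1)/2`. -/
structure BData {G : Type u} [Group G] [Finite G] (M : Subgroup G) (S : Sylow 2 G) (t x : G)
    (r : ℕ) (P : Sylow r G) (W : Subgroup G) (l : ℕ) : Prop where
  pd : PData M S t x r P
  w_le : W ≤ (P : Subgroup G)
  mem_w : x ∈ W
  w_conj : ∀ b ∈ twoPt M t, ∀ w ∈ W, b * w * b⁻¹ ∈ W
  w_conj_t : ∀ w ∈ W, t * w * t⁻¹ ∈ W
  w_inf : ∀ w ∈ W, w ∈ centralPart M t → w = 1
  decomp : ∀ c ∈ twoPt M t ⊓ centralizer ((P : Subgroup G) : Set G),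
    ∃ z ∈ centralPart M t, ∃ w ∈ W, c = z * w
  central_inv : ∀ z ∈ centralPart M t, t * z * t⁻¹ = z⁻¹
  card_w : Nat.card W = r ^ 2
  index_eq : ((twoPt M t ⊓ centralizer ((P : Subgroup G) : Set G)).subgroupOf (twoPt M t)).index = l
  l_bound : 2 * l ≤ r + 1
  l_ne_one : l ≠ 1
  card_eq : (swapSet M t).ncard = Nat.card (centralPart M t) * r * l
  outside : ∀ a ∈ twoPt M t, Commute a x → a ∈ centralizer ((P : Subgroup G) : Set G)

theorem sq_commute_of_inverts {G : Type*} [Group G] {g v : G} (h : g * v * g⁻¹ = v⁻¹) :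
    g * g * v = v * (g * g) := by
  have h9 : g * v⁻¹ * g⁻¹ = v := by
    calc g * v⁻¹ * g⁻¹ = (g * v * g⁻¹)⁻¹ := by group
      _ = v := by rw [h, inv_inv]
  calc g * g * v = g * (g * v * g⁻¹) * g := by simp only [mul_assoc, inv_mul_cancel, mul_one]
    _ = g * v⁻¹ * g := by rw [h]
    _ = g * v⁻¹ * g⁻¹ * (g * g) := by simp only [mul_assoc, inv_mul_cancel_left]
    _ = v * (g * g) := by rw [h9]

namespace PData

variable {G : Type u} [Group G] [Finite G] {M : Subgroup G} {S : Sylow 2 G} {t x : G} {r : ℕ}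
  {P : Sylow r G} (D : PData M S t x r P)

include D

theorem odd_orderOf_sylow {p : G} (hp : p ∈ (P : Subgroup G)) : Odd (orderOf p) :=
  odd_orderOf D.base.ctx.odd_card (D.le_m hp)

theorem mem_zpowers_of_fixed {p : G} (hp : p ∈ (P : Subgroup G)) (h : Commute p t) :
    p ∈ zpowers x :=
  D.base.stab_facts.1 p (D.le_m hp) h

theorem x_mem_of_fixed {H : Subgroup G} {p : G} (hpP : p ∈ (P : Subgroup G)) (hp : p ∈ H)
    (hp1 : p ≠ 1) (h : Commute p t) : x ∈ H := by
  haveI := Fact.mk D.base.prime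
  have hz := D.mem_zpowers_of_fixed hpP h
  have hle : zpowers p ≤ zpowers x := zpowers_le.2 hz
  have hord : orderOf p = r := by
    rcases (Nat.dvd_prime D.base.prime).1 (D.base.x_ord ▸ orderOf_dvd_of_mem_zpowers hz) with h | h
    · exact absurd (orderOf_eq_one_iff.1 h) hp1
    · exact h
  have heq : zpowers p = zpowers x :=
    eq_of_le_of_card_ge hle (by rw [Nat.card_zpowers, Nat.card_zpowers, hord, D.base.x_ord])
  exact (zpowers_le.2 hp) (heq ▸ mem_zpowers x)

theorem conj_inj {a b : G} (h : t * a * t⁻¹ = t * b * t⁻¹) : a = b :=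
  mul_left_cancel (mul_right_cancel h)

/-- The averaging decomposition of `P`. -/
theorem exists_plane : ∃ W : Subgroup G, W ≤ (P : Subgroup G) ∧ x ∈ W ∧
    (∀ b ∈ twoPt M t, ∀ w ∈ W, b * w * b⁻¹ ∈ W) ∧ (∀ w ∈ W, t * w * t⁻¹ ∈ W) ∧
    (∀ w ∈ W, w ∈ centralPart M t → w = 1) ∧
    (∀ p ∈ (P : Subgroup G), p ∈ centralPart M t → t * p * t⁻¹ = p⁻¹) ∧
    ∀ p ∈ (P : Subgroup G), ∃ z ∈ (P : Subgroup G), z ∈ centralPart M t ∧ ∃ w ∈ W, p = z * w := by
  classical
  haveI := Fact.mk D.base.prime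
  letI : CommGroup (P : Subgroup G) :=
    { (inferInstance : Group (P : Subgroup G)) with
      mul_comm := fun a b => Subtype.ext (D.comm a.2 b.2) }
  set B := twoPt M t with hB
  set C := (B ⊓ centralizer ((P : Subgroup G) : Set G)).subgroupOf B with hC
  have hmemC : ∀ b : B, b ∈ C ↔ ∀ p ∈ (P : Subgroup G), p * (b : G) = b * p := fun b => by
    rw [hC, mem_subgroupOf, mem_inf, mem_centralizer_iff]
    exact ⟨fun h => h.2, fun h => ⟨b.2, h⟩⟩
  haveI hCn : C.Normal := ⟨fun c hc b => (hmemC _).2 fun p hp => by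
    have hp' : (b : G)⁻¹ * p * b ∈ (P : Subgroup G) := by
      have := D.conj_mem_sylow (inv_mem b.2) hp
      rwa [inv_inv] at this
    have h := (hmemC c).1 hc _ hp'
    simp only [coe_mul, coe_inv]
    calc p * ((b : G) * c * (b : G)⁻¹) = b * (((b : G)⁻¹ * p * b) * c) * (b : G)⁻¹ := by group
      _ = b * (c * ((b : G)⁻¹ * p * b)) * (b : G)⁻¹ := by rw [h]
      _ = _ := by group⟩
  haveI : Fintype (B ⧸ C) := Fintype.ofFinite _
  let act : B ⧸ C → ↥(P : Subgroup G) → ↥(P : Subgroup G) := fun q p =>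
    Quotient.liftOn q (fun b : B => (⟨(b : G) * p * (b : G)⁻¹, D.conj_mem_sylow b.2 p.2⟩ :
      (P : Subgroup G))) fun a b hab => by
        have h := (hmemC _).1 (QuotientGroup.leftRel_apply.1 hab) _ p.2
        simp only [coe_mul, coe_inv] at h
        refine Subtype.ext ?_
        show (a : G) * p * (a : G)⁻¹ = (b : G) * p * (b : G)⁻¹
        calc (a : G) * p * (a : G)⁻¹
            = a * (p * ((a : G)⁻¹ * b)) * (b : G)⁻¹ := by group
          _ = a * (((a : G)⁻¹ * b) * p) * (b : G)⁻¹ := by rw [h]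
          _ = _ := by group
  have hact : ∀ (b : B) (p : (P : Subgroup G)),
      (act (b : B ⧸ C) p : G) = (b : G) * p * (b : G)⁻¹ := fun _ _ => rfl
  have hact_mul : ∀ q (p p' : (P : Subgroup G)), act q (p * p') = act q p * act q p' := by
    intro q p p'
    induction q using QuotientGroup.induction_on with
    | H b =>
      refine Subtype.ext ?_
      rw [coe_mul, hact, hact, hact, coe_mul]
      group
  let φ : (P : Subgroup G) →* (P : Subgroup G) :=
    { toFun := fun p => ∏ q : B ⧸ C, act q p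
      map_one' := Finset.prod_eq_one fun q _ => by
        induction q using QuotientGroup.induction_on with
        | H b => exact Subtype.ext (by rw [hact]; simp)
      map_mul' := fun p p' => by simp only [hact_mul, Finset.prod_mul_distrib] }
  let conjB : B → ↥(P : Subgroup G) →* ↥(P : Subgroup G) := fun b =>
    { toFun := fun p => ⟨(b : G) * p * (b : G)⁻¹, D.conj_mem_sylow b.2 p.2⟩
      map_one' := Subtype.ext (by simp)
      map_mul' := fun p p' => Subtype.ext (by
        show (b : G) * ((p : G) * p') * (b : G)⁻¹ =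
          ((b : G) * p * (b : G)⁻¹) * ((b : G) * p' * (b : G)⁻¹)
        group) }
  have hφinv : ∀ (b : B) p, conjB b (φ p) = φ p := by
    intro b p
    show conjB b (∏ q : B ⧸ C, act q p) = ∏ q : B ⧸ C, act q p
    rw [map_prod, ← Equiv.prod_comp (Equiv.mulLeft (b : B ⧸ C)) (fun q => act q p)]
    refine Finset.prod_congr rfl fun q _ => ?_
    induction q using QuotientGroup.induction_on with
    | H a =>
      refine Subtype.ext ?_
      show (b : G) * (act (a : B ⧸ C) p : G) * (b : G)⁻¹ =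
        (act (((b * a : B)) : B ⧸ C) p : G)
      rw [hact, hact, coe_mul]
      group
  have hφconj : ∀ (b : B) p, φ (conjB b p) = φ p := by
    intro b p
    show ∏ q : B ⧸ C, act q (conjB b p) = ∏ q : B ⧸ C, act q p
    rw [← Equiv.prod_comp (Equiv.mulRight (b : B ⧸ C)) (fun q => act q p)]
    refine Finset.prod_congr rfl fun q _ => ?_
    induction q using QuotientGroup.induction_on with
    | H a =>
      refine Subtype.ext ?_
      show (act (a : B ⧸ C) (conjB b p) : G) = (act (((a * b : B)) : B ⧸ C) p : G)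
      rw [hact, hact]
      show (a : G) * ((b : G) * p * (b : G)⁻¹) * (a : G)⁻¹ = _
      rw [coe_mul]
      group
  let τ : (P : Subgroup G) →* (P : Subgroup G) :=
    { toFun := fun p => ⟨t * p * t⁻¹, D.conj_t _ p.2⟩
      map_one' := Subtype.ext (by simp)
      map_mul' := fun p p' => Subtype.ext (by
        show t * ((p : G) * p') * t⁻¹ = (t * p * t⁻¹) * (t * p' * t⁻¹)
        group) }
  let cB : B →* B :=
    { toFun := fun b => ⟨t * b * t⁻¹, D.t_conj_twoPt b.2⟩
      map_one' := Subtype.ext (by simp)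
      map_mul' := fun a b => Subtype.ext (by
        show t * ((a : G) * b) * t⁻¹ = t * a * t⁻¹ * (t * b * t⁻¹)
        group) }
  have hcB : ∀ b, cB (cB b) = b := fun b =>
    Subtype.ext (conj_conj_self (mul_self_of_orderOf_two D.base.t_ord) (b : G))
  have hττ : ∀ p, τ (τ p) = p := fun p =>
    Subtype.ext (conj_conj_self (mul_self_of_orderOf_two D.base.t_ord) (p : G))
  let τq : B ⧸ C →* B ⧸ C := QuotientGroup.map _ _ cB fun c hc => (hmemC _).2 fun p hp => by
    have h := (hmemC c).1 hc _ (D.conj_t p hp)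
    refine D.conj_inj ?_
    show t * (p * (t * (c : G) * t⁻¹)) * t⁻¹ = t * ((t * (c : G) * t⁻¹) * p) * t⁻¹
    have hcc := conj_conj_self (mul_self_of_orderOf_two D.base.t_ord) (c : G)
    calc t * (p * (t * (c : G) * t⁻¹)) * t⁻¹
        = (t * p * t⁻¹) * (t * (t * (c : G) * t⁻¹) * t⁻¹) := by group
      _ = (t * p * t⁻¹) * c := by rw [hcc]
      _ = c * (t * p * t⁻¹) := h
      _ = (t * (t * (c : G) * t⁻¹) * t⁻¹) * (t * p * t⁻¹) := by rw [hcc]
      _ = _ := by group
  have hτq : Function.Involutive τq := fun q => by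
    induction q using QuotientGroup.induction_on with
    | H a => exact congrArg (fun b : B => (b : B ⧸ C)) (hcB a)
  have hφτ : ∀ p, φ (τ p) = τ (φ p) := by
    intro p
    show ∏ q : B ⧸ C, act q (τ p) = τ (∏ q : B ⧸ C, act q p)
    rw [map_prod, ← Equiv.prod_comp (hτq.toPerm τq) (fun q => τ (act q p))]
    refine Finset.prod_congr rfl fun q _ => ?_
    induction q using QuotientGroup.induction_on with
    | H a =>
      refine Subtype.ext ?_
      show (act (a : B ⧸ C) (τ p) : G) = t * (act ((cB a : B) : B ⧸ C) p : G) * t⁻¹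
      rw [hact, hact]
      show (a : G) * (t * p * t⁻¹) * (a : G)⁻¹ =
        t * ((t * (a : G) * t⁻¹) * p * (t * (a : G) * t⁻¹)⁻¹) * t⁻¹
      calc (a : G) * (t * p * t⁻¹) * (a : G)⁻¹
          = (t * (t * (a : G) * t⁻¹) * t⁻¹) * (t * p * t⁻¹) *
              (t * (t * (a : G) * t⁻¹) * t⁻¹)⁻¹ := by
            rw [conj_conj_self (mul_self_of_orderOf_two D.base.t_ord)]
        _ = _ := by group
  -- the index is prime to `r`
  have hl : ¬ r ∣ C.index := by
    intro h
    have h1 : C.index ∣ (P : Subgroup G).index := by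
      have hPC : (P : Subgroup G).subgroupOf B ≤ C := fun b hb => (hmemC b).2 fun p hp =>
        D.comm hp hb
      exact ((index_dvd_of_le hPC).trans (relIndex_dvd_index_of_le D.le_twoPt))
    exact P.not_dvd_index (h.trans h1)
  set l := C.index with hldef
  obtain ⟨k, hk⟩ := P.isPGroup'.exists_card_eq
  have hcop : (Nat.card (P : Subgroup G)).Coprime l := by
    rw [hk]; exact (D.base.prime.coprime_iff_not_dvd.2 hl).pow_left _
  have hfixed : ∀ p : (P : Subgroup G), (∀ b : B, conjB b p = p) → φ p = p ^ l := by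
    intro p hp
    show ∏ q : B ⧸ C, act q p = p ^ l
    rw [hldef, index_eq_card, Nat.card_eq_fintype_card, ← Finset.card_univ, ← Finset.prod_const]
    refine Finset.prod_congr rfl fun q _ => ?_
    induction q using QuotientGroup.induction_on with
    | H b => exact Subtype.ext ((hact b p).trans (congrArg Subtype.val (hp b)))
  have hpowinj : ∀ p q : (P : Subgroup G), p ^ l = q ^ l → p = q := fun p q h =>
    (powCoprime hcop).injective h
  have hcentral : ∀ p : (P : Subgroup G), (p : G) ∈ centralPart M t ↔ ∀ b : B, conjB b p = p := by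
    intro p
    constructor
    · intro hp b
      exact Subtype.ext (conj_eq_of_commute (mem_centralizer_iff.1 hp.2 _ b.2))
    · intro hp
      exact ⟨D.le_twoPt p.2, mem_centralizer_iff.2 fun b hb =>
        (commute_of_conj_eq (congrArg Subtype.val (hp ⟨b, hb⟩))).eq⟩
  have hφc : ∀ p, ((φ p : (P : Subgroup G)) : G) ∈ centralPart M t :=
    fun p => (hcentral _).2 fun b => hφinv b p
  -- `t` inverts the image
  let ψ : (P : Subgroup G) →* (P : Subgroup G) :=
    { toFun := fun p => φ p * τ (φ p)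
      map_one' := by simp
      map_mul' := fun p q => by simp only [map_mul]; exact mul_mul_mul_comm _ _ _ _ }
  have hψ : ∀ p, φ p * τ (φ p) = 1 := by
    intro p
    suffices h : (P : Subgroup G) ≤ ψ.ker.map (P : Subgroup G).subtype by
      obtain ⟨q, hq, hqp⟩ := h p.2
      have : q = p := Subtype.ext hqp
      rw [← this]
      exact hq
    refine D.le_of_commutators ?_ ?_ ?_
    · rintro _ ⟨q, hq, rfl⟩
      refine ⟨τ q, ?_, rfl⟩
      rw [SetLike.mem_coe, MonoidHom.mem_ker] at hq ⊢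
      show φ (τ q) * τ (φ (τ q)) = 1
      rw [hφτ, hττ, mul_comm]
      exact hq
    · intro a ha
      refine ⟨⟨a, ha⟩ * τ ⟨a, ha⟩⁻¹, ?_, ?_⟩
      · rw [SetLike.mem_coe, MonoidHom.mem_ker]
        show φ (⟨a, ha⟩ * τ ⟨a, ha⟩⁻¹) * τ (φ (⟨a, ha⟩ * τ ⟨a, ha⟩⁻¹)) = 1
        rw [map_mul, hφτ, map_mul, hττ, map_inv, map_inv]
        rw [mul_comm (τ (φ ⟨a, ha⟩)) (φ ⟨a, ha⟩)⁻¹, mul_mul_mul_comm,
          mul_inv_cancel, one_mul, inv_mul_cancel]
      · show a * (t * a⁻¹ * t⁻¹) = a * t * a⁻¹ * t⁻¹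
        group
    · intro a ha b hb _
      refine ⟨⟨a, ha⟩ * conjB ⟨b, hb⟩ ⟨a, ha⟩⁻¹, ?_, ?_⟩
      · rw [SetLike.mem_coe, MonoidHom.mem_ker]
        show φ (⟨a, ha⟩ * conjB ⟨b, hb⟩ ⟨a, ha⟩⁻¹) *
          τ (φ (⟨a, ha⟩ * conjB ⟨b, hb⟩ ⟨a, ha⟩⁻¹)) = 1
        rw [map_mul, hφconj, map_inv, mul_inv_cancel, map_one, mul_one]
      · show a * (b * a⁻¹ * b⁻¹) = a * b * a⁻¹ * b⁻¹
        group
  have hinvc : ∀ p : (P : Subgroup G), (p : G) ∈ centralPart M t → τ p = p⁻¹ := by
    intro p hp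
    have h := hψ p
    rw [hfixed p ((hcentral p).1 hp), map_pow, ← mul_pow] at h
    exact eq_inv_of_mul_eq_one_right (hpowinj _ 1 (by rw [h, one_pow]))
  set W := φ.ker.map (P : Subgroup G).subtype with hW
  have hmemW : ∀ {p : (P : Subgroup G)}, φ p = 1 → (p : G) ∈ W := fun h => ⟨_, h, rfl⟩
  refine ⟨W, map_subtype_le _, ?_, ?_, ?_, ?_, ?_, ?_⟩
  · refine hmemW (p := ⟨x, D.mem_x⟩) ?_
    have hx : τ ⟨x, D.mem_x⟩ = ⟨x, D.mem_x⟩ :=
      Subtype.ext (conj_eq_of_commute D.base.x_comm.symm)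
    have h1 := hψ ⟨x, D.mem_x⟩
    rw [← hφτ, hx] at h1
    refine Subtype.ext (eq_one_of_odd_of_sq (D.odd_orderOf_sylow (φ ⟨x, D.mem_x⟩).2) ?_)
    exact congrArg Subtype.val h1
  · rintro b hb _ ⟨p, hp, rfl⟩
    exact ⟨conjB ⟨b, hb⟩ p, (hφconj _ p).trans hp, rfl⟩
  · rintro _ ⟨p, hp, rfl⟩
    refine ⟨τ p, ?_, rfl⟩
    rw [SetLike.mem_coe, MonoidHom.mem_ker] at hp ⊢
    rw [hφτ, hp, map_one]
  · rintro _ ⟨p, hp, rfl⟩ hpc
    rw [SetLike.mem_coe, MonoidHom.mem_ker, hfixed p ((hcentral p).1 hpc)] at hp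
    exact congrArg Subtype.val (hpowinj p 1 (by rw [hp, one_pow]))
  · intro p hp hpc
    exact congrArg Subtype.val (hinvc ⟨p, hp⟩ hpc)
  · intro p hp
    obtain ⟨p', hp'⟩ := (powCoprime hcop).surjective ⟨p, hp⟩
    have e : φ (p' ^ l * (φ p')⁻¹) = 1 := by
      rw [map_mul, map_inv, map_pow, hfixed (φ p') fun b => hφinv b p', mul_inv_cancel]
    refine ⟨(φ p' : G), (φ p').2, hφc p', _, hmemW e, ?_⟩
    have e2 : (⟨p, hp⟩ : (P : Subgroup G)) = φ p' * (p' ^ l * (φ p')⁻¹) := by
      rw [← hp', mul_comm (p' ^ l), mul_inv_cancel_left]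
      rfl
    exact congrArg Subtype.val e2

theorem central_le : centralPart M t ≤ twoPt M t ⊓ centralizer ((P : Subgroup G) : Set G) :=
  fun z hz => ⟨hz.1, mem_centralizer_iff.2 fun p hp =>
    mem_centralizer_iff.1 hz.2 p (D.le_twoPt hp)⟩

/-- The facts about the two-point stabiliser. -/
theorem exists_bData : ∃ (W : Subgroup G) (l : ℕ), BData M S t x r P W l := by
  classical
  haveI := Fact.mk D.base.prime
  obtain ⟨W, hWP, hxW, hWb, hWt, hWi, hPinv, hdec⟩ := D.exists_plane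
  have htt := mul_self_of_orderOf_two D.base.t_ord
  set B := twoPt M t with hB
  set C := B ⊓ centralizer ((P : Subgroup G) : Set G) with hC
  have hPC : ∀ p ∈ (P : Subgroup G), p ∈ C := fun p hp =>
    ⟨D.le_twoPt hp, mem_centralizer_iff.2 fun q hq => D.comm hq hp⟩
  have hCcomm : ∀ c ∈ C, ∀ p ∈ (P : Subgroup G), Commute c p := fun c hc p hp =>
    (mem_centralizer_iff.1 hc.2 p hp).symm
  have hcentral_rest : ∀ e ∈ rest M t r, e ∈ centralPart M t := fun e he =>
    ⟨rest_le he, mem_centralizer_iff.2 fun b hb => (D.rest_central hb he).eq⟩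
  have hCdec : ∀ c ∈ C, ∃ z ∈ centralPart M t, ∃ w ∈ W, c = z * w := by
    intro c hc
    obtain ⟨p, hp, e, he, rfl⟩ := D.exists_eq_mul_rest hc.1 hc.2
    obtain ⟨z, hzP, hz, w, hw, rfl⟩ := hdec p hp
    refine ⟨z * e, (centralPart M t).mul_mem hz (hcentral_rest e he), w, hw, ?_⟩
    rw [mul_assoc, (D.rest_commute_sylow (hWP hw) he).eq, ← mul_assoc]
  have hZinv : ∀ z ∈ centralPart M t, t * z * t⁻¹ = z⁻¹ := by
    intro z hz
    obtain ⟨p, hp, e, he, rfl⟩ := D.exists_eq_mul_rest hz.1 (D.central_le hz).2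
    have hpc : p ∈ centralPart M t := by
      have := (centralPart M t).mul_mem hz ((centralPart M t).inv_mem (hcentral_rest e he))
      rwa [mul_inv_cancel_right] at this
    have h : t * (p * e) * t⁻¹ = (t * p * t⁻¹) * (t * e * t⁻¹) := by group
    rw [h, hPinv p hp hpc, D.rest_inverts he, mul_inv_rev]
    exact ((D.rest_commute_sylow hp he).inv_inv).eq
  have hinvmod : ∀ a ∈ B, a * (t * a * t⁻¹) ∈ C := fun a ha =>
    ⟨B.mul_mem ha (D.t_conj_twoPt ha), D.mul_conj_mem ha⟩
  have hConj : ∀ g ∈ B, ∀ c ∈ C, g * c * g⁻¹ ∈ C := by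
    intro g hg c hc
    refine ⟨B.mul_mem (B.mul_mem hg hc.1) (B.inv_mem hg), mem_centralizer_iff.2 fun p hp => ?_⟩
    have hp' : g⁻¹ * p * g ∈ (P : Subgroup G) := by
      have := D.conj_mem_sylow (B.inv_mem hg) hp
      rwa [inv_inv] at this
    have h := (hCcomm c hc _ hp').eq
    calc p * (g * c * g⁻¹) = g * ((g⁻¹ * p * g) * c) * g⁻¹ := by group
      _ = g * (c * (g⁻¹ * p * g)) * g⁻¹ := by rw [h]
      _ = _ := by group
  -- `t a t` acts on `P` as `a⁻¹`
  have hta : ∀ a ∈ B, ∀ p ∈ (P : Subgroup G),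
      (t * a * t⁻¹) * p * (t * a * t⁻¹)⁻¹ = a⁻¹ * p * a := by
    intro a ha p hp
    have h := (hCcomm _ (hinvmod a ha) p hp).eq
    calc (t * a * t⁻¹) * p * (t * a * t⁻¹)⁻¹
        = a⁻¹ * ((a * (t * a * t⁻¹)) * p) * (t * a * t⁻¹)⁻¹ := by group
      _ = a⁻¹ * (p * (a * (t * a * t⁻¹))) * (t * a * t⁻¹)⁻¹ := by rw [h]
      _ = _ := by group
  have habel : ∀ a ∈ B, ∀ b ∈ B, a⁻¹ * (b⁻¹ * a * b) ∈ C := by
    intro a ha b hb
    haveI hCn : (C.subgroupOf B).Normal := ⟨fun c hc g => mem_subgroupOf.2 (by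
      simpa using hConj g g.2 c (mem_subgroupOf.1 hc))⟩
    let cB : B →* B :=
      { toFun := fun b => ⟨t * b * t⁻¹, D.t_conj_twoPt b.2⟩
        map_one' := Subtype.ext (by simp)
        map_mul' := fun a b => Subtype.ext (by
          show t * ((a : G) * b) * t⁻¹ = t * a * t⁻¹ * (t * b * t⁻¹)
          group) }
    have h2 : ∀ g : B, ((cB g : B) : B ⧸ C.subgroupOf B) = ((g : B) : B ⧸ C.subgroupOf B)⁻¹ := by
      intro g
      refine eq_inv_of_mul_eq_one_right ?_
      rw [← QuotientGroup.mk_mul, QuotientGroup.eq_one_iff, mem_subgroupOf]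
      exact hinvmod g g.2
    have hc : ((⟨a, ha⟩ : B) : B ⧸ C.subgroupOf B) * ((⟨b, hb⟩ : B) : B ⧸ C.subgroupOf B) =
        ((⟨b, hb⟩ : B) : B ⧸ C.subgroupOf B) * ((⟨a, ha⟩ : B) : B ⧸ C.subgroupOf B) := by
      have h3 := h2 (⟨a, ha⟩ * ⟨b, hb⟩)
      rw [map_mul, QuotientGroup.mk_mul, h2, h2, QuotientGroup.mk_mul] at h3
      have h4 := congrArg (fun q => q⁻¹) h3
      simp only [mul_inv_rev, inv_inv] at h4
      exact h4.symm
    rw [← QuotientGroup.mk_mul, ← QuotientGroup.mk_mul] at hc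
    have h5 := mem_subgroupOf.1 (QuotientGroup.eq.1 hc.symm)
    simp only [coe_mul, coe_inv] at h5
    rw [show a⁻¹ * (b⁻¹ * a * b) = (b * a)⁻¹ * (a * b) by group]
    exact h5
  -- elements moving `x` have no fixed point on `W`
  have hfree : ∀ a ∈ B, ¬ Commute a x → ∀ w ∈ W, Commute a w → w = 1 := by
    intro a ha hax
    set X := W ⊓ centralizer ({a} : Set G) with hX
    have hmemX : ∀ {w : G}, w ∈ X ↔ w ∈ W ∧ Commute a w := fun {w} => by
      rw [hX, mem_inf, mem_centralizer_singleton_iff]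
      exact and_congr_right fun _ => ⟨Eq.symm, Eq.symm⟩
    have hXb : ∀ b ∈ B, ∀ w ∈ X, b * w * b⁻¹ ∈ X := by
      intro b hb w hw
      rw [hmemX] at hw ⊢
      refine ⟨hWb b hb w hw.1, ?_⟩
      have h1 : Commute (a⁻¹ * (b⁻¹ * a * b)) w := hCcomm _ (habel a ha b hb) w (hWP hw.1)
      have h2 : Commute (b⁻¹ * a * b) w := by
        have := hw.2.mul_left h1
        rwa [mul_inv_cancel_left] at this
      show a * (b * w * b⁻¹) = b * w * b⁻¹ * a
      calc a * (b * w * b⁻¹) = b * ((b⁻¹ * a * b) * w) * b⁻¹ := by group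
        _ = b * (w * (b⁻¹ * a * b)) * b⁻¹ := by rw [h2.eq]
        _ = _ := by group
    have hXt : ∀ w ∈ X, t * w * t⁻¹ ∈ X := by
      intro w hw
      rw [hmemX] at hw ⊢
      refine ⟨hWt w hw.1, (commute_of_conj_eq (D.conj_inj ?_))⟩
      calc t * (a * (t * w * t⁻¹) * a⁻¹) * t⁻¹
          = (t * a * t⁻¹) * (t * (t * w * t⁻¹) * t⁻¹) * (t * a * t⁻¹)⁻¹ := by group
        _ = (t * a * t⁻¹) * w * (t * a * t⁻¹)⁻¹ := by rw [conj_conj_self htt]
        _ = a⁻¹ * w * a := hta a ha w (hWP hw.1)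
        _ = w := by rw [mul_assoc, ← hw.2.eq, inv_mul_cancel_left]
        _ = t * (t * w * t⁻¹) * t⁻¹ := (conj_conj_self htt w).symm
    have hXinv : ∀ w ∈ X, t * w * t⁻¹ = w⁻¹ := fun w hw =>
      Lib.CharCount.inverts_of_fixedPointFree htt hXt (fun v hv hvt => by
        by_contra hv1
        refine hax (hmemX.1 (D.x_mem_of_fixed (hWP (hmemX.1 hv).1) hv hv1 ?_)).2
        exact (commute_of_conj_eq hvt).symm) hw
    intro w hw haw
    have hwX : w ∈ X := hmemX.2 ⟨hw, haw⟩
    refine hWi w hw ⟨D.le_twoPt (hWP hw), mem_centralizer_iff.2 fun b hb => ?_⟩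
    have h1 : (t * b * t⁻¹) * w * (t * b * t⁻¹)⁻¹ = b * w * b⁻¹ := by
      have h2 := hXinv _ (hXb b hb _ (X.inv_mem hwX))
      have h3 : (t * b * t⁻¹) * (t * w⁻¹ * t⁻¹) * (t * b * t⁻¹)⁻¹ = (b * w⁻¹ * b⁻¹)⁻¹ :=
        Eq.trans (by group) h2
      rw [hXinv _ (X.inv_mem hwX), inv_inv] at h3
      rw [h3]; group
    rw [hta b hb w (hWP hw)] at h1
    have h2 : Commute (b * b) w := by
      show b * b * w = w * (b * b)
      calc b * b * w = b * (b * w * b⁻¹) * b := by group
        _ = b * (b⁻¹ * w * b) * b := by rw [h1]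
        _ = _ := by group
    exact (mem_centralizer_singleton_iff.1 (mem_of_sq_mem (odd_orderOf D.base.ctx.odd_card
      (twoPt_le hb)) (mem_centralizer_singleton_iff.2 h2.eq :
        b * b ∈ centralizer ({w} : Set G))))
  -- some element moves `x`
  obtain ⟨a0, ha0, ha0x⟩ : ∃ a ∈ B, ¬ Commute a x := by
    by_contra hcon
    push Not at hcon
    exact D.base.x_ne (hWi x hxW ⟨D.le_twoPt D.mem_x, mem_centralizer_iff.2 fun b hb => (hcon b hb).eq⟩)
  have hsq : ∀ a ∈ B, Commute (a * a) x → Commute a x := fun a ha h =>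
    mem_centralizer_singleton_iff.1 (mem_of_sq_mem (odd_orderOf D.base.ctx.odd_card (twoPt_le ha))
      (mem_centralizer_singleton_iff.2 h.eq : a * a ∈ centralizer ({x} : Set G)))
  -- the inverted part of `W`
  let Wm : Subgroup G :=
    { carrier := {w | w ∈ W ∧ t * w * t⁻¹ = w⁻¹}
      one_mem' := ⟨W.one_mem, by simp⟩
      mul_mem' := fun {a b} ha hb => ⟨W.mul_mem ha.1 hb.1, by
        rw [show t * (a * b) * t⁻¹ = (t * a * t⁻¹) * (t * b * t⁻¹) by group, ha.2, hb.2,
          mul_inv_rev]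
        exact D.comm ((P : Subgroup G).inv_mem (hWP ha.1)) ((P : Subgroup G).inv_mem (hWP hb.1))⟩
      inv_mem' := fun {a} ha => ⟨W.inv_mem ha.1, by
        rw [show t * a⁻¹ * t⁻¹ = (t * a * t⁻¹)⁻¹ by group, ha.2]⟩ }
  have hmemWm : ∀ {w : G}, w ∈ Wm ↔ w ∈ W ∧ t * w * t⁻¹ = w⁻¹ := Iff.rfl
  have hxt : t * x * t⁻¹ = x := conj_eq_of_commute D.base.x_comm.symm
  have hfixz : ∀ {w : G}, w ∈ zpowers x → t * w * t⁻¹ = w := fun {w} hw => by
    obtain ⟨j, rfl⟩ := mem_zpowers_iff.1 hw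
    exact conj_eq_of_commute (D.base.x_comm.symm.zpow_right j)
  have hmeet : ∀ {w : G}, w ∈ W → t * w * t⁻¹ = w → t * w * t⁻¹ = w⁻¹ → w = 1 := fun {w} hw h h' =>
    eq_one_of_odd_of_sq (D.odd_orderOf_sylow (hWP hw))
      (by rw [h] at h'; exact mul_eq_one_iff_eq_inv.2 h')
  have hsplitW : ∀ w ∈ W, ∃ v ∈ zpowers x, ∃ v' ∈ Wm, w = v * v' := by
    intro w hw
    obtain ⟨j, hj⟩ := D.odd_orderOf_sylow (hWP hw)
    set v := w ^ (j + 1) with hv
    have hvW : v ∈ W := W.pow_mem hw _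
    have hvv : v * v = w := by
      rw [hv, ← pow_add, show j + 1 + (j + 1) = orderOf w + 1 by omega, pow_succ,
        pow_orderOf_eq_one, one_mul]
    have hvP := hWP hvW
    have hvtP : t * v * t⁻¹ ∈ (P : Subgroup G) := D.conj_t v hvP
    refine ⟨v * (t * v * t⁻¹), ?_, v * (t * v * t⁻¹)⁻¹, ⟨W.mul_mem hvW (W.inv_mem (hWt v hvW)), ?_⟩, ?_⟩
    · refine D.mem_zpowers_of_fixed ((P : Subgroup G).mul_mem hvP hvtP)
        (commute_of_conj_eq (a := t) ?_).symm
      rw [show t * (v * (t * v * t⁻¹)) * t⁻¹ = (t * v * t⁻¹) * (t * (t * v * t⁻¹) * t⁻¹) by group,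
        conj_conj_self htt, D.comm hvtP hvP]
    · rw [show t * (v * (t * v * t⁻¹)⁻¹) * t⁻¹ =
          (t * v * t⁻¹) * (t * (t * v * t⁻¹) * t⁻¹)⁻¹ by group,
        conj_conj_self htt, mul_inv_rev, inv_inv]
    · calc w = v * v := hvv.symm
        _ = (v * (t * v * t⁻¹)) * ((t * v * t⁻¹)⁻¹ * v) := by group
        _ = _ := by rw [D.comm ((P : Subgroup G).inv_mem hvtP) hvP]
  have hcardW : Nat.card W = r * Nat.card Wm := by
    rw [← D.base.x_ord, ← Nat.card_zpowers x, ← Nat.card_prod]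
    refine (Nat.card_eq_of_bijective (fun p : zpowers x × Wm =>
      (⟨p.1.1 * p.2.1, W.mul_mem ((zpowers_le.2 hxW) p.1.2) p.2.2.1⟩ : W)) ⟨?_, ?_⟩).symm
    · rintro ⟨⟨v, hv⟩, ⟨v', hv'⟩⟩ ⟨⟨w, hw⟩, ⟨w', hw'⟩⟩ h
      have h' : v * v' = w * w' := congrArg Subtype.val h
      have he : w⁻¹ * v = w' * v'⁻¹ := by
        calc w⁻¹ * v = w⁻¹ * (v * v') * v'⁻¹ := by group
          _ = w⁻¹ * (w * w') * v'⁻¹ := by rw [h']
          _ = _ := by group
      have h1 : w⁻¹ * v ∈ zpowers x := mul_mem (inv_mem hw) hv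
      have h2 : w⁻¹ * v ∈ Wm := he ▸ Wm.mul_mem hw' (Wm.inv_mem hv')
      have heq := inv_mul_eq_one.1 (hmeet h2.1 (hfixz h1) h2.2)
      subst heq
      have := mul_left_cancel h'
      subst this
      rfl
    · rintro ⟨w, hw⟩
      obtain ⟨v, hv, v', hv', rfl⟩ := hsplitW w hw
      exact ⟨(⟨v, hv⟩, ⟨v', hv'⟩), rfl⟩
  have hcardWm : Nat.card Wm = r := by
    have hle : Nat.card Wm ≤ Nat.card (zpowers x) := by
      refine Nat.card_le_card_of_injective (fun w : Wm =>
        (⟨(a0 * w * a0⁻¹) * (a0⁻¹ * w * a0)⁻¹, ?_⟩ : zpowers x)) ?_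
      · have h1 : a0 * (w : G) * a0⁻¹ ∈ (P : Subgroup G) := D.conj_mem_sylow ha0 (hWP w.2.1)
        have h2 : a0⁻¹ * (w : G) * a0 ∈ (P : Subgroup G) := by
          have := D.conj_mem_sylow (B.inv_mem ha0) (hWP w.2.1)
          rwa [inv_inv] at this
        refine D.mem_zpowers_of_fixed ((P : Subgroup G).mul_mem h1 ((P : Subgroup G).inv_mem h2))
          (commute_of_conj_eq (a := t) ?_).symm
        have e1 : t * (a0 * (w : G) * a0⁻¹) * t⁻¹ = (a0⁻¹ * (w : G) * a0)⁻¹ := by
          calc t * (a0 * (w : G) * a0⁻¹) * t⁻¹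
              = (t * a0 * t⁻¹) * (t * (w : G) * t⁻¹) * (t * a0 * t⁻¹)⁻¹ := by group
            _ = (t * a0 * t⁻¹) * (w : G)⁻¹ * (t * a0 * t⁻¹)⁻¹ := by rw [(w.2).2]
            _ = a0⁻¹ * (w : G)⁻¹ * a0 := hta a0 ha0 _ ((P : Subgroup G).inv_mem (hWP w.2.1))
            _ = _ := by group
        have e2 : t * (a0⁻¹ * (w : G) * a0)⁻¹ * t⁻¹ = a0 * (w : G) * a0⁻¹ := by
          rw [← e1, conj_conj_self htt]
        rw [show t * ((a0 * (w : G) * a0⁻¹) * (a0⁻¹ * (w : G) * a0)⁻¹) * t⁻¹ =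
          (t * (a0 * (w : G) * a0⁻¹) * t⁻¹) * (t * (a0⁻¹ * (w : G) * a0)⁻¹ * t⁻¹) by group, e1, e2]
        exact D.comm ((P : Subgroup G).inv_mem h2) h1
      · intro v w h
        have h' : (a0 * (v : G) * a0⁻¹) * (a0⁻¹ * (v : G) * a0)⁻¹ =
            (a0 * (w : G) * a0⁻¹) * (a0⁻¹ * (w : G) * a0)⁻¹ := congrArg Subtype.val h
        set d := (w : G)⁻¹ * v with hd
        have hdW : d ∈ W := W.mul_mem (W.inv_mem w.2.1) v.2.1
        have hc1 : a0⁻¹ * (v : G) * a0 ∈ (P : Subgroup G) := by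
          have := D.conj_mem_sylow (B.inv_mem ha0) (hWP v.2.1)
          rwa [inv_inv] at this
        have hc2 : a0⁻¹ * (w : G) * a0 ∈ (P : Subgroup G) := by
          have := D.conj_mem_sylow (B.inv_mem ha0) (hWP w.2.1)
          rwa [inv_inv] at this
        have h5 : a0 * d * a0⁻¹ = a0⁻¹ * d * a0 := by
          have hX : a0 * (w : G) * a0⁻¹ ∈ (P : Subgroup G) := D.conj_mem_sylow ha0 (hWP w.2.1)
          calc a0 * d * a0⁻¹ = (a0 * (w : G) * a0⁻¹)⁻¹ * ((a0 * (v : G) * a0⁻¹) *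
                (a0⁻¹ * (v : G) * a0)⁻¹) * (a0⁻¹ * (v : G) * a0) := by rw [hd]; group
            _ = (a0 * (w : G) * a0⁻¹)⁻¹ * ((a0 * (w : G) * a0⁻¹) *
                (a0⁻¹ * (w : G) * a0)⁻¹) * (a0⁻¹ * (v : G) * a0) := by rw [h']
            _ = _ := by rw [hd]; group
        have h6 : Commute (a0 * a0) d := by
          show a0 * a0 * d = d * (a0 * a0)
          calc a0 * a0 * d = a0 * (a0 * d * a0⁻¹) * a0 := by group
            _ = a0 * (a0⁻¹ * d * a0) * a0 := by rw [h5]
            _ = _ := by group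
        have h7 := hfree _ (B.mul_mem ha0 ha0) (fun h => ha0x (hsq a0 ha0 h)) d hdW h6
        exact (Subtype.ext (inv_mul_eq_one.1 h7).symm)
    rw [Nat.card_zpowers, D.base.x_ord] at hle
    have hdvd : Nat.card Wm ∣ Nat.card (P : Subgroup G) :=
      card_dvd_of_le (fun w hw => hWP hw.1)
    obtain ⟨k, hk⟩ := P.isPGroup'.exists_card_eq
    obtain ⟨i, -, hi⟩ := (Nat.dvd_prime_pow D.base.prime).1 (hk ▸ hdvd)
    rcases Nat.eq_zero_or_pos i with rfl | hi0
    · exfalso
      rw [pow_zero, card_eq_one] at hi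
      have hall : ∀ w ∈ W, t * w * t⁻¹ = w := fun w hw => by
        obtain ⟨v, hv, v', hv', rfl⟩ := hsplitW w hw
        rw [hi, mem_bot] at hv'
        rw [hv', mul_one]
        exact hfixz hv
      refine ha0x (hsq a0 ha0 ?_)
      have h := hall _ (hWb a0 ha0 x hxW)
      have h2 : t * (a0 * x * a0⁻¹) * t⁻¹ = a0⁻¹ * x * a0 := by
        calc t * (a0 * x * a0⁻¹) * t⁻¹ = (t * a0 * t⁻¹) * (t * x * t⁻¹) * (t * a0 * t⁻¹)⁻¹ := by group
          _ = _ := by rw [hxt]; exact hta a0 ha0 x D.mem_x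
      rw [h2] at h
      show a0 * a0 * x = x * (a0 * a0)
      calc a0 * a0 * x = a0 * (a0 * x * a0⁻¹) * a0 := by group
        _ = a0 * (a0⁻¹ * x * a0) * a0 := by rw [h]
        _ = _ := by group
    · refine le_antisymm hle ?_
      rw [hi]
      exact Nat.le_self_pow (by omega) r
  have hcardW2 : Nat.card W = r ^ 2 := by rw [hcardW, hcardWm, pow_two]
  -- elements fixing `x` centralise `P`
  have hout : ∀ a ∈ B, Commute a x → a ∈ C := by
    intro a ha hax
    set y := a0 * x * a0⁻¹ with hy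
    have hay : Commute a y := by
      have h1 : Commute (a⁻¹ * (a0⁻¹ * a * a0)) x := hCcomm _ (habel a ha a0 ha0) x D.mem_x
      have h2 : Commute (a0⁻¹ * a * a0) x := by
        have := hax.mul_left h1
        rwa [mul_inv_cancel_left] at this
      show a * y = y * a
      rw [hy]
      calc a * (a0 * x * a0⁻¹) = a0 * ((a0⁻¹ * a * a0) * x) * a0⁻¹ := by group
        _ = a0 * (x * (a0⁻¹ * a * a0)) * a0⁻¹ := by rw [h2.eq]
        _ = _ := by group
    have hyx : y ∉ zpowers x := by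
      intro h
      refine ha0x (hsq a0 ha0 ?_)
      have h1 := hfixz h
      have h2 : t * y * t⁻¹ = a0⁻¹ * x * a0 := by
        calc t * y * t⁻¹ = (t * a0 * t⁻¹) * (t * x * t⁻¹) * (t * a0 * t⁻¹)⁻¹ := by rw [hy]; group
          _ = _ := by rw [hxt]; exact hta a0 ha0 x D.mem_x
      rw [h2] at h1
      show a0 * a0 * x = x * (a0 * a0)
      calc a0 * a0 * x = a0 * (a0 * x * a0⁻¹) * a0 := by group
        _ = a0 * (a0⁻¹ * x * a0) * a0 := by rw [h1, ← hy]
        _ = _ := by group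
    have hX : W ⊓ centralizer ({a} : Set G) = W := by
      refine eq_of_le_of_card_ge inf_le_left ?_
      have hle : zpowers x ≤ W ⊓ centralizer ({a} : Set G) :=
        zpowers_le.2 ⟨hxW, mem_centralizer_singleton_iff.2 hax.symm.eq⟩
      have hyX : y ∈ W ⊓ centralizer ({a} : Set G) :=
        ⟨hWb a0 ha0 x hxW, mem_centralizer_singleton_iff.2 hay.symm.eq⟩
      have hlt : Nat.card (zpowers x) < Nat.card ↥(W ⊓ centralizer ({a} : Set G)) := by
        by_contra hge
        exact hyx ((eq_of_le_of_card_ge hle (not_lt.1 hge)).symm ▸ hyX)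
      have hdvd : Nat.card ↥(W ⊓ centralizer ({a} : Set G)) ∣ r ^ 2 :=
        hcardW2 ▸ card_dvd_of_le inf_le_left
      obtain ⟨i, hi, hi'⟩ := (Nat.dvd_prime_pow D.base.prime).1 hdvd
      rw [Nat.card_zpowers, D.base.x_ord, hi'] at hlt
      rw [hcardW2, hi']
      refine Nat.pow_le_pow_right D.base.prime.pos ?_
      by_contra hi2
      have : r ^ i ≤ r ^ 1 := Nat.pow_le_pow_right D.base.prime.pos (by omega)
      rw [pow_one] at this
      omega
    refine ⟨ha, mem_centralizer_iff.2 fun p hp => ?_⟩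
    obtain ⟨z, -, hz, w, hw, rfl⟩ := hdec p hp
    have h1 : Commute a w := by
      have hh : w ∈ W ⊓ centralizer ({a} : Set G) := hX.symm ▸ hw
      exact (mem_centralizer_singleton_iff.1 hh.2).symm
    exact ((show Commute a z from mem_centralizer_iff.1 hz.2 a ha).mul_right h1).symm.eq
  set l := (C.subgroupOf B).index with hl
  -- regularity on the two axes
  have hbound : 2 * l ≤ r + 1 := by
    have key : ∀ c ∈ B, ∀ v ∈ W, v ≠ 1 → Commute (c * c) v → c ∈ C := by
      intro c hc v hv hv1 h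
      have hcv : Commute c v := mem_centralizer_singleton_iff.1 (mem_of_sq_mem
        (odd_orderOf D.base.ctx.odd_card (twoPt_le hc))
        (mem_centralizer_singleton_iff.2 h.eq : c * c ∈ centralizer ({v} : Set G)))
      by_contra hcC
      exact hv1 (hfree c hc (fun hx => hcC (hout c hc hx)) v hv hcv)
    let U := {v : G // v ∈ W ∧ v ≠ 1 ∧ (t * v * t⁻¹ = v ∨ t * v * t⁻¹ = v⁻¹)}
    have hU : Nat.card U = 2 * (r - 1) := by
      have e1 : {v : G | v ∈ W ∧ v ≠ 1 ∧ (t * v * t⁻¹ = v ∨ t * v * t⁻¹ = v⁻¹)} =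
          ((zpowers x : Set G) \ {1}) ∪ ((Wm : Set G) \ {1}) := by
        ext v
        simp only [Set.mem_setOf_eq, Set.mem_union, Set.mem_diff, SetLike.mem_coe,
          Set.mem_singleton_iff]
        constructor
        · rintro ⟨hv, hv1, h | h⟩
          · exact Or.inl ⟨D.mem_zpowers_of_fixed (hWP hv) (commute_of_conj_eq h).symm, hv1⟩
          · exact Or.inr ⟨⟨hv, h⟩, hv1⟩
        · rintro (⟨hv, hv1⟩ | ⟨hv, hv1⟩)
          · exact ⟨zpowers_le.2 hxW hv, hv1, Or.inl (hfixz hv)⟩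
          · exact ⟨hv.1, hv1, Or.inr hv.2⟩
      show Nat.card {v : G | v ∈ W ∧ v ≠ 1 ∧ (t * v * t⁻¹ = v ∨ t * v * t⁻¹ = v⁻¹)} = _
      rw [Nat.card_coe_set_eq, e1, Set.ncard_union_eq]
      · rw [Set.ncard_sdiff_singleton_of_mem (one_mem _), Set.ncard_sdiff_singleton_of_mem (one_mem Wm),
          ← Nat.card_coe_set_eq, ← Nat.card_coe_set_eq, SetLike.coe_sort_coe, SetLike.coe_sort_coe,
          Nat.card_zpowers, D.base.x_ord, hcardWm, two_mul]
      · rw [Set.disjoint_left]
        rintro v ⟨hv, hv1⟩ ⟨hv', -⟩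
        exact hv1 (hmeet (zpowers_le.2 hxW hv) (hfixz hv) hv'.2)
    have hWne : Nat.card {v : W // v ≠ 1} = r ^ 2 - 1 := by
      haveI : Fintype W := Fintype.ofFinite W
      rw [Nat.card_eq_fintype_card, Fintype.card_subtype_compl, Fintype.card_subtype_eq,
        ← Nat.card_eq_fintype_card, hcardW2]
    have hinj : Nat.card (B ⧸ C.subgroupOf B) * Nat.card U ≤ Nat.card {v : W // v ≠ 1} := by
      rw [← Nat.card_prod]
      refine Nat.card_le_card_of_injective (fun p =>
        (⟨⟨(p.1.out : G) * p.2.1 * (p.1.out : G)⁻¹, hWb _ p.1.out.2 _ p.2.2.1⟩, fun h => ?_⟩ :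
          {v : W // v ≠ 1})) ?_
      · have h' : (p.1.out : G) * p.2.1 * (p.1.out : G)⁻¹ = 1 := congrArg Subtype.val h
        exact p.2.2.2.1 (conj_eq_one_iff.1 h')
      · rintro ⟨q, ⟨v, hvW, hv1, hv⟩⟩ ⟨q', ⟨v', hvW', hv1', hv'⟩⟩ h
        have h' : (q.out : G) * v * (q.out : G)⁻¹ = (q'.out : G) * v' * (q'.out : G)⁻¹ :=
          congrArg Subtype.val (congrArg Subtype.val h)
        set c := (q'.out : G)⁻¹ * (q.out : G) with hc
        have hcB : c ∈ B := B.mul_mem (B.inv_mem q'.out.2) q.out.2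
        have hcv : c * v * c⁻¹ = v' := by
          rw [hc]
          calc (q'.out : G)⁻¹ * (q.out : G) * v * ((q'.out : G)⁻¹ * (q.out : G))⁻¹
              = (q'.out : G)⁻¹ * ((q.out : G) * v * (q.out : G)⁻¹) * (q'.out : G) := by group
            _ = _ := by rw [h']; group
        have hct : c⁻¹ * (t * v * t⁻¹) * c = t * v' * t⁻¹ := by
          rw [← hta c hcB _ (D.conj_t v (hWP hvW)), ← hcv]
          group
        have hcC : c ∈ C := by
          rcases hv with hv | hv <;> rcases hv' with hv' | hv' <;> rw [hv, hv'] at hct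
          · refine key c hcB v hvW hv1 ?_
            show c * c * v = v * (c * c)
            calc c * c * v = c * (c * v * c⁻¹) * c := by group
              _ = c * v' * c := by rw [hcv]
              _ = c * (c⁻¹ * v * c) * c := by rw [hct]
              _ = _ := by group
          · refine key c hcB v hvW hv1 (mem_centralizer_singleton_iff.1 (mem_of_sq_mem
              (odd_orderOf D.base.ctx.odd_card (twoPt_le (B.mul_mem hcB hcB)))
              (mem_centralizer_singleton_iff.2 ?_ : (c * c) * (c * c) ∈ centralizer ({v} : Set G))))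
            have h8 : c * c * v * (c * c)⁻¹ = v⁻¹ := by
              have : c * v' * c⁻¹ = v⁻¹ := by
                have hv'2 : v' = (c⁻¹ * v * c)⁻¹ := by rw [hct, inv_inv]
                rw [hv'2]; group
              calc c * c * v * (c * c)⁻¹ = c * (c * v * c⁻¹) * c⁻¹ := by group
                _ = _ := by rw [hcv, this]
            exact sq_commute_of_inverts h8
          · refine key c hcB v hvW hv1 (mem_centralizer_singleton_iff.1 (mem_of_sq_mem
              (odd_orderOf D.base.ctx.odd_card (twoPt_le (B.mul_mem hcB hcB)))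
              (mem_centralizer_singleton_iff.2 ?_ : (c * c) * (c * c) ∈ centralizer ({v} : Set G))))
            have h8 : c * c * v * (c * c)⁻¹ = v⁻¹ := by
              have : c * v' * c⁻¹ = v⁻¹ := by
                have hv'2 : v' = c⁻¹ * v⁻¹ * c := hct.symm
                rw [hv'2]; group
              calc c * c * v * (c * c)⁻¹ = c * (c * v * c⁻¹) * c⁻¹ := by group
                _ = _ := by rw [hcv, this]
            exact sq_commute_of_inverts h8
          · refine key c hcB v hvW hv1 ?_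
            show c * c * v = v * (c * c)
            have hv'2 : v' = c⁻¹ * v * c := by
              have := congrArg (fun g : G => g⁻¹) hct
              simp only [mul_inv_rev, inv_inv] at this
              rw [← this]; group
            calc c * c * v = c * (c * v * c⁻¹) * c := by group
              _ = c * v' * c := by rw [hcv]
              _ = c * (c⁻¹ * v * c) * c := by rw [hv'2]
              _ = _ := by group
        have hvv : v = v' := by
          rw [← hcv]; exact (conj_eq_of_commute (hCcomm c hcC v (hWP hvW))).symm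
        have hqq : q = q' := by
          rw [← QuotientGroup.out_eq' q, ← QuotientGroup.out_eq' q']
          refine (QuotientGroup.eq.2 ?_).symm
          rw [mem_subgroupOf]
          exact hcC
        subst hvv; subst hqq; rfl
    rw [hU, hWne, ← index_eq_card, ← hl] at hinj
    obtain ⟨r', hr'⟩ : ∃ r', r = r' + 2 := ⟨r - 2, by have := D.base.prime.two_le; omega⟩
    subst hr'
    have e1 : (r' + 2) ^ 2 - 1 = (r' + 2 + 1) * (r' + 1) := by
      rw [show (r' + 2) ^ 2 = (r' + 2 + 1) * (r' + 1) + 1 by ring, Nat.add_sub_cancel]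
    rw [show r' + 2 - 1 = r' + 1 by omega, e1, ← mul_assoc, mul_comm l 2] at hinj
    exact Nat.le_of_mul_le_mul_right hinj (by omega)
  have hcardC : Nat.card C = Nat.card (centralPart M t) * r ^ 2 := by
    rw [← hcardW2, ← Nat.card_prod]
    refine (Nat.card_eq_of_bijective (fun p : centralPart M t × W =>
      (⟨p.1.1 * p.2.1, C.mul_mem (D.central_le p.1.2) (hPC _ (hWP p.2.2))⟩ : C)) ⟨?_, ?_⟩).symm
    · rintro ⟨⟨z, hz⟩, ⟨w, hw⟩⟩ ⟨⟨z', hz'⟩, ⟨w', hw'⟩⟩ h
      have h' : z * w = z' * w' := congrArg Subtype.val h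
      have he : z'⁻¹ * z = w' * w⁻¹ := by
        calc z'⁻¹ * z = z'⁻¹ * (z * w) * w⁻¹ := by group
          _ = z'⁻¹ * (z' * w') * w⁻¹ := by rw [h']
          _ = _ := by group
      have h1 := hWi _ (he ▸ W.mul_mem hw' (W.inv_mem hw) : z'⁻¹ * z ∈ W)
        ((centralPart M t).mul_mem ((centralPart M t).inv_mem hz') hz)
      have heq := inv_mul_eq_one.1 h1
      subst heq
      have := mul_left_cancel h'
      subst this
      rfl
    · rintro ⟨c, hc⟩
      obtain ⟨z, hz, w, hw, rfl⟩ := hCdec c hc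
      exact ⟨(⟨z, hz⟩, ⟨w, hw⟩), rfl⟩
  have hR : M ⊓ centralizer ({t} : Set G) = zpowers x :=
    le_antisymm (fun v hv => D.base.stab_facts.1 v hv.1 (mem_centralizer_singleton_iff.1 hv.2))
      D.base.zpowers_le_stab
  have hcardf : (swapSet M t).ncard = Nat.card (centralPart M t) * r * l := by
    have h1 : Nat.card B = r * (swapSet M t).ncard := by
      rw [← D.base.ctx.index_fix_twoPt D.base.t_ord, hR,
        ← ((zpowers x).subgroupOf B).card_mul_index,
        Nat.card_congr (subgroupOfEquivOfLe (zpowers_le.2 (D.le_twoPt D.mem_x))).toEquiv,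
        Nat.card_zpowers, D.base.x_ord]
    have h2 : Nat.card B = Nat.card (centralPart M t) * r ^ 2 * l := by
      rw [← (C.subgroupOf B).card_mul_index,
        Nat.card_congr (subgroupOfEquivOfLe (inf_le_left : C ≤ B)).toEquiv, hcardC]
    refine Nat.eq_of_mul_eq_mul_left D.base.prime.pos ?_
    rw [← h1, h2]; ring
  refine ⟨W, l, D, hWP, hxW, hWb, hWt, hWi, hCdec, hZinv, hcardW2, rfl, hbound, fun h1 => ?_,
    hcardf, fun a ha hax => (hout a ha hax).2⟩
  refine ha0x ?_
  have htop : C.subgroupOf B = ⊤ := index_eq_one.1 h1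
  have : (⟨a0, ha0⟩ : B) ∈ C.subgroupOf B := htop ▸ mem_top _
  exact hCcomm a0 (mem_subgroupOf.1 this) x D.mem_x

end PData

end Cfsg.Agent.Lib.AGroupIndex
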