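import Cfsg.Agent.Lib.AGroupIndex.CaseE3

/-!
# The case in which an element of the stabiliser fixes a single involution: contradiction
-/

set_option autoImplicit false

universe u

namespace Cfsg.Agent.Lib.AGroupIndex

open Subgroup
open scoped Pointwise

theorem sq_add_seven_le_two_pow {r : ℕ} (h : 5 ≤ r) : r * r + 7 ≤ 2 ^ r := by
  induction r, h using Nat.le_induction with
  | base => norm_num
  | succ n hn ih => rw [pow_succ]; nlinarith

theorem mem_of_pow_mem {G : Type*} [Group G] [Finite G] {K : Subgroup G} {g : G} {n : ℕ}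
    (hn : (orderOf g).Coprime n) (h : g ^ n ∈ K) : g ∈ K := by
  have heq : zpowers (g ^ n) = zpowers g := eq_of_le_of_card_ge
    (zpowers_le.2 (pow_mem (mem_zpowers g) n))
    (by rw [Nat.card_zpowers, Nat.card_zpowers, hn.orderOf_pow])
  exact (zpowers_le.2 h) (heq ▸ mem_zpowers g)

/-- A Sylow subgroup of a soluble A-group together with `O_{r'}` is normal; hence two Sylow
subgroups are conjugate by an element of `O_{r'}`. -/
theorem exists_conj_in_pPrimeCore {H : Type*} [Group H] [Finite H] [Group.IsSolvable H]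
    (hA : IsAGroup H) {r : ℕ} [Fact r.Prime] (P Q : Sylow r H) :
    ∃ e ∈ Cfsg.pPrimeCore r H, ∀ p ∈ (P : Subgroup H), e * p * e⁻¹ ∈ (Q : Subgroup H) := by
  haveI hEn : (Cfsg.pPrimeCore r H).Normal := sSup_normal _ fun _ h => h.1
  set E := Cfsg.pPrimeCore r H with hE
  let π : H →* H ⧸ E := QuotientGroup.mk' E
  have hπ : Function.Surjective π := QuotientGroup.mk'_surjective E
  have hbar : ((P.mapSurjective hπ : Sylow r (H ⧸ E)) : Subgroup (H ⧸ E)).Normal := by
    refine sylow_normal_of_centralizes _ ((hA.of_surjective hπ) r _) fun N hN hd => ?_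
    have hle : N.comap π ≤ E := by
      refine Lib.PSolvable.le_pPrimeCore ?_
      rw [Lib.PSolvable.card_comap_mk' E N]
      exact Nat.Coprime.mul_left Lib.PSolvable.pPrimeCore_coprime
        (((Fact.out : r.Prime).coprime_iff_not_dvd.2 hd).symm)
    intro p _
    rw [mem_centralizer_iff]
    intro y hy
    obtain ⟨z, rfl⟩ := hπ y
    have : π z = 1 := (QuotientGroup.eq_one_iff z).2 (hle hy)
    rw [this, one_mul, mul_one]
  set K := ((P.mapSurjective hπ : Sylow r (H ⧸ E)) : Subgroup (H ⧸ E)).comap π with hK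
  haveI hKn : K.Normal := hbar.comap π
  have hPK : (P : Subgroup H) ≤ K := fun p hp => by
    show π p ∈ ((P.mapSurjective hπ : Sylow r (H ⧸ E)) : Subgroup (H ⧸ E))
    rw [Sylow.coe_mapSurjective]
    exact mem_map_of_mem π hp
  obtain ⟨g, hg⟩ := MulAction.exists_smul_eq H P Q
  have hQK : (Q : Subgroup H) ≤ K := by
    rw [← hg, Sylow.coe_subgroup_smul]
    rintro _ ⟨p, hp, rfl⟩
    exact hKn.conj_mem p (hPK hp) g
  obtain ⟨k, hk⟩ := MulAction.exists_smul_eq K (P.subtype hPK) (Q.subtype hQK)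
  have hkmem : ∀ p ∈ (P : Subgroup H), (k : H) * p * (k : H)⁻¹ ∈ (Q : Subgroup H) := by
    intro p hp
    have h1 : k * ⟨p, hPK hp⟩ * k⁻¹ ∈ ((k • P.subtype hPK : Sylow r K) : Subgroup K) := by
      rw [Sylow.coe_subgroup_smul]
      exact ⟨⟨p, hPK hp⟩, hp, rfl⟩
    rw [hk] at h1
    exact h1
  have hksplit : ∃ e ∈ E, ∃ p0 ∈ (P : Subgroup H), (k : H) = e * p0 := by
    have h1 : π (k : H) ∈ ((P.mapSurjective hπ : Sylow r (H ⧸ E)) : Subgroup (H ⧸ E)) := k.2
    rw [Sylow.coe_mapSurjective] at h1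
    obtain ⟨p0, hp0, he⟩ := h1
    refine ⟨(k : H) * p0⁻¹, ?_, p0, hp0, (inv_mul_cancel_right _ _).symm⟩
    rw [← QuotientGroup.eq_one_iff]
    show π ((k : H) * p0⁻¹) = 1
    rw [map_mul, map_inv, he, mul_inv_cancel]
  obtain ⟨e, he, p0, hp0, hke⟩ := hksplit
  refine ⟨e, he, fun p hp => ?_⟩
  have h2 := hkmem (p0⁻¹ * p * p0)
    ((P : Subgroup H).mul_mem ((P : Subgroup H).mul_mem ((P : Subgroup H).inv_mem hp0) hp) hp0)
  rw [hke] at h2
  have e2 : e * p0 * (p0⁻¹ * p * p0) * (e * p0)⁻¹ = e * p * e⁻¹ := by group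
  rwa [e2] at h2

namespace BData

open PData (rest rest_le rest_coprime rest_conj)

variable {G : Type u} [Group G] [Finite G] {M : Subgroup G} {S : Sylow 2 G} {t x : G} {r : ℕ}
  {P : Sylow r G} {W : Subgroup G} {l : ℕ} (Bd : BData M S t x r P W l)

include Bd

theorem t_inv_conj (g : G) : t * (t * g * t⁻¹) * t⁻¹ = g :=
  conj_conj_self (mul_self_of_orderOf_two Bd.pd.base.t_ord) g

theorem mem_sylow_of_mem {y : G} {k : ℕ} (hy : y ∈ twoPt M t) (ho : orderOf y ∣ r ^ k) :
    y ∈ (P : Subgroup G) := by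
  haveI := Fact.mk Bd.pd.base.prime
  obtain ⟨i, -, hi⟩ := (Nat.dvd_prime_pow Bd.pd.base.prime).1 ho
  have hp : IsPGroup r (zpowers y) := IsPGroup.of_card (n := i) (by rw [Nat.card_zpowers, hi])
  have h : zpowers y ⊓ normalizer ((P : Subgroup G) : Set G) = zpowers y ⊓ (P : Subgroup G) :=
    hp.inf_normalizer_sylow P
  rw [inf_eq_left.2 (zpowers_le.2 (Bd.pd.twoPt_le_normalizer hy))] at h
  exact (zpowers_le (g := y) (H := (P : Subgroup G))).1 (inf_eq_left.1 h.symm)

/-- A conjugate of `P` inside the stabiliser of two points equals `P`. -/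
theorem conj_sylow_eq {g : G} (h : ∀ p ∈ (P : Subgroup G), g * p * g⁻¹ ∈ twoPt M t) :
    ∀ p ∈ (P : Subgroup G), g⁻¹ * p * g ∈ (P : Subgroup G) := by
  haveI := Fact.mk Bd.pd.base.prime
  have hle : (P : Subgroup G).map (MulAut.conj g).toMonoidHom ≤ (P : Subgroup G) := by
    rintro _ ⟨p, hp, rfl⟩
    obtain ⟨k, hk⟩ := P.isPGroup'.exists_card_eq
    refine Bd.mem_sylow_of_mem (k := k) (h p hp) ?_
    simp only [MulEquiv.coe_toMonoidHom, MulAut.conj_apply]
    rw [orderOf_conj', ← hk]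
    exact (P : Subgroup G).orderOf_dvd_natCard hp
  have heq : (P : Subgroup G).map (MulAut.conj g).toMonoidHom = (P : Subgroup G) :=
    eq_of_le_of_card_ge hle (by rw [card_map_of_injective (MulAut.conj g).injective])
  intro p hp
  obtain ⟨p', hp', he⟩ := heq.symm ▸ hp
  simp only [MulEquiv.coe_toMonoidHom, MulAut.conj_apply] at he
  rw [← he]
  simpa [mul_assoc] using (show p' ∈ (P : Subgroup G) from hp')

theorem mem_central_of_rest {e : G} (he : e ∈ rest M t r) : e ∈ centralPart M t :=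
  ⟨rest_le he, mem_centralizer_iff.2 fun _ hb => (Bd.pd.rest_central hb he).eq⟩

theorem commute_central {z b : G} (hz : z ∈ centralPart M t) (hb : b ∈ twoPt M t) : Commute z b :=
  (mem_centralizer_iff.1 hz.2 b hb).symm

/-- The centraliser of a nontrivial central element of the two-point stabiliser is contained
in it. -/
theorem mem_twoPt_of_commute {y k : G} (hy : y ∈ centralPart M t) (hy1 : y ≠ 1)
    (hk : Commute k y) : k ∈ twoPt M t := by
  have C := Bd.pd.base.ctx
  have ht2 := Bd.pd.base.t_ord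
  have hyodd : Odd (orderOf y) := odd_orderOf C.odd_card (twoPt_le hy.1)
  have hyinv := Bd.central_inv y hy
  have hnoinv : ∀ z : G, orderOf z = 2 → ¬ Commute z y := fun z hz hc =>
    hy1 (C.not_inverted hz hyodd hc ⟨1, by rw [ht2, pow_one]⟩ hyinv)
  set z := k * t * k⁻¹ with hz
  have hz2 : orderOf z = 2 := by rw [hz, orderOf_conj']; exact ht2
  have hzinv : z * y * z⁻¹ = y⁻¹ := by
    have hky : k⁻¹ * y * k = y := by rw [mul_assoc, ← hk.eq, inv_mul_cancel_left]
    calc z * y * z⁻¹ = k * (t * (k⁻¹ * y * k) * t⁻¹) * k⁻¹ := by rw [hz]; group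
      _ = k * y⁻¹ * k⁻¹ := by rw [hky, hyinv]
      _ = y⁻¹ := conj_eq_of_commute hk.inv_right
  -- the involution of the same Sylow subgroup interchanging the two points
  obtain ⟨Pz, hPz⟩ := Ctx.exists_sylow_of_invol hz2
  obtain ⟨v, hv, m, hm, e⟩ := C.exists_eq_mul Pz t
  have hv1 : v ≠ 1 := fun h => by
    rw [h, one_mul] at e
    exact C.invol_not_mem ht2 (e ▸ hm)
  have hv2 : orderOf v = 2 := by
    obtain ⟨g, hg⟩ := MulAction.exists_smul_eq G S Pz
    rw [← hg, Sylow.coe_subgroup_smul] at hv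
    obtain ⟨a, ha, rfl⟩ := hv
    show orderOf (g * a * g⁻¹) = 2
    rw [orderOf_conj']
    refine Bd.pd.base.orderOf_eq_two ha fun h => hv1 ?_
    show g * a * g⁻¹ = 1
    rw [h]; group
  have hvU : v ∈ swapSet M t := by
    refine ⟨hv2, ?_⟩
    have : t * v = m⁻¹ := by
      rw [eq_inv_iff_mul_eq_one, mul_assoc, ← e, mul_self_of_orderOf_two ht2]
    rw [this]; exact M.inv_mem hm
  obtain ⟨b, hb, hbv⟩ := C.exists_twoPt_conj ht2 hvU
  have hzv : Commute z v := C.comm Pz hPz hv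
  set z' := b⁻¹ * z * b with hz'
  have hz'2 : orderOf z' = 2 := by
    rw [hz', show b⁻¹ * z * b = b⁻¹ * z * b⁻¹⁻¹ by rw [inv_inv], orderOf_conj']; exact hz2
  have hz't : Commute z' t := by
    show b⁻¹ * z * b * t = t * (b⁻¹ * z * b)
    calc b⁻¹ * z * b * t = b⁻¹ * (z * (b * t * b⁻¹)) * b := by group
      _ = b⁻¹ * ((b * t * b⁻¹) * z) * b := by rw [hbv, hzv.eq]
      _ = _ := by group
  have hz'S : z' ∈ (S : Subgroup G) := C.mem_of_commute S Bd.pd.base.t_mem ht2 hz'2 hz't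
  have hyb : Commute y b := Bd.commute_central hy hb
  have hz'inv : z' * y * z'⁻¹ = y⁻¹ := by
    calc z' * y * z'⁻¹ = b⁻¹ * (z * (b * y * b⁻¹) * z⁻¹) * b := by rw [hz']; group
      _ = b⁻¹ * y⁻¹ * b := by rw [conj_eq_of_commute hyb.symm, hzinv]
      _ = y⁻¹ := by rw [mul_assoc, hyb.inv_left.eq, inv_mul_cancel_left]
  have hst : z' = t := by
    by_contra hne
    have hs : z' * t ∈ (S : Subgroup G) := (S : Subgroup G).mul_mem hz'S Bd.pd.base.t_mem
    have hs1 : z' * t ≠ 1 := fun h => hne (by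
      have h' := mul_eq_one_iff_eq_inv.1 h
      rwa [Bd.pd.base.t_inv] at h')
    refine hnoinv _ (Bd.pd.base.orderOf_eq_two hs hs1) ?_
    refine commute_of_conj_eq ?_
    calc z' * t * y * (z' * t)⁻¹ = z' * (t * y * t⁻¹) * z'⁻¹ := by group
      _ = (z' * y * z'⁻¹)⁻¹ := by rw [hyinv]; group
      _ = y := by rw [hz'inv, inv_inv]
  set g := b⁻¹ * k with hg
  have hgt : Commute g t := commute_of_conj_eq (by
    calc g * t * g⁻¹ = b⁻¹ * (k * t * k⁻¹) * b := by rw [hg]; group
      _ = t := hst)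
  have hgy : Commute g y := hyb.symm.inv_left.mul_left hk
  obtain ⟨σ, hσ, m', hm', e'⟩ := C.exists_eq_mul S g
  have hσt : Commute σ t := C.comm S hσ Bd.pd.base.t_mem
  have hm't : Commute m' t := by
    have : m' = σ⁻¹ * g := by rw [e']; group
    rw [this]
    exact hσt.inv_left.mul_left hgt
  have hm'B : m' ∈ twoPt M t := Bd.pd.le_twoPt (Bd.pd.fix_le hm' hm't)
  have hσy : Commute σ y := by
    have : σ = g * m'⁻¹ := by rw [e']; group
    rw [this]
    exact hgy.mul_left (Bd.commute_central hy hm'B).symm.inv_left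
  have hσ1 : σ = 1 := by
    by_contra h
    exact hnoinv σ (Bd.pd.base.orderOf_eq_two hσ h) hσy
  have : k = b * m' := by
    rw [hσ1, one_mul] at e'
    rw [← e', hg, mul_inv_cancel_left]
  rw [this]
  exact (twoPt M t).mul_mem hb hm'B

/-- The stabiliser of a third point. -/
theorem contradiction : False := by
  classical
  haveI := Fact.mk Bd.pd.base.prime
  have C := Bd.pd.base.ctx
  have E := Bd.pd.base
  have ht2 := E.t_ord
  have htt := mul_self_of_orderOf_two ht2
  set q := Nat.card (S : Subgroup G) with hq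
  set B := twoPt M t with hB
  set Z := centralPart M t with hZ
  set f := (swapSet M t).ncard with hf
  obtain ⟨-, -, hfacts⟩ := C.card_swap_facts S E.t_mem ht2
  obtain ⟨j, hj0, hj⟩ := hfacts fun s hs => E.elementary hs
  have hcard := Bd.card_eq
  rw [← hf] at hj hcard
  rw [← hq] at hj
  have hq2 : q ≡ 2 [MOD r] := E.card_modEq
  have h2r : 2 ^ r ≤ q := E.stab_facts.2
  have hl2 := Bd.l_bound
  have hl1 := Bd.l_ne_one
  have hlodd : Odd l := by
    rw [← Bd.index_eq]
    exact (C.odd_twoPt t).of_dvd_nat (index_dvd_card _)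
  have hr5 : 5 ≤ r := by
    obtain ⟨a, ha⟩ := hlodd
    omega
  have hjr : r ≤ 2 * j + 1 := by
    have h1 : 1 + j * q ≡ 1 + j * 2 [MOD r] := (hq2.mul_left j).add_left 1
    have h2 : r ∣ 1 + j * q := by
      rw [← hj, hcard, mul_comm _ r, mul_assoc]
      exact dvd_mul_right r _
    have h3 : r ∣ 1 + j * 2 :=
      Nat.modEq_zero_iff_dvd.1 (h1.symm.trans (Nat.modEq_zero_iff_dvd.2 h2))
    have := Nat.le_of_dvd (by omega) h3
    omega
  -- a third point
  obtain ⟨s, hs, hs1, hst⟩ : ∃ s ∈ (S : Subgroup G), s ≠ 1 ∧ s ≠ t := by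
    by_contra hcon
    push Not at hcon
    have hle : q ≤ 2 := by
      have hmem : ∀ a : (S : Subgroup G), a = 1 ∨ a = ⟨t, E.t_mem⟩ := fun a => by
        by_cases ha : a = 1
        · exact Or.inl ha
        · exact Or.inr (Subtype.ext (hcon a a.2 fun h => ha (Subtype.ext h)))
      rw [hq]
      calc Nat.card (S : Subgroup G) ≤ Nat.card Bool :=
            Nat.card_le_card_of_injective (fun a => if a = 1 then true else false) (by
              intro a b hab
              rcases hmem a with ha | ha <;> rcases hmem b with hb | hb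
              · rw [ha, hb]
              · subst ha hb
                have : (⟨t, E.t_mem⟩ : (S : Subgroup G)) ≠ 1 := fun h => E.t_ne (congrArg Subtype.val h)
                simp [this] at hab
              · subst ha hb
                have : (⟨t, E.t_mem⟩ : (S : Subgroup G)) ≠ 1 := fun h => E.t_ne (congrArg Subtype.val h)
                simp [this] at hab
              · rw [ha, hb])
        _ = 2 := by simp
    have h8 : 2 ^ 2 ≤ 2 ^ r := Nat.pow_le_pow_right two_pos (by omega)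
    omega
  obtain ⟨h, hh, he⟩ := C.exists_orbit S E.t_mem E.t_ne hs hs1
  have hfixs : ∀ {b : G}, b ∈ M → (h⁻¹ * b * h ∈ B ↔ s⁻¹ * b * s ∈ M) := by
    intro b hbM
    have e1 : t * (h⁻¹ * b * h) * t⁻¹ =
        (s⁻¹ * h * t⁻¹)⁻¹ * (s⁻¹ * b * s) * (s⁻¹ * h * t⁻¹) := by group
    have he' : s⁻¹ * h * t⁻¹ ∈ M := by rw [E.t_inv]; exact he
    constructor
    · intro hb'
      have h2 := (mem_twoPt.1 hb').2
      rw [e1] at h2
      have h3 := M.mul_mem (M.mul_mem he' h2) (M.inv_mem he')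
      have e2 : s⁻¹ * h * t⁻¹ * ((s⁻¹ * h * t⁻¹)⁻¹ * (s⁻¹ * b * s) * (s⁻¹ * h * t⁻¹)) *
          (s⁻¹ * h * t⁻¹)⁻¹ = s⁻¹ * b * s := by group
      rwa [e2] at h3
    · intro hb'
      refine mem_twoPt.2 ⟨M.mul_mem (M.mul_mem (M.inv_mem hh) hbM) hh, ?_⟩
      rw [e1]
      exact M.mul_mem (M.mul_mem (M.inv_mem he') hb') he'
  have hfixconj : ∀ {p : G}, p ∈ B → s⁻¹ * (h * p * h⁻¹) * s ∈ M := by
    intro p hp
    refine (hfixs (M.mul_mem (M.mul_mem hh (twoPt_le hp)) (M.inv_mem hh))).1 ?_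
    rwa [show h⁻¹ * (h * p * h⁻¹) * h = p by group]
  -- `h` does not map `P` into the stabiliser of the first two points
  have hne : ¬ ∀ p ∈ (P : Subgroup G), h * p * h⁻¹ ∈ B := by
    intro hall
    have hx' := Bd.conj_sylow_eq hall x Bd.pd.mem_x
    have h2 := hfixconj (Bd.pd.le_twoPt hx')
    rw [show h * (h⁻¹ * x * h) * h⁻¹ = x by group] at h2
    rcases E.fixed_eq hs (E.commute_of_fixes hs h2) with h' | h'
    · exact hs1 h'
    · exact hst h'
  let Bs : Subgroup G := B ⊓ M.comap (MulAut.conj s⁻¹).toMonoidHom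
  have hmemBs : ∀ {b : G}, b ∈ Bs ↔ b ∈ B ∧ s⁻¹ * b * s ∈ M := fun {b} => by
    show b ∈ B ∧ s⁻¹ * b * s⁻¹⁻¹ ∈ M ↔ _
    rw [inv_inv]
  have hBsh : ∀ {b : G}, b ∈ Bs → h⁻¹ * b * h ∈ B := fun {b} hb =>
    (hfixs (twoPt_le (hmemBs.1 hb).1)).2 (hmemBs.1 hb).2
  have hpow : ∀ {y : G}, y ∈ (P : Subgroup G) → ∃ k, orderOf y ∣ r ^ k := fun {y} hy => by
    obtain ⟨k, hk⟩ := P.isPGroup'.exists_card_eq
    exact ⟨k, hk ▸ (P : Subgroup G).orderOf_dvd_natCard hy⟩
  -- (a) no central element of `P` fixes the third point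
  have hA : ∀ y ∈ (P : Subgroup G), y ∈ Z → y ∈ Bs → y = 1 := by
    intro y hyP hyZ hyBs
    by_contra hy1
    refine hne fun p hp => Bd.mem_twoPt_of_commute hyZ hy1 ?_
    have hy0 := hBsh hyBs
    obtain ⟨k, hk⟩ := hpow hyP
    have hy0P : h⁻¹ * y * h ∈ (P : Subgroup G) := Bd.mem_sylow_of_mem (k := k) hy0 (by
      rwa [show h⁻¹ * y * h = h⁻¹ * y * h⁻¹⁻¹ by rw [inv_inv], orderOf_conj'])
    show h * p * h⁻¹ * y = y * (h * p * h⁻¹)
    calc h * p * h⁻¹ * y = h * (p * (h⁻¹ * y * h)) * h⁻¹ := by group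
      _ = h * ((h⁻¹ * y * h) * p) * h⁻¹ := by rw [Bd.pd.comm hp hy0P]
      _ = _ := by group
  -- (b) no element of `O_{r'}` does
  have hBb : ∀ y ∈ rest M t r, y ∈ Bs → y = 1 := by
    intro y hyR hyBs
    by_contra hy1
    have hyZ := Bd.mem_central_of_rest hyR
    have hy0 := hBsh hyBs
    set y0 := h⁻¹ * y * h with hy0def
    have hy0C : y0 ∉ centralizer ((P : Subgroup G) : Set G) := by
      intro hc
      refine hne fun p hp => Bd.mem_twoPt_of_commute hyZ hy1 ?_
      show h * p * h⁻¹ * y = y * (h * p * h⁻¹)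
      calc h * p * h⁻¹ * y = h * (p * y0) * h⁻¹ := by rw [hy0def]; group
        _ = h * (y0 * p) * h⁻¹ := by rw [mem_centralizer_iff.1 hc p hp]
        _ = _ := by rw [hy0def]; group
    have hZB : ∀ z ∈ Z, h * z * h⁻¹ ∈ B := fun z hz => Bd.mem_twoPt_of_commute hyZ hy1 (by
      show h * z * h⁻¹ * y = y * (h * z * h⁻¹)
      calc h * z * h⁻¹ * y = h * (z * y0) * h⁻¹ := by rw [hy0def]; group
        _ = h * (y0 * z) * h⁻¹ := by rw [(Bd.commute_central hz hy0).eq]
        _ = _ := by rw [hy0def]; group)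
    have hback : ¬ ∀ p ∈ (P : Subgroup G), h⁻¹ * p * h ∈ B := by
      intro hall
      refine hne fun p hp => Bd.pd.le_twoPt ?_
      have := Bd.conj_sylow_eq (g := h⁻¹) (by rwa [inv_inv]) p hp
      rwa [inv_inv] at this
    have hPZ : ∀ z ∈ (P : Subgroup G), z ∈ Z → z = 1 := by
      intro z hzP hzZ
      by_contra hz1
      obtain ⟨k, hk⟩ := hpow hzP
      have hz' : h * z * h⁻¹ ∈ (P : Subgroup G) :=
        Bd.mem_sylow_of_mem (hZB z hzZ) (k := k) (by rwa [orderOf_conj'])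
      refine hback fun p hp => Bd.mem_twoPt_of_commute hzZ hz1 ?_
      show h⁻¹ * p * h * z = z * (h⁻¹ * p * h)
      calc h⁻¹ * p * h * z = h⁻¹ * (p * (h * z * h⁻¹)) * h := by group
        _ = h⁻¹ * ((h * z * h⁻¹) * p) * h := by rw [Bd.pd.comm hp hz']
        _ = _ := by group
    have hZrest : ∀ z ∈ Z, z ∈ rest M t r := by
      intro z hz
      obtain ⟨p, hp, e, he', rfl⟩ := Bd.pd.exists_eq_mul_rest hz.1 (Bd.pd.central_le hz).2
      have hpZ : p ∈ Z := by
        have := Z.mul_mem hz (Z.inv_mem (Bd.mem_central_of_rest he'))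
        rwa [mul_inv_cancel_right] at this
      rwa [hPZ p hp hpZ, one_mul]
    have hinj : ∀ z ∈ Z, h * z * h⁻¹ ∈ centralizer ((P : Subgroup G) : Set G) → z = 1 := by
      intro z hz hzc
      by_contra hz1
      refine hback fun p hp => Bd.mem_twoPt_of_commute hz hz1 ?_
      have hc := mem_centralizer_iff.1 hzc p hp
      show h⁻¹ * p * h * z = z * (h⁻¹ * p * h)
      calc h⁻¹ * p * h * z = h⁻¹ * (p * (h * z * h⁻¹)) * h := by group
        _ = h⁻¹ * ((h * z * h⁻¹) * p) * h := by rw [hc]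
        _ = _ := by group
    have hZl : Nat.card Z ≤ l := by
      rw [← Bd.index_eq, index_eq_card]
      refine Nat.card_le_card_of_injective (fun z : Z =>
        ((⟨h * z * h⁻¹, hZB z z.2⟩ : B) : B ⧸ _)) ?_
      intro z w hzw
      have h1 := mem_subgroupOf.1 (QuotientGroup.eq.1 hzw)
      have h2 := hinj ((z : G)⁻¹ * w) (Z.mul_mem (Z.inv_mem z.2) w.2) (by
        have e : h * ((z : G)⁻¹ * w) * h⁻¹ = (h * z * h⁻¹)⁻¹ * (h * w * h⁻¹) := by group
        rw [e]; exact h1.2)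
      exact Subtype.ext (inv_mul_eq_one.1 h2)
    have hfle : f ≤ r * (l * l) := by
      rw [hcard]
      calc Nat.card Z * r * l ≤ l * r * l := by gcongr
        _ = r * (l * l) := by ring
    have hll : (2 * l) * (2 * l) ≤ (r + 1) * (r + 1) := Nat.mul_le_mul hl2 hl2
    have h2r' := sq_add_seven_le_two_pow hr5
    rw [hj] at hfle
    nlinarith [Nat.mul_le_mul (show r - 1 ≤ 2 * j by omega) (h2r'.trans h2r),
      Nat.mul_le_mul_left r hll, Nat.sub_add_cancel (show 1 ≤ r by omega)]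
  have hBZ : ∀ y ∈ Z, y ∈ Bs → y = 1 := by
    intro y hy hyBs
    obtain ⟨p, hp, e, he', rfl⟩ := Bd.pd.exists_eq_mul_rest hy.1 (Bd.pd.central_le hy).2
    have hc := Bd.pd.rest_commute_sylow hp he'
    have hpZ : p ∈ Z := by
      have := Z.mul_mem hy (Z.inv_mem (Bd.mem_central_of_rest he'))
      rwa [mul_inv_cancel_right] at this
    have hN : (p * e) ^ Nat.card (rest M t r) = p ^ Nat.card (rest M t r) := by
      rw [hc.mul_pow, show e ^ Nat.card (rest M t r) = 1 from
        congrArg Subtype.val (pow_card_eq_one' (x := (⟨e, he'⟩ : rest M t r))), mul_one]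
    have hpBs : p ∈ Bs := by
      refine mem_of_pow_mem (n := Nat.card (rest M t r)) ?_ (hN ▸ Bs.pow_mem hyBs _)
      obtain ⟨k, hk⟩ := hpow hp
      exact ((rest_coprime.pow_right k).coprime_dvd_right hk).symm
    have hp1 := hA p hp hpZ hpBs
    rw [hp1, one_mul] at hyBs ⊢
    exact hBb e he' hyBs
  -- (c) the part of the stabiliser centralising `P`
  set Cc := B ⊓ centralizer ((P : Subgroup G) : Set G) with hCc
  set D := Bs ⊓ Cc with hD
  have hdec : ∀ d : D, ∃ w : W, ∃ z ∈ Z, (d : G) = z * w := fun d => by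
    obtain ⟨z, hz, w, hw, e⟩ := Bd.decomp d d.2.2
    exact ⟨⟨w, hw⟩, z, hz, e⟩
  choose pr zc hzc hdz using hdec
  have hprinj : Function.Injective pr := by
    intro a b hab
    have e : (a : G) * (b : G)⁻¹ = zc a * (zc b)⁻¹ := by
      rw [hdz a, hdz b, hab]; group
    have h1 := hBZ ((a : G) * (b : G)⁻¹) (e ▸ Z.mul_mem (hzc a) (Z.inv_mem (hzc b)))
      (Bs.mul_mem a.2.1 (Bs.inv_mem b.2.1))
    exact Subtype.ext (mul_inv_eq_one.1 h1)
  have hDle : Nat.card D ≤ r ^ 2 := Bd.card_w ▸ Nat.card_le_card_of_injective pr hprinj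
  have hDr : ∀ d : D, (d : G) ^ (r ^ 2) = 1 := fun d => by
    refine hBZ _ ?_ (Bs.pow_mem d.2.1 _)
    rw [hdz d, (Bd.commute_central (hzc d) (Bd.pd.le_twoPt (Bd.w_le (pr d).2))).mul_pow]
    have : ((pr d : W) : G) ^ (r ^ 2) = 1 := by
      rw [← Bd.card_w]
      exact congrArg Subtype.val (pow_card_eq_one' (x := pr d))
    rw [this, mul_one]
    exact Z.pow_mem (hzc d) _
  have hDP : ∀ d : D, (d : G) ∈ (P : Subgroup G) := fun d =>
    Bd.mem_sylow_of_mem (k := 2) (hmemBs.1 d.2.1).1 (orderOf_dvd_of_pow_eq_one (hDr d))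
  have hsmall : Nat.card D ≤ r := by
    have hdvd : Nat.card D ∣ Nat.card (P : Subgroup G) :=
      card_dvd_of_le fun d hd => hDP ⟨d, hd⟩
    obtain ⟨k, hk⟩ := P.isPGroup'.exists_card_eq
    obtain ⟨i, -, hi⟩ := (Nat.dvd_prime_pow E.prime).1 (hk ▸ hdvd)
    rcases Nat.lt_or_ge i 2 with hi2 | hi2
    · rw [hi]
      calc r ^ i ≤ r ^ 1 := Nat.pow_le_pow_right E.prime.pos (by omega)
        _ = r := pow_one r
    exfalso
    have hbij : Function.Bijective pr := by
      rw [Nat.bijective_iff_injective_and_card]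
      refine ⟨hprinj, le_antisymm (Nat.card_le_card_of_injective pr hprinj) ?_⟩
      rw [Bd.card_w, hi]
      exact Nat.pow_le_pow_right E.prime.pos hi2
    have hzP : ∀ d : D, zc d ∈ (P : Subgroup G) := fun d => by
      have : zc d = (d : G) * ((pr d : W) : G)⁻¹ := by rw [hdz d]; group
      rw [this]
      exact (P : Subgroup G).mul_mem (hDP d) ((P : Subgroup G).inv_mem (Bd.w_le (pr d).2))
    by_cases hPZ : ∀ z ∈ (P : Subgroup G), z ∈ Z → z = 1
    · obtain ⟨d, hd⟩ := hbij.2 ⟨x, Bd.mem_w⟩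
      have hdx : (d : G) = x := by
        rw [hdz d, hPZ _ (hzP d) (hzc d), one_mul, hd]
      have h2 := (hmemBs.1 d.2.1).2
      rw [hdx] at h2
      rcases E.fixed_eq hs (E.commute_of_fixes hs h2) with h' | h'
      · exact hs1 h'
      · exact hst h'
    push Not at hPZ
    obtain ⟨p0, hp0, hp0Z, hp01⟩ := hPZ
    -- an element of `D` inverted by `t`
    obtain ⟨w1, hw1, hw1t⟩ : ∃ w ∈ W, t * w * t⁻¹ ≠ w := by
      by_contra hcon
      push Not at hcon
      have hle : W ≤ zpowers x := fun w hw =>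
        Bd.pd.mem_zpowers_of_fixed (Bd.w_le hw) (commute_of_conj_eq (hcon w hw)).symm
      have := card_le_of_le hle
      rw [Bd.card_w, Nat.card_zpowers, E.x_ord, pow_two] at this
      nlinarith [E.prime.two_le]
    set w0 := w1 * (t * w1 * t⁻¹)⁻¹ with hw0
    have hw0W : w0 ∈ W := W.mul_mem hw1 (W.inv_mem (Bd.w_conj_t _ hw1))
    have hw0inv : t * w0 * t⁻¹ = w0⁻¹ := by
      rw [hw0, show t * (w1 * (t * w1 * t⁻¹)⁻¹) * t⁻¹ =
        (t * w1 * t⁻¹) * (t * (t * w1 * t⁻¹) * t⁻¹)⁻¹ by group, Bd.t_inv_conj, mul_inv_rev,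
        inv_inv]
    have hw01 : w0 ≠ 1 := fun h' => hw1t (mul_inv_eq_one.1 h').symm
    obtain ⟨d, hd⟩ := hbij.2 ⟨w0, hw0W⟩
    set v := (d : G) with hv
    have hvz : v = zc d * w0 := by rw [hv, hdz d, hd]
    have hvP : v ∈ (P : Subgroup G) := hDP d
    have hv1 : v ≠ 1 := by
      intro h'
      rw [hvz] at h'
      refine hw01 (Bd.w_inf w0 hw0W ?_)
      rw [(mul_eq_one_iff_inv_eq.1 h').symm]
      exact Z.inv_mem (hzc d)
    have hvinv : t * v * t⁻¹ = v⁻¹ := by
      rw [hvz, show t * (zc d * w0) * t⁻¹ = (t * zc d * t⁻¹) * (t * w0 * t⁻¹) by group,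
        Bd.central_inv _ (hzc d), hw0inv, mul_inv_rev (zc d) w0]
      exact ((Bd.commute_central (hzc d) (Bd.pd.le_twoPt (Bd.w_le hw0W))).inv_inv).eq
    have hvodd : Odd (orderOf v) := Bd.pd.odd_orderOf_sylow hvP
    have hnoinv : ∀ z : G, orderOf z = 2 → ¬ Commute z v := fun z hz hc =>
      hv1 (C.not_inverted hz hvodd hc ⟨1, by rw [ht2, pow_one]⟩ hvinv)
    set H := centralizer ({v} : Set G) with hH
    have hHodd : Odd (Nat.card H) := by
      rw [← Nat.not_even_iff_odd, even_iff_two_dvd]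
      intro h2
      obtain ⟨z, hz⟩ := exists_prime_orderOf_dvd_card' 2 h2
      exact hnoinv z (by rw [orderOf_coe]; exact hz) (mem_centralizer_singleton_iff.1 z.2)
    haveI : Group.IsSolvable H := Cfsg.Agent.S0205.result hHodd
    have hHP : (P : Subgroup G) ≤ H := fun p hp =>
      mem_centralizer_singleton_iff.2 (Bd.pd.comm hp hvP)
    have hHfix : ∀ g ∈ H, Commute g t → g ∈ zpowers x := by
      intro g hg hgt
      obtain ⟨σ, hσ, m, hm, e⟩ := C.exists_eq_mul S g
      have hmt : Commute m t := by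
        have : m = σ⁻¹ * g := by rw [e]; group
        rw [this]
        exact (show Commute σ t from C.comm S hσ E.t_mem).inv_left.mul_left hgt
      have hmx := E.stab_facts.1 m hm hmt
      have hσv : Commute σ v := by
        have : σ = g * m⁻¹ := by rw [e]; group
        rw [this]
        exact (show Commute g v from mem_centralizer_singleton_iff.1 hg).mul_left
          (Commute.inv_left (show Commute m v from Bd.pd.comm (Bd.pd.fix_le hm hmt) hvP))
      have hσ1 : σ = 1 := by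
        by_contra h'
        exact hnoinv σ (E.orderOf_eq_two hσ h') hσv
      rw [e, hσ1, one_mul]; exact hmx
    have hHt : ∀ g ∈ H, t * g * t⁻¹ ∈ H := by
      intro g hg
      rw [hH, mem_centralizer_singleton_iff] at hg ⊢
      have hv' : v = t * v⁻¹ * t⁻¹ := by
        calc v = (t * v * t⁻¹)⁻¹ := by rw [hvinv, inv_inv]
          _ = _ := by group
      have hg' : g * v⁻¹ = v⁻¹ * g := ((show Commute g v from hg).inv_right).eq
      calc t * g * t⁻¹ * v = t * g * t⁻¹ * (t * v⁻¹ * t⁻¹) := by rw [← hv']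
        _ = t * (g * v⁻¹) * t⁻¹ := by group
        _ = t * (v⁻¹ * g) * t⁻¹ := by rw [hg']
        _ = (t * v⁻¹ * t⁻¹) * (t * g * t⁻¹) := by group
        _ = _ := by rw [← hv']
    set Ev := (Cfsg.pPrimeCore r H).map H.subtype with hEv
    have hEcop : (Nat.card Ev).Coprime r := by
      rw [hEv, card_map_of_injective H.subtype_injective]
      exact Lib.PSolvable.pPrimeCore_coprime
    have hEt : ∀ e ∈ Ev, t * e * t⁻¹ ∈ Ev := by
      rintro _ ⟨a, ha, rfl⟩
      let c : H ≃* H :=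
        { toFun := fun g => ⟨t * g * t⁻¹, hHt g g.2⟩
          invFun := fun g => ⟨t * g * t⁻¹, hHt g g.2⟩
          left_inv := fun g => Subtype.ext (Bd.t_inv_conj g)
          right_inv := fun g => Subtype.ext (Bd.t_inv_conj g)
          map_mul' := fun a b => Subtype.ext (by
            show t * ((a : G) * b) * t⁻¹ = t * a * t⁻¹ * (t * b * t⁻¹)
            group) }
      refine ⟨c a, ?_, rfl⟩
      rw [← Lib.PSolvable.map_pPrimeCore_equiv c]
      exact mem_map_of_mem _ ha
    have hEinv : ∀ e ∈ Ev, t * e * t⁻¹ = e⁻¹ := fun e he' =>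
      Lib.CharCount.inverts_of_fixedPointFree htt hEt (fun a ha hat => by
        obtain ⟨b, -, hb⟩ := id ha
        have h1 := hHfix a (hb ▸ b.2) (commute_of_conj_eq hat).symm
        exact orderOf_eq_one_iff.1 (Nat.eq_one_of_dvd_coprimes hEcop
          (Ev.orderOf_dvd_natCard ha) (E.x_ord ▸ orderOf_dvd_of_mem_zpowers h1))) he'
    have hP0E : ∀ e ∈ Ev, Commute p0 e := by
      intro e he'
      obtain ⟨b, hb, hbe⟩ := id he'
      have he2 : p0 * e * p0⁻¹ ∈ Ev := by
        haveI : (Cfsg.pPrimeCore r H).Normal := sSup_normal _ fun _ h => h.1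
        refine ⟨⟨p0, hHP hp0⟩ * b * ⟨p0, hHP hp0⟩⁻¹, Normal.conj_mem inferInstance b hb _, ?_⟩
        rw [← hbe]; rfl
      have h1 : (t * p0 * t⁻¹) * (t * e * t⁻¹) * (t * p0 * t⁻¹)⁻¹ =
          t * (p0 * e * p0⁻¹) * t⁻¹ := by group
      rw [hEinv _ he2, hEinv _ he', Bd.central_inv p0 hp0Z] at h1
      have h2 : p0⁻¹ * e * p0 = p0 * e * p0⁻¹ := by
        have := congrArg (fun g : G => g⁻¹) h1
        simp only [mul_inv_rev, inv_inv] at this ⊢
        simpa [mul_assoc] using this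
      have h3 : Commute (p0 * p0) e := by
        show p0 * p0 * e = e * (p0 * p0)
        calc p0 * p0 * e = p0 * (p0 * e * p0⁻¹) * p0 := by group
          _ = p0 * (p0⁻¹ * e * p0) * p0 := by rw [h2]
          _ = _ := by group
      exact mem_centralizer_singleton_iff.1 (mem_of_sq_mem (Bd.pd.odd_orderOf_sylow hp0)
        (mem_centralizer_singleton_iff.2 h3.eq : p0 * p0 ∈ centralizer ({e} : Set G)))
    -- the conjugate Sylow subgroup also centralises `v`
    have hv0 : h⁻¹ * v * h ∈ (P : Subgroup G) := by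
      obtain ⟨k, hk⟩ := hpow hvP
      refine Bd.mem_sylow_of_mem (k := k) (hBsh d.2.1) ?_
      rwa [show h⁻¹ * v * h = h⁻¹ * v * h⁻¹⁻¹ by rw [inv_inv], orderOf_conj']
    have hQH : ((h • P : Sylow r G) : Subgroup G) ≤ H := by
      rw [Sylow.coe_subgroup_smul]
      rintro _ ⟨p, hp, rfl⟩
      refine mem_centralizer_singleton_iff.2 ?_
      show h * p * h⁻¹ * v = v * (h * p * h⁻¹)
      calc h * p * h⁻¹ * v = h * (p * (h⁻¹ * v * h)) * h⁻¹ := by group
        _ = h * ((h⁻¹ * v * h) * p) * h⁻¹ := by rw [Bd.pd.comm hp hv0]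
        _ = _ := by group
    obtain ⟨e, he', hconj⟩ := exists_conj_in_pPrimeCore (C.aGroup.subgroup H)
      (P.subtype hHP) ((h • P : Sylow r G).subtype hQH)
    have h1 := hconj ⟨p0, hHP hp0⟩ hp0
    have h2 : (e : G) * p0 * (e : G)⁻¹ = p0 :=
      conj_eq_of_commute (hP0E (e : G) ⟨e, he', rfl⟩).symm
    have h3 : p0 ∈ ((h • P : Sylow r G) : Subgroup G) := by
      have h3 : ((e * ⟨p0, hHP hp0⟩ * e⁻¹ : H) : G) ∈ ((h • P : Sylow r G) : Subgroup G) := h1
      simp only [coe_mul, coe_inv, h2] at h3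
      exact h3
    rw [Sylow.coe_subgroup_smul] at h3
    obtain ⟨p', hp', e3⟩ := h3
    have e4 : h * p' * h⁻¹ = p0 := e3
    refine hp01 (hA p0 hp0 hp0Z (hmemBs.2 ⟨Bd.pd.le_twoPt hp0, ?_⟩))
    rw [← e4]
    exact hfixconj (Bd.pd.le_twoPt hp')
  -- the orbit of the third point
  have hBs : Nat.card Bs ≤ r * l := by
    have h1 : Cc.relIndex Bs ≤ l := by
      have hl' : Cc.relIndex B = l := Bd.index_eq
      rw [← hl']
      exact relIndex_le_of_le_right inf_le_left (by rw [hl']; obtain ⟨a, ha⟩ := hlodd; omega)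
    have h2 := (Cc.subgroupOf Bs).card_mul_index
    have h3 : Nat.card (Cc.subgroupOf Bs) = Nat.card D := by
      rw [← card_map_of_injective (K := Cc.subgroupOf Bs) Bs.subtype_injective,
        subgroupOf_map_subtype, hD, inf_comm]
    rw [h3] at h2
    rw [← h2]
    exact Nat.mul_le_mul hsmall h1
  set O := MulAction.orbit B ((s : G) : G ⧸ M) with hO
  have hstab : MulAction.stabilizer B ((s : G) : G ⧸ M) = Bs.subgroupOf B := by
    ext b
    rw [mem_subgroupOf, MulAction.mem_stabilizer_iff]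
    show (((b : G) * s : G) : G ⧸ M) = _ ↔ _
    rw [eq_comm, QuotientGroup.eq, hmemBs, ← mul_assoc]
    exact ⟨fun h' => ⟨b.2, h'⟩, fun h' => h'.2⟩
  have hOcard : O.ncard = (Bs.subgroupOf B).index := by
    rw [hO, ← MulAction.index_stabilizer, hstab]
  have hOodd : Odd O.ncard := by
    rw [hOcard]
    exact (C.odd_twoPt t).of_dvd_nat (index_dvd_card _)
  have hBcard : Nat.card B = f * r := by
    have h2 := C.index_fix_twoPt ht2
    have hR : M ⊓ centralizer ({t} : Set G) = zpowers x :=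
      le_antisymm (fun v hv => E.stab_facts.1 v hv.1 (mem_centralizer_singleton_iff.1 hv.2))
        E.zpowers_le_stab
    rw [hR, ← hB, ← hf] at h2
    rw [← h2, mul_comm, ← ((zpowers x).subgroupOf B).card_mul_index,
      Nat.card_congr (subgroupOfEquivOfLe (zpowers_le.2 (Bd.pd.le_twoPt Bd.pd.mem_x))).toEquiv,
      Nat.card_zpowers, E.x_ord]
  have hOl : f ≤ O.ncard * l := by
    have h1 := (Bs.subgroupOf B).card_mul_index
    rw [Nat.card_congr (subgroupOfEquivOfLe (inf_le_left : Bs ≤ B)).toEquiv, ← hOcard, hBcard] at h1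
    refine Nat.le_of_mul_le_mul_right ?_ E.prime.pos
    calc f * r = Nat.card Bs * O.ncard := h1.symm
      _ ≤ r * l * O.ncard := Nat.mul_le_mul_right _ hBs
      _ = O.ncard * l * r := by ring
  set O' := (fun z : G ⧸ M => t • z) '' O with hO'
  have htsm : ∀ b : B, ∀ z : G ⧸ M,
      t • b • z = (⟨t * b * t⁻¹, C.conj_mem_twoPt ht2 b.2⟩ : B) • t • z := fun b z => by
    show t • (b : G) • z = (t * (b : G) * t⁻¹) • t • z
    rw [smul_smul, smul_smul]
    congr 1
    group
  have hdisj : Disjoint O O' := by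
    rw [Set.disjoint_left]
    rintro _ hz ⟨z0, hz0, rfl⟩
    -- then `t` preserves the orbit
    have hts : t • ((s : G) : G ⧸ M) ∈ O := by
      obtain ⟨b0, hb0⟩ := hz0
      have hb0' : b0 • ((s : G) : G ⧸ M) = z0 := hb0
      have hz' : t • z0 ∈ O := hz
      rw [← hb0', htsm] at hz'
      obtain ⟨b1, hb1⟩ := hz'
      exact ⟨(⟨t * b0 * t⁻¹, C.conj_mem_twoPt ht2 b0.2⟩ : B)⁻¹ * b1, by
        show ((⟨t * b0 * t⁻¹, C.conj_mem_twoPt ht2 b0.2⟩ : B)⁻¹ * b1) • ((s : G) : G ⧸ M) = _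
        rw [mul_smul, inv_smul_eq_iff]
        exact hb1⟩
    have hpres : ∀ z ∈ O, t • z ∈ O := by
      rintro _ ⟨b, rfl⟩
      show t • b • ((s : G) : G ⧸ M) ∈ O
      rw [htsm]
      exact MulAction.mapsTo_smul_orbit _ _ hts
    haveI : Fintype (G ⧸ M) := Fintype.ofFinite _
    rw [Set.ncard_eq_toFinset_card'] at hOodd
    refine Nat.not_even_iff_odd.2 hOodd (even_card_of_involutive _ (fun z => t • z)
      (fun z hz' => Set.mem_toFinset.2 (hpres z (Set.mem_toFinset.1 hz'))) (fun z _ => ?_)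
      (fun z _ hzt => ?_))
    · show t • t • z = z
      rw [smul_smul, htt, one_smul]
    · obtain ⟨σ, rfl⟩ := (C.bijective_mk S).2 z
      have h2 := QuotientGroup.eq.1
        (show ((σ : G) : G ⧸ M) = ((t * (σ : G) : G) : G ⧸ M) from hzt.symm)
      refine C.invol_not_mem (t := (σ : G)⁻¹ * t * (σ : G)⁻¹⁻¹) ?_ ?_
      · rw [orderOf_conj']; exact ht2
      · rw [inv_inv, mul_assoc]; exact h2
  have hαO : ((1 : G) : G ⧸ M) ∉ O ∧ ((t : G) : G ⧸ M) ∉ O := by
    have hfixβ : ∀ b : B, b • ((t : G) : G ⧸ M) = ((t : G) : G ⧸ M) := fun b => by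
      refine (QuotientGroup.eq.2 ?_).symm
      show t⁻¹ * ((b : G) * t) ∈ M
      have h2 := (mem_twoPt.1 b.2).2
      rw [E.t_inv] at h2 ⊢
      rwa [← mul_assoc]
    have hfixα : ∀ b : B, b • ((1 : G) : G ⧸ M) = ((1 : G) : G ⧸ M) := fun b =>
      (QuotientGroup.eq.2 (show (1 : G)⁻¹ * ((b : G) * 1) ∈ M by
        simpa using twoPt_le b.2)).symm
    have key : ∀ σ : (S : Subgroup G), (∀ b : B, b • ((σ : G) : G ⧸ M) = ((σ : G) : G ⧸ M)) →
        ((σ : G) : G ⧸ M) ∈ O → (σ : G) = s := by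
      intro σ hσ hmem
      obtain ⟨b, hb⟩ := MulAction.mem_orbit_symm.1 hmem
      have h' : ((σ : G) : G ⧸ M) = ((s : G) : G ⧸ M) := (hσ b).symm.trans hb
      exact congrArg Subtype.val ((C.bijective_mk S).1 (a₂ := ⟨s, hs⟩) h')
    exact ⟨fun hmem => hs1 (key 1 hfixα hmem).symm,
      fun hmem => hst (key ⟨t, E.t_mem⟩ hfixβ hmem).symm⟩
  have hαO' : ((1 : G) : G ⧸ M) ∉ O' ∧ ((t : G) : G ⧸ M) ∉ O' := by
    constructor
    · rintro ⟨z, hz, hzt⟩
      have : z = ((t : G) : G ⧸ M) := by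
        have h' : t • t • z = t • ((1 : G) : G ⧸ M) := congrArg (fun y => t • y) hzt
        rw [smul_smul, htt, one_smul] at h'
        rw [h']
        show ((t * 1 : G) : G ⧸ M) = _
        rw [mul_one]
      exact hαO.2 (this ▸ hz)
    · rintro ⟨z, hz, hzt⟩
      have : z = ((1 : G) : G ⧸ M) := by
        have h' : t • t • z = t • ((t : G) : G ⧸ M) := congrArg (fun y => t • y) hzt
        rw [smul_smul, htt, one_smul] at h'
        rw [h']
        show ((t * t : G) : G ⧸ M) = _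
        rw [htt]
      exact hαO.1 (this ▸ hz)
  have h2O : 2 * O.ncard + 2 ≤ q := by
    have hab : ((1 : G) : G ⧸ M) ≠ ((t : G) : G ⧸ M) := by
      intro h'
      refine C.invol_not_mem ht2 ?_
      simpa using QuotientGroup.eq.1 h'
    have hd2 : Disjoint (O ∪ O') {((1 : G) : G ⧸ M), ((t : G) : G ⧸ M)} := by
      rw [Set.disjoint_right]
      rintro z (rfl | rfl) hz
      · exact hz.elim hαO.1 hαO'.1
      · exact hz.elim hαO.2 hαO'.2
    have hle := Set.ncard_le_card ((O ∪ O') ∪ {((1 : G) : G ⧸ M), ((t : G) : G ⧸ M)})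
    rw [Set.ncard_union_eq hd2, Set.ncard_union_eq hdisj, Set.ncard_pair hab,
      hO', Set.ncard_image_of_injective _ (MulAction.injective t)] at hle
    rw [hq, C.card_sylow S, index_eq_card]
    omega
  rw [hj] at hOl
  nlinarith [Nat.mul_le_mul_right l h2O, Nat.mul_le_mul_left q hl2, Nat.mul_le_mul_left q hjr,
    Nat.mul_le_mul_left q hr5]

end BData

/-- The case of a single fixed involution is impossible. -/
theorem EData.contradiction {G : Type u} [Group G] [Finite G] {M : Subgroup G} {S : Sylow 2 G}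
    {t x : G} {r : ℕ} (E : EData M S t x r) : False := by
  obtain ⟨P, hP⟩ := E.exists_pData
  obtain ⟨W, l, hB⟩ := hP.exists_bData
  exact hB.contradiction

end Cfsg.Agent.Lib.AGroupIndex
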