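import Cfsg.Agent.Lib.AGroupIndex.Count
import Cfsg.Agent.Lib.Coprime.Generation
import Cfsg.Agent.Lib.Frobenius.Kernel
import Cfsg.Agent.Lib.CharCount.InvertingInvolution

/-!
# The case in which no element of the stabiliser fixes a single involution of `S`
-/

set_option autoImplicit false

universe u

namespace Cfsg.Agent.Lib.AGroupIndex

open Subgroup

namespace Ctx

variable {G : Type u} [Group G] [Finite G] {M : Subgroup G} (C : Ctx M) (S : Sylow 2 G)

include C

theorem split_centralizer_of_normalizes {u : G} (hu : u ∈ M)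
    (hn : u ∈ normalizer ((S : Subgroup G) : Set G)) :
    ∀ s ∈ (S : Subgroup G), ∀ m ∈ M, s * m ∈ centralizer ({u} : Set G) →
      s ∈ centralizer ({u} : Set G) := by
  intro s hs m hm h
  rw [mem_centralizer_singleton_iff] at h ⊢
  have e : (u * s * u⁻¹) * (u * m * u⁻¹) = s * m := by
    calc (u * s * u⁻¹) * (u * m * u⁻¹) = u * (s * m) * u⁻¹ := by group
      _ = (s * m) * u * u⁻¹ := by rw [h]
      _ = s * m := by group
  have := C.mul_inj S ((mem_normalizer_iff.1 hn s).1 hs) hs
    (M.mul_mem (M.mul_mem hu hm) (M.inv_mem hu)) hm e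
  exact (mul_inv_eq_iff_eq_mul.1 this).symm

/-- If two involutions of `S` are fixed by `u`, then every involution fixed by `u` lies in `S`. -/
theorem invol_mem_of_two_fixed {t t' u : G} (ht : t ∈ (S : Subgroup G)) (ht2 : orderOf t = 2)
    (ht' : t' ∈ (S : Subgroup G)) (ht2' : orderOf t' = 2) (hne : t ≠ t') (hu : u ∈ M)
    (hu1 : u ≠ 1) (hut : Commute u t) (hut' : Commute u t') {s : G} (hs2 : orderOf s = 2)
    (hsu : Commute s u) : s ∈ (S : Subgroup G) := by
  haveI : Fact (Nat.Prime 2) := ⟨Nat.prime_two⟩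
  set H := centralizer ({u} : Set G) with hH
  have hn : u ∈ normalizer ((S : Subgroup G) : Set G) :=
    C.centralizer_invol_le S ht ht2 (mem_centralizer_singleton_iff.2 hut.eq)
  have hsplit := C.split_centralizer_of_normalizes S hu hn
  haveI := C.split_solvable S (C.centralizer_ne_top hu1) hsplit
  set A := (S : Subgroup G) ⊓ H with hA
  have htA : t ∈ A := ⟨ht, mem_centralizer_singleton_iff.2 hut.symm.eq⟩
  have htA' : t' ∈ A := ⟨ht', mem_centralizer_singleton_iff.2 hut'.symm.eq⟩
  have hAp : IsPGroup 2 A := S.isPGroup'.to_le inf_le_left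
  haveI hAc : IsMulCommutative A := ⟨⟨fun a b => Subtype.ext (C.comm S a.2.1 b.2.1)⟩⟩
  have hAncyc : ¬ IsCyclic A := by
    intro hcyc
    classical
    haveI : Fintype A := Fintype.ofFinite A
    have h := IsCyclic.card_pow_eq_one_le (α := A) (n := 2) two_pos
    have h3 : ({1, ⟨t, htA⟩, ⟨t', htA'⟩} : Finset A) ⊆
        Finset.univ.filter fun a : A => a ^ 2 = 1 := by
      intro a ha
      simp only [Finset.mem_insert, Finset.mem_singleton] at ha
      rw [Finset.mem_filter]
      refine ⟨Finset.mem_univ _, ?_⟩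
      rcases ha with rfl | rfl | rfl
      · exact one_pow 2
      · exact Subtype.ext (by simpa using orderOf_dvd_iff_pow_eq_one.1 ht2.dvd)
      · exact Subtype.ext (by simpa using orderOf_dvd_iff_pow_eq_one.1 ht2'.dvd)
    have h1 : t ≠ 1 := fun h => by rw [h, orderOf_one] at ht2; exact absurd ht2 (by norm_num)
    have h1' : t' ≠ 1 := fun h => by rw [h, orderOf_one] at ht2'; exact absurd ht2' (by norm_num)
    have hc3 : ({1, ⟨t, htA⟩, ⟨t', htA'⟩} : Finset A).card = 3 := by
      rw [Finset.card_insert_of_notMem (by simp [Subtype.ext_iff, Ne.symm h1, Ne.symm h1']),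
        Finset.card_pair (fun h => hne (congrArg Subtype.val h))]
    have := Finset.card_le_card h3
    omega
  have hAH : A ≤ H := inf_le_right
  obtain ⟨P, hP⟩ := (hAp.comap_of_injective H.subtype H.subtype_injective).exists_le_sylow
  have hPG : (P : Subgroup H).map H.subtype ≤ (S : Subgroup G) := by
    refine C.pGroup_le_of_centralizes S ht ht2 (P.isPGroup'.map _) fun x hx => ?_
    rw [mem_centralizer_singleton_iff]
    exact C.aGroup.commute (P.isPGroup'.map H.subtype) hx
      (mem_map_of_mem H.subtype (hP (show (⟨t, htA.2⟩ : H) ∈ A.comap H.subtype from htA)))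
  have hPn : (P : Subgroup H).Normal := by
    refine sylow_normal_of_centralizes P ((C.aGroup.subgroup H) 2 P) fun N hN hodd => ?_
    have hNodd : Odd (Nat.card N) := Nat.odd_iff.2 (Nat.two_dvd_ne_zero.1 hodd)
    have hNM : N.map H.subtype ≤ M := by
      rintro x ⟨y, hy, rfl⟩
      exact C.split_odd_le S hsplit hN hNodd hy
    have hAN : A ≤ normalizer ((N.map H.subtype : Subgroup G) : Set G) := by
      have : H ≤ normalizer ((N.map H.subtype : Subgroup G) : Set G) := by
        intro g hg
        rw [mem_normalizer_iff]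
        intro x
        constructor
        · rintro ⟨y, hy, rfl⟩
          exact ⟨⟨g, hg⟩ * y * ⟨g, hg⟩⁻¹, hN.conj_mem y hy _, rfl⟩
        · rintro ⟨y, hy, e⟩
          refine ⟨⟨g, hg⟩⁻¹ * y * ⟨g, hg⟩⁻¹⁻¹, hN.conj_mem y hy _, ?_⟩
          simp only [map_mul, map_inv, inv_inv, e]
          show g⁻¹ * (g * x * g⁻¹) * g = x
          group
      exact hAH.trans this
    have hcop : (Nat.card A).Coprime (Nat.card (N.map H.subtype)) := by
      obtain ⟨k, hk⟩ := hAp.exists_card_eq
      rw [hk, card_map_of_injective H.subtype_injective]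
      exact Nat.Coprime.pow_left _ (Nat.coprime_two_left.2 hNodd)
    have hle : N.map H.subtype ≤ centralizer (A : Set G) := by
      refine Lib.Coprime.le_of_noncyclic hAncyc hAN hcop fun x hx hx1 w hw => ?_
      obtain ⟨hwN, hwx⟩ := hw
      -- a power of `x` is an involution
      obtain ⟨k, hk⟩ := hAp.exists_card_eq
      obtain ⟨i, -, hi⟩ := (Nat.dvd_prime_pow Nat.prime_two).1
        (hk ▸ (A.orderOf_dvd_natCard hx))
      have hi0 : i ≠ 0 := by
        rintro rfl
        exact hx1 (orderOf_eq_one_iff.1 (by rw [hi, pow_zero]))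
      have hz : orderOf (x ^ 2 ^ (i - 1)) = 2 := by
        rw [orderOf_pow_of_dvd (by positivity) (by rw [hi]; exact pow_dvd_pow 2 (Nat.sub_le i 1)),
          hi, Nat.pow_div (Nat.sub_le i 1) two_pos,
          Nat.sub_sub_self (Nat.one_le_iff_ne_zero.2 hi0), pow_one]
      have hwS : w ∈ normalizer ((S : Subgroup G) : Set G) := by
        refine C.centralizer_invol_le S ((S : Subgroup G).pow_mem hx.1 _) hz ?_
        rw [mem_centralizer_singleton_iff]
        exact ((show Commute w x from mem_centralizer_singleton_iff.1 hwx).pow_right _).eq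
      rw [mem_centralizer_iff]
      intro a ha
      have h1 : w * a * w⁻¹ * a⁻¹ ∈ (S : Subgroup G) :=
        (S : Subgroup G).mul_mem ((mem_normalizer_iff.1 hwS a).1 ha.1)
          ((S : Subgroup G).inv_mem ha.1)
      have h2 : w * a * w⁻¹ * a⁻¹ ∈ M := by
        refine hNM ?_
        rw [show w * a * w⁻¹ * a⁻¹ = w * (a * w⁻¹ * a⁻¹) by group]
        exact (N.map H.subtype).mul_mem hwN
          ((mem_normalizer_iff.1 (hAN ha) _).1 ((N.map H.subtype).inv_mem hwN))
      have h3 := C.eq_one_of_mem_of_mem S h2 h1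
      exact (mul_inv_eq_iff_eq_mul.1 (mul_inv_eq_one.1 h3)).symm
    intro p hp
    rw [mem_centralizer_iff]
    intro y hy
    have hpA : (p : G) ∈ A := ⟨hPG ⟨p, hp, rfl⟩, p.2⟩
    exact Subtype.ext ((mem_centralizer_iff.1 (hle ⟨y, hy, rfl⟩) (p : G) hpA).symm)
  have hsH : s ∈ H := mem_centralizer_singleton_iff.2 hsu.eq
  obtain ⟨Q, hQ⟩ := (IsPGroup.of_card (p := 2) (n := 1)
    (show Nat.card (zpowers (⟨s, hsH⟩ : H)) = 2 ^ 1 by
      rw [Nat.card_zpowers, ← orderOf_coe, hs2, pow_one])).exists_le_sylow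
  obtain ⟨g, hg⟩ := MulAction.exists_smul_eq H P Q
  have hPQ : P = Q := by
    rw [← hg]
    refine (Sylow.smul_eq_iff_mem_normalizer.2 ?_).symm
    rw [← Sylow.coe_coe, normalizer_eq_top_iff.2 hPn]
    exact mem_top g
  exact hPG ⟨⟨s, hsH⟩, hPQ ▸ hQ (mem_zpowers _), rfl⟩

end Ctx

end Cfsg.Agent.Lib.AGroupIndex
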