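import Cfsg.Agent.Lib.AGroupIndex.CaseG

/-!
# The case in which no element of the stabiliser fixes a single involution of `S`: contradiction
-/

set_option autoImplicit false

universe u

namespace Cfsg.Agent.Lib.AGroupIndex

open Subgroup
open scoped Pointwise

namespace Ctx

variable {G : Type u} [Group G] [Finite G] {M : Subgroup G} (C : Ctx M) (S : Sylow 2 G)

include C

theorem exists_fixed_single {t : G} (ht : t ∈ (S : Subgroup G)) (ht2 : orderOf t = 2) :
    ∃ u ∈ M, ∃ r : ℕ, r.Prime ∧ orderOf u = r ∧ Commute u t ∧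
      ∀ t' ∈ (S : Subgroup G), orderOf t' = 2 → Commute u t' → t' = t := by
  classical
  by_contra hcon
  push Not at hcon
  have ht1 : t ≠ 1 := fun h => by rw [h, orderOf_one] at ht2; exact absurd ht2 (by norm_num)
  have htt := inv_eq_self_of_orderOf_two ht2
  -- every involution commuting with a nontrivial element of `C_M(t)` lies in `S`
  have hG : ∀ v ∈ M, v ≠ 1 → Commute v t → ∀ s : G, orderOf s = 2 → Commute s v →
      s ∈ (S : Subgroup G) := by
    intro v hv hv1 hvt s hs hsv
    obtain ⟨r, hr, hdvd⟩ := Nat.exists_prime_and_dvd (mt orderOf_eq_one_iff.1 hv1)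
    set u := v ^ (orderOf v / r) with hu
    have hu2 : orderOf u = r := by
      rw [hu, orderOf_pow_of_dvd (Nat.div_pos (Nat.le_of_dvd (orderOf_pos v) hdvd) hr.pos).ne'
        (Nat.div_dvd_of_dvd hdvd), Nat.div_div_self hdvd (orderOf_pos v).ne']
    obtain ⟨t', ht', ht2', hc, hne⟩ :=
      hcon u (M.pow_mem hv _) r hr hu2 (hvt.pow_left _)
    refine C.invol_mem_of_two_fixed S ht ht2 ht' ht2' (Ne.symm hne) (M.pow_mem hv _) ?_
      (hvt.pow_left _) hc hs (hsv.pow_right _)
    intro h
    rw [← hu] at h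
    rw [h, orderOf_one] at hu2
    exact hr.one_lt.ne hu2
  set B := twoPt M t with hB
  set R := M ⊓ centralizer ({t} : Set G) with hR
  set f := (swapSet M t).ncard with hf
  obtain ⟨hfodd, hfq, -⟩ := C.card_swap_facts S ht ht2
  have hRB : R ≤ B := fix_le_twoPt
  have hf1 : 1 < f := by
    obtain ⟨a, ha⟩ := even_iff_two_dvd.1 (C.even_card_sylow S)
    have : 0 < Nat.card (S : Subgroup G) := Nat.card_pos
    omega
  have hindex := C.index_fix_twoPt ht2
  rw [← hB, ← hR, ← hf] at hindex
  -- Frobenius kernel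
  obtain ⟨A, hAB, htA, hAR, hAf, hout⟩ : ∃ A : Subgroup G, A ≤ B ∧
      (∀ a ∈ A, t * a * t⁻¹ ∈ A) ∧ (∀ a ∈ A, a ∈ R → a = 1) ∧ Nat.card A = f ∧
      ∀ b ∈ B, b ∉ A → ∃ z : G, orderOf z = 2 ∧ Commute z b := by
    have key : ∃ N : Subgroup B, (∀ x : B, x ∈ N ↔
        x = 1 ∨ ∀ g : B, g⁻¹ * x * g ∉ R.subgroupOf B) ∧ Nat.card N = f := by
      by_cases hR0 : R.subgroupOf B = ⊥
      · refine ⟨⊤, fun x => ⟨fun _ => ?_, fun _ => mem_top x⟩, ?_⟩
        · by_cases hx : x = 1
          · exact Or.inl hx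
          · refine Or.inr fun g hg => hx ?_
            rw [hR0, mem_bot] at hg
            calc x = g * (g⁻¹ * x * g) * g⁻¹ := by group
              _ = 1 := by rw [hg]; group
        · rw [card_top, ← hindex, hR0, index_bot]
      · have hHc : IsFrobeniusComplement (R.subgroupOf B) := by
          refine ⟨hR0, fun h => ?_, fun g hg => ?_⟩
          · rw [h, index_top] at hindex; omega
          · rw [eq_bot_iff]
            rintro x ⟨hx, hxg⟩
            rw [mem_bot]
            by_contra hx1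
            have hxg2 := Subgroup.mem_pointwise_smul_iff_inv_smul_mem.1
              (show x ∈ MulAut.conj g • R.subgroupOf B from hxg)
            have hx' : g⁻¹ * x * g ∈ R.subgroupOf B := by
              simpa using hxg2
            replace hx : (x : G) ∈ R := mem_subgroupOf.1 hx
            rw [mem_subgroupOf] at hx'
            simp only [coe_mul, coe_inv] at hx'
            have hc' : Commute ((g : G)⁻¹ * x * g) t := mem_centralizer_singleton_iff.1 hx'.2
            have hz : Commute ((g : G) * t * (g : G)⁻¹) (x : G) := by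
              show (g : G) * t * (g : G)⁻¹ * x = x * ((g : G) * t * (g : G)⁻¹)
              calc (g : G) * t * (g : G)⁻¹ * x = g * (t * ((g : G)⁻¹ * x * g)) * (g : G)⁻¹ := by
                    group
                _ = g * (((g : G)⁻¹ * x * g) * t) * (g : G)⁻¹ := by rw [hc'.eq]
                _ = _ := by group
            have hmem : (g : G) * t * (g : G)⁻¹ ∈ swapSet M t :=
              C.conj_mem_swapSet ht2 g.2 (mem_swapSet_self ht2)
            have hS := hG x hx.1 (fun h => hx1 (Subtype.ext h))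
              (mem_centralizer_singleton_iff.1 hx.2) _ hmem.1 hz
            have heq := C.swapSet_eq_of_mem S ht ht2 hmem hS
            refine hg (mem_subgroupOf.2 ⟨twoPt_le g.2, mem_centralizer_singleton_iff.2 ?_⟩)
            exact mul_inv_eq_iff_eq_mul.1 heq
        obtain ⟨N, hN, -, hcompl⟩ := Lib.Frobenius.exists_kernel hHc
        refine ⟨N, fun x => ?_, ?_⟩
        · rw [← SetLike.mem_coe, hN]
          simp only [Cfsg.frobeniusKernel, Set.mem_setOf_eq, mem_pointwise_smul_iff_inv_smul_mem]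
          simp
        · rw [← hindex]
          exact hcompl.index_eq_card.symm
    obtain ⟨N, hN, hNc⟩ := key
    refine ⟨N.map B.subtype, map_subtype_le _, ?_, ?_, ?_, ?_⟩
    · rintro a ⟨x, hx, rfl⟩
      refine ⟨⟨t * (x : G) * t⁻¹, C.conj_mem_twoPt ht2 x.2⟩, (hN _).2 ?_, rfl⟩
      rcases (hN x).1 hx with rfl | h
      · exact Or.inl (Subtype.ext (by simp))
      · refine Or.inr fun g hg => ?_
        refine h ⟨t * (g : G) * t⁻¹, C.conj_mem_twoPt ht2 g.2⟩ ?_
        rw [mem_subgroupOf] at hg ⊢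
        simp only [coe_mul, coe_inv] at hg ⊢
        obtain ⟨hgM, hgt⟩ := hg
        have hgt' := mem_centralizer_singleton_iff.1 hgt
        have e : (t * (g : G) * t⁻¹)⁻¹ * (x : G) * (t * (g : G) * t⁻¹) =
            t * ((g : G)⁻¹ * (t * (x : G) * t⁻¹) * g) * t⁻¹ := by
          simp only [htt, mul_inv_rev]; group
        rw [e, ← hgt', mul_inv_cancel_right]
        exact ⟨hgM, hgt⟩
    · rintro a ⟨x, hx, rfl⟩ hxR
      rcases (hN x).1 hx with rfl | h
      · rfl
      · exact absurd (mem_subgroupOf.2 (by simpa using hxR)) (h 1)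
    · rw [card_map_of_injective B.subtype_injective, hNc]
    · intro b hb hbN
      have hb1 : (⟨b, hb⟩ : B) ∉ N := fun h => hbN ⟨_, h, rfl⟩
      rw [hN, not_or] at hb1
      obtain ⟨-, h⟩ := hb1
      push Not at h
      obtain ⟨g, hg⟩ := h
      rw [mem_subgroupOf] at hg
      simp only [coe_mul, coe_inv] at hg
      have hc : (g : G)⁻¹ * b * g * t = t * ((g : G)⁻¹ * b * g) :=
        mem_centralizer_singleton_iff.1 hg.2
      refine ⟨(g : G) * t * (g : G)⁻¹, by rw [orderOf_conj']; exact ht2, ?_⟩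
      show (g : G) * t * (g : G)⁻¹ * b = b * ((g : G) * t * (g : G)⁻¹)
      calc (g : G) * t * (g : G)⁻¹ * b = g * (t * ((g : G)⁻¹ * b * g)) * (g : G)⁻¹ := by group
        _ = g * ((g : G)⁻¹ * b * g * t) * (g : G)⁻¹ := by rw [hc]
        _ = _ := by group
  -- `t` inverts `A`
  have hinvA : ∀ a ∈ A, t * a * t⁻¹ = a⁻¹ := fun a ha =>
    Lib.CharCount.inverts_of_fixedPointFree (mul_self_of_orderOf_two ht2) htA (fun b hb h =>
      hAR b hb ⟨twoPt_le (hAB hb),
        mem_centralizer_singleton_iff.2 (mul_inv_eq_iff_eq_mul.1 h).symm⟩) ha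
  have hcommA : ∀ a ∈ A, ∀ b ∈ A, a * b = b * a := fun a ha b hb => by
    have h1 := hinvA (a * b) (A.mul_mem ha hb)
    have e : t * (a * b) * t⁻¹ = (t * a * t⁻¹) * (t * b * t⁻¹) := by group
    rw [e, hinvA a ha, hinvA b hb] at h1
    calc a * b = (a * b)⁻¹⁻¹ := (inv_inv _).symm
      _ = (a⁻¹ * b⁻¹)⁻¹ := by rw [h1]
      _ = b * a := by group
  -- a nontrivial element of `A` fixing a point forces `A` to fix it
  have hfix : ∀ s ∈ (S : Subgroup G), ∀ y ∈ A, y ≠ 1 → s⁻¹ * y * s ∈ M →
      ∀ a ∈ A, s⁻¹ * a * s ∈ M := by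
    intro s hs y hyA hy1 hys a ha
    by_cases hs1 : s = 1
    · subst hs1; simpa using twoPt_le (hAB ha)
    obtain ⟨h, hh, he⟩ := C.exists_orbit S ht ht1 hs hs1
    have hyM : y ∈ M := twoPt_le (hAB hyA)
    have hyinv := hinvA y hyA
    have hyodd : Odd (orderOf y) := odd_orderOf C.odd_card hyM
    have hnoinv : ∀ z : G, orderOf z = 2 → ¬ Commute z y := fun z hz hc =>
      hy1 (C.not_inverted hz hyodd hc ⟨1, by rw [ht2, pow_one]⟩ hyinv)
    set Cy := centralizer ({y} : Set G) with hCy
    have htC : ∀ c ∈ Cy, t * c * t⁻¹ ∈ Cy := by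
      intro c hc
      rw [hCy, mem_centralizer_singleton_iff] at hc ⊢
      have hy' : y = t * y⁻¹ * t⁻¹ := by
        calc y = (t * y * t⁻¹)⁻¹ := by rw [hyinv, inv_inv]
          _ = _ := by group
      have hc' : c * y⁻¹ = y⁻¹ * c := ((show Commute c y from hc).inv_right).eq
      calc t * c * t⁻¹ * y = t * c * t⁻¹ * (t * y⁻¹ * t⁻¹) := by rw [← hy']
        _ = t * (c * y⁻¹) * t⁻¹ := by group
        _ = t * (y⁻¹ * c) * t⁻¹ := by rw [hc']
        _ = (t * y⁻¹ * t⁻¹) * (t * c * t⁻¹) := by group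
        _ = _ := by rw [← hy']
    have hfree : ∀ c ∈ Cy, t * c * t⁻¹ = c → c = 1 := by
      intro c hc hct
      by_contra hc1
      obtain ⟨r, hr, hdvd⟩ := Nat.exists_prime_and_dvd (mt orderOf_eq_one_iff.1 hc1)
      haveI := Fact.mk hr
      set v := c ^ (orderOf c / r) with hv
      have hv2 : orderOf v = r := by
        rw [hv, orderOf_pow_of_dvd (Nat.div_pos (Nat.le_of_dvd (orderOf_pos c) hdvd) hr.pos).ne'
          (Nat.div_dvd_of_dvd hdvd), Nat.div_div_self hdvd (orderOf_pos c).ne']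
      have hvy : Commute v y := (show Commute c y from mem_centralizer_singleton_iff.1 hc).pow_left _
      have hr2 : r ≠ 2 := by
        rintro rfl
        exact hnoinv v hv2 hvy
      have hvt : Commute v t := ((commute_of_conj_eq hct).symm).pow_left _
      have hP : IsPGroup r (zpowers v) := IsPGroup.of_card (n := 1)
        (by rw [Nat.card_zpowers, hv2, pow_one])
      have hnd : ¬ r ∣ Nat.card (G ⧸ M) := by
        obtain ⟨k, hk⟩ := C.index_pow
        rw [← index_eq_card, hk]
        exact fun h => hr2 ((Nat.prime_dvd_prime_iff_eq hr Nat.prime_two).1 (hr.dvd_of_dvd_pow h))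
      obtain ⟨q, hq⟩ := hP.nonempty_fixed_point_of_prime_not_dvd_card (G ⧸ M) hnd
      obtain ⟨σ, rfl⟩ := (C.bijective_mk S).2 q
      have hσ : (σ : G)⁻¹ * v * σ ∈ M := by
        have h1 : ((v * σ : G) : G ⧸ M) = ((σ : G) : G ⧸ M) := hq ⟨v, mem_zpowers v⟩
        have h2 := QuotientGroup.eq.1 h1.symm
        rwa [← mul_assoc] at h2
      have hσt : Commute (σ : G) t := C.comm S σ.2 ht
      have hv't : Commute ((σ : G)⁻¹ * v * σ) t :=
        ((hσt.inv_left.mul_left hvt).mul_left hσt)
      have hv'1 : (σ : G)⁻¹ * v * σ ≠ 1 := by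
        intro h
        have : v = 1 := by
          calc v = (σ : G) * ((σ : G)⁻¹ * v * σ) * (σ : G)⁻¹ := by group
            _ = 1 := by rw [h]; group
        rw [this, orderOf_one] at hv2
        exact hr.one_lt.ne hv2
      set y' := (σ : G)⁻¹ * y * σ with hy'
      have hy'inv : t * y' * t⁻¹ = y'⁻¹ := by
        have : t * y' * t⁻¹ = (t * (σ : G)⁻¹ * t⁻¹) * (t * y * t⁻¹) * (t * σ * t⁻¹) := by
          rw [hy']; group
        rw [this, hyinv, conj_eq_of_commute hσt.symm,
          conj_eq_of_commute hσt.symm.inv_right, hy']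
        group
      have hv'y : Commute ((σ : G)⁻¹ * v * σ) y' := by
        show (σ : G)⁻¹ * v * σ * y' = y' * ((σ : G)⁻¹ * v * σ)
        rw [hy']
        calc (σ : G)⁻¹ * v * σ * ((σ : G)⁻¹ * y * σ) = (σ : G)⁻¹ * (v * y) * σ := by group
          _ = (σ : G)⁻¹ * (y * v) * σ := by rw [hvy.eq]
          _ = _ := by group
      have hzS : y' * t * y'⁻¹ ∈ (S : Subgroup G) :=
        hG _ hσ hv'1 hv't _ (by rw [orderOf_conj']; exact ht2)
          ((hv'y.mul_right hv't).mul_right hv'y.inv_right).symm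
      have hy'sq : y' * y' ∈ (S : Subgroup G) := by
        have : y' * y' = (y' * t * y'⁻¹) * t⁻¹ := by
          rw [show y' * t * y'⁻¹ * t⁻¹ = y' * (t * y' * t⁻¹)⁻¹ by group, hy'inv, inv_inv]
        rw [this]
        exact (S : Subgroup G).mul_mem hzS ((S : Subgroup G).inv_mem ht)
      have hy'1 : y' = 1 := by
        refine eq_one_of_sq_mem S.isPGroup' ?_ hy'sq
        rw [hy', show (σ : G)⁻¹ * y * σ = (σ : G)⁻¹ * y * (σ : G)⁻¹⁻¹ by rw [inv_inv],
          orderOf_conj']
        exact hyodd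
      refine hy1 ?_
      calc y = (σ : G) * y' * (σ : G)⁻¹ := by rw [hy']; group
        _ = 1 := by rw [hy'1]; group
    have hinvC : ∀ c ∈ Cy, t * c * t⁻¹ = c⁻¹ := fun c hc =>
      Lib.CharCount.inverts_of_fixedPointFree (mul_self_of_orderOf_two ht2) htC hfree hc
    -- the conjugate kernel lies in `C(y)`
    have hy0 : h⁻¹ * y * h ∈ B := by
      refine mem_twoPt.2 ⟨M.mul_mem (M.mul_mem (M.inv_mem hh) hyM) hh, ?_⟩
      have e : t * (h⁻¹ * y * h) * t⁻¹ =
          (s⁻¹ * h * t⁻¹)⁻¹ * (s⁻¹ * y * s) * (s⁻¹ * h * t⁻¹) := by group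
      rw [e, htt]
      exact M.mul_mem (M.mul_mem (M.inv_mem he) hys) he
    have hy0A : h⁻¹ * y * h ∈ A := by
      by_contra hcA
      obtain ⟨z, hz, hzc⟩ := hout _ hy0 hcA
      refine hnoinv (h * z * h⁻¹) (by rw [orderOf_conj']; exact hz) ?_
      show h * z * h⁻¹ * y = y * (h * z * h⁻¹)
      calc h * z * h⁻¹ * y = h * (z * (h⁻¹ * y * h)) * h⁻¹ := by group
        _ = h * ((h⁻¹ * y * h) * z) * h⁻¹ := by rw [hzc.eq]
        _ = _ := by group
    have hA'A : A.map (MulAut.conj h).toMonoidHom ≤ A := by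
      rintro x ⟨a0, ha0, rfl⟩
      simp only [MulEquiv.coe_toMonoidHom, MulAut.conj_apply]
      have hxC : h * a0 * h⁻¹ ∈ Cy := by
        rw [hCy, mem_centralizer_singleton_iff]
        calc h * a0 * h⁻¹ * y = h * (a0 * (h⁻¹ * y * h)) * h⁻¹ := by group
          _ = h * ((h⁻¹ * y * h) * a0) * h⁻¹ := by rw [hcommA _ ha0 _ hy0A]
          _ = _ := by group
      have hxM : h * a0 * h⁻¹ ∈ M :=
        M.mul_mem (M.mul_mem hh (twoPt_le (hAB ha0))) (M.inv_mem hh)
      have hxinv := hinvC _ hxC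
      have hxB : h * a0 * h⁻¹ ∈ B := mem_twoPt.2 ⟨hxM, by rw [hxinv]; exact M.inv_mem hxM⟩
      by_contra hxA
      obtain ⟨z, hz, hzc⟩ := hout _ hxB hxA
      have h1 := C.not_inverted hz (odd_orderOf C.odd_card hxM) hzc ⟨1, by rw [ht2, pow_one]⟩ hxinv
      exact hxA (h1 ▸ A.one_mem)
    have hA'eq : A.map (MulAut.conj h).toMonoidHom = A := by
      refine eq_of_le_of_card_ge hA'A ?_
      rw [card_map_of_injective (MulAut.conj h).injective]
    rw [← hA'eq] at ha
    obtain ⟨a0, ha0, rfl⟩ := ha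
    simp only [MulEquiv.coe_toMonoidHom, MulAut.conj_apply]
    have e : s⁻¹ * (h * a0 * h⁻¹) * s =
        (s⁻¹ * h * t) * (t⁻¹ * a0 * t) * (s⁻¹ * h * t)⁻¹ := by group
    rw [e]
    refine M.mul_mem (M.mul_mem he ?_) (M.inv_mem he)
    have := (mem_twoPt.1 (hAB ha0)).2
    rwa [htt] at this ⊢
  -- counting
  let X : SubMulAction A (G ⧸ M) :=
    { carrier := {x | ∃ a : A, a • x ≠ x}
      smul_mem' := fun b x ⟨a, ha⟩ => ⟨a, fun h => ha (by
        have hc : a * b = b * a := Subtype.ext (hcommA _ a.2 _ b.2)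
        rw [smul_smul, hc, ← smul_smul] at h
        exact smul_left_cancel b h)⟩ }
  have hfreeX : ∀ x : X, MulAction.stabilizer A x = ⊥ := by
    intro x
    rw [eq_bot_iff]
    intro y hy
    rw [mem_bot]
    by_contra hy1
    obtain ⟨a, ha⟩ := x.2
    obtain ⟨σ, hσ⟩ := (C.bijective_mk S).2 x.1
    have hyx : y • x.1 = x.1 := congrArg Subtype.val hy
    have hys : (σ : G)⁻¹ * (y : G) * σ ∈ M := by
      rw [← hσ] at hyx
      have h2 := QuotientGroup.eq.1
        (show (((σ : G)) : G ⧸ M) = (((y : G) * σ : G) : G ⧸ M) from hyx.symm)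
      rwa [← mul_assoc] at h2
    refine ha ?_
    have h3 := hfix σ σ.2 y y.2 (fun h => hy1 (Subtype.ext h)) hys a a.2
    rw [← hσ]
    show (((a : G) * σ : G) : G ⧸ M) = ((σ : G) : G ⧸ M)
    exact (QuotientGroup.eq.2 (by rw [← mul_assoc]; exact h3)).symm
  have hdvd : f ∣ Nat.card X := by
    rw [Nat.card_congr (MulAction.selfEquivOrbitsQuotientProd hfreeX), Nat.card_prod, hAf]
    exact dvd_mul_left _ _
  haveI : Fintype (G ⧸ M) := Fintype.ofFinite _
  set F := Finset.univ.filter fun x : G ⧸ M => ∀ a : A, a • x = x with hF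
  have hFeven : Even F.card := by
    refine even_card_of_involutive F (fun x => t • x) (fun x hx => ?_) (fun x _ => ?_)
      (fun x _ h => ?_)
    · simp only [hF, Finset.mem_filter, Finset.mem_univ, true_and] at hx ⊢
      intro a
      have h2 : (t * (a : G) * t⁻¹) • x = x := hx ⟨_, htA a a.2⟩
      show (a : G) • t • x = t • x
      have e : (a : G) * t = t * (t * (a : G) * t⁻¹) := by
        calc (a : G) * t = (t * t) * a * t := by rw [mul_self_of_orderOf_two ht2, one_mul]
          _ = _ := by simp only [htt]; group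
      rw [smul_smul, e, ← smul_smul, h2]
    · show t • t • x = x
      rw [smul_smul, mul_self_of_orderOf_two ht2, one_smul]
    · obtain ⟨σ, rfl⟩ := (C.bijective_mk S).2 x
      have h2 := QuotientGroup.eq.1
        (show ((σ : G) : G ⧸ M) = ((t * (σ : G) : G) : G ⧸ M) from h.symm)
      refine C.invol_not_mem (t := (σ : G)⁻¹ * t * (σ : G)⁻¹⁻¹) ?_ ?_
      · rw [orderOf_conj']; exact ht2
      · rw [inv_inv, mul_assoc]; exact h2
  have hFtwo : 2 ≤ F.card := by
    refine Finset.one_lt_card.2 ⟨((1 : G) : G ⧸ M), ?_, ((t : G) : G ⧸ M), ?_, ?_⟩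
    · simp only [hF, Finset.mem_filter, Finset.mem_univ, true_and]
      intro a
      exact QuotientGroup.eq.2 (by simpa using twoPt_le (hAB a.2))
    · simp only [hF, Finset.mem_filter, Finset.mem_univ, true_and]
      intro a
      refine (QuotientGroup.eq.2 ?_).symm
      show t⁻¹ * ((a : G) * t) ∈ M
      have := (mem_twoPt.1 (hAB a.2)).2
      rw [htt, ← mul_assoc]
      rwa [htt] at this
    · intro h
      refine C.invol_not_mem ht2 ?_
      simpa using QuotientGroup.eq.1 h
  have hsum : Nat.card X + F.card = Nat.card (S : Subgroup G) := by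
    rw [C.card_sylow S, index_eq_card, Nat.card_eq_fintype_card (α := G ⧸ M), ← Finset.card_univ,
      ← Finset.card_filter_add_card_filter_not
        (s := (Finset.univ : Finset (G ⧸ M))) (fun x => ∀ a : A, a • x = x), hF, add_comm]
    congr 1
    rw [Nat.card_eq_fintype_card, ← Fintype.card_coe]
    refine Fintype.card_congr (Equiv.subtypeEquivRight fun x => ?_)
    show (∃ a : A, a • x ≠ x) ↔ _
    simp [not_forall]
  have hXpos : 0 < Nat.card X := by
    by_contra h
    have hX0 : Nat.card X = 0 := by omega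
    rw [Nat.card_eq_zero] at hX0
    rcases hX0 with hX0 | hX0
    · have : A = ⊥ := by
        rw [eq_bot_iff]
        intro a ha
        rw [mem_bot]
        refine C.eq_one_of_fixes_all S fun s hs => ?_
        by_contra hns
        refine hX0.false ⟨((s : G) : G ⧸ M), ⟨⟨a, ha⟩, fun h => hns ?_⟩⟩
        have h2 := QuotientGroup.eq.1
          (show ((s : G) : G ⧸ M) = (((a * s : G)) : G ⧸ M) from h.symm)
        rwa [← mul_assoc] at h2
      rw [this, card_bot] at hAf
      omega
    · exact absurd hX0 (not_infinite_iff_finite.2 inferInstance)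
  obtain ⟨k, hk⟩ := hdvd
  have hkeven : Even k := by
    have : Even (f * k) := by
      have hh : Even (Nat.card X + F.card) := hsum ▸ C.even_card_sylow S
      rw [← hk]
      exact (Nat.even_add.1 hh).2 hFeven
    exact (Nat.even_mul.1 this).resolve_left (Nat.not_even_iff_odd.2 hfodd)
  obtain ⟨k', rfl⟩ := hkeven
  have hk0 : 0 < k' := by
    rcases Nat.eq_zero_or_pos k' with rfl | h
    · have : Nat.card X = 0 := by rw [hk, Nat.zero_add, Nat.mul_zero]
      omega
    · exact h
  have : 2 * f ≤ Nat.card X := by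
    rw [hk]
    calc 2 * f = f * 2 := mul_comm _ _
      _ ≤ f * (k' + k') := Nat.mul_le_mul_left _ (by omega)
  omega

end Ctx

end Cfsg.Agent.Lib.AGroupIndex
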