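import Cfsg.Agent.Lib.AGroupIndex.Main
import Cfsg.Agent.Lib.Components.GenFitting
import Cfsg.Agent.Lib.Components.PElement
import Cfsg.Agent.Lib.FusionMod.Basic
import Cfsg.Agent.Lib.Kazarin.Basic
import Cfsg.Agent.S4593

/-!
# A-groups with an element of maximal `2`-power class size
-/

set_option autoImplicit false

universe u

namespace Cfsg.Agent.Lib.AGroupIndex

open Subgroup Cfsg
open scoped Pointwise

variable {G : Type u} [Group G] [Finite G]

theorem card_eq_inf_mul_map {H : Type*} [Group H] (π : G →* H) (Q : Subgroup G) :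
    Nat.card Q = Nat.card ↥(Q ⊓ π.ker) * Nat.card (Q.map π) := by
  rw [← (π.ker.subgroupOf Q).card_mul_index,
    ← card_map_of_injective (K := π.ker.subgroupOf Q) Q.subtype_injective, subgroupOf_map_subtype,
    inf_comm]
  congr 1
  have e : π.ker.subgroupOf Q = (π.comp Q.subtype).ker := rfl
  have e2 : (π.comp Q.subtype).range = Q.map π := by
    rw [MonoidHom.range_comp, range_subtype]
  rw [e, index_ker, ← e2]

/-- Modulo the soluble radical the soluble radical is trivial. -/
theorem radical_quotient_eq_bot (R : Subgroup G) [R.Normal] (hR : R = solvableRadical G) :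
    solvableRadical (G ⧸ R) = ⊥ := by
  have hsR : Group.IsSolvable R := hR ▸ Lib.Components.solvableRadical_isSolvable
  haveI := hsR
  haveI hsN : Group.IsSolvable (solvableRadical (G ⧸ R)) :=
    Lib.Components.solvableRadical_isSolvable
  haveI : (solvableRadical (G ⧸ R)).Normal := Lib.Components.solvableRadical_normal
  set π := QuotientGroup.mk' R
  set N := (solvableRadical (G ⧸ R)).comap π with hN
  have hs : Group.IsSolvable N := by
    let f : N →* solvableRadical (G ⧸ R) :=
      (π.comp N.subtype).codRestrict _ fun n => n.2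
    refine Group.isSolvable_of_ker_le_range (f := inclusion (show R ≤ N from fun r hr => ?_)) f ?_
    · show π r ∈ solvableRadical (G ⧸ R)
      rw [show π r = 1 from (QuotientGroup.eq_one_iff r).2 hr]
      exact one_mem _
    · intro n hn
      have h1 : π (n : G) = 1 := congrArg Subtype.val hn
      exact ⟨⟨(n : G), (QuotientGroup.eq_one_iff _).1 h1⟩, Subtype.ext rfl⟩
  have hle : N ≤ R := hR ▸ Lib.Components.subnormal_solvable_le_radical
    (show N.Normal by rw [hN]; infer_instance).isSubnormal hs
  rw [eq_bot_iff]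
  intro q hq
  obtain ⟨g, rfl⟩ := QuotientGroup.mk'_surjective R q
  exact (QuotientGroup.eq_one_iff g).2 (hle hq)

/-- In a group with trivial soluble radical a component is simple and not soluble. -/
theorem component_simple (hR : solvableRadical G = ⊥) {T : Subgroup G} (hT : IsComponent T) :
    IsSimpleGroup T ∧ center T = ⊥ ∧ ¬ Group.IsSolvable T := by
  have hns : ¬ Group.IsSolvable T := by
    intro h
    have hle := Lib.Components.subnormal_solvable_le_radical hT.1 h
    rw [hR, le_bot_iff] at hle
    exact Lib.Components.isComponent_ne_bot hT hle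
  have hcen : center T = ⊥ := by
    have hs : Group.IsSolvable (center T) := Group.isSolvable_of_comm fun a b =>
      Subtype.ext (mem_center_iff.1 b.2 a.1)
    have hle := Lib.Components.subnormal_solvable_le_radical
      ((show (center T).Normal from inferInstance).isSubnormal.trans' hT.1)
      (Lib.Components.isSolvable_subgroup_map hs T.subtype)
    rw [hR, le_bot_iff, map_eq_bot_iff_of_injective _ T.subtype_injective] at hle
    exact hle
  refine ⟨?_, hcen, hns⟩
  haveI : Nontrivial T := nontrivial_iff_ne_bot T |>.2 (Lib.Components.isComponent_ne_bot hT)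
  refine ⟨fun N hN => ?_⟩
  rcases Lib.Components.quasisimple_normal_eq_top_or_le_center hT.2 N with h | h
  · exact Or.inr h
  · rw [hcen, le_bot_iff] at h
    exact Or.inl h

theorem normalizer_mem_of_sylow_meet {T T' : Subgroup G} (hT : IsComponent T)
    (hT' : IsComponent T') (hcen : center T = ⊥) {z : G} (hz : z ∈ T) (hz' : z ∈ T') (hz1 : z ≠ 1) :
    T' = T := by
  by_contra hne
  have h := Lib.Components.isComponent_le_centralizer hT hT' (Ne.symm hne)
  have hmem : (⟨z, hz⟩ : T) ∈ center T := mem_center_iff.2 fun g =>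
    Subtype.ext (mem_centralizer_iff.1 (h g.2) z hz').symm
  rw [hcen, mem_bot] at hmem
  exact hz1 (congrArg Subtype.val hmem)

/-- A `2`-element of an A-group with trivial soluble radical lies in every subgroup of
`2`-power index. -/
theorem mem_of_two_element (hA : IsAGroup G) (hR : solvableRadical G = ⊥) (H : Subgroup G) {a : ℕ}
    (hH : H.index ∣ 2 ^ a) {g : G} (hg : ∃ j : ℕ, orderOf g = 2 ^ j) : g ∈ H := by
  classical
  haveI : Fact (Nat.Prime 2) := ⟨Nat.prime_two⟩
  -- every component lies in `H`
  have hTH : ∀ T : Subgroup G, IsComponent T → T ≤ H := by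
    intro T hT
    obtain ⟨hsim, -, hns⟩ := component_simple hR hT
    haveI := hsim
    obtain ⟨b, -, hb⟩ := (Nat.dvd_prime_pow Nat.prime_two).1
      ((relIndex_dvd_of_isSubnormal H hT.1).trans hH)
    exact subgroupOf_eq_top.1 (eq_top_of_index_two_pow (hA.subgroup T) hns (H.subgroupOf T) hb)
  -- the centraliser of the layer is trivial
  have hF : fittingSubgroup G = ⊥ := by
    rw [eq_bot_iff, ← hR]
    exact Lib.Components.subnormal_solvable_le_radical
      Lib.Components.fittingSubgroup_normal.isSubnormal Lib.Components.fittingSubgroup_isSolvable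
  have hCL : centralizer (layer G : Set G) = ⊥ := by
    haveI : (layer G).Normal := Lib.Components.layer_normal
    rw [eq_bot_iff, ← hF]
    refine Lib.Components.normal_le_fittingSubgroup_of_no_component inferInstance ?_ ?_
    · rw [hF]
      intro c _
      rw [mem_centralizer_iff]
      intro y hy
      rw [SetLike.mem_coe, mem_bot] at hy
      rw [hy, one_mul, mul_one]
    · intro L hL hle
      refine Lib.Components.isComponent_not_le_centralizer hL (hle.trans ?_)
      exact centralizer_le (Lib.Components.isComponent_le_layer hL)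
  obtain ⟨j, hj⟩ := hg
  obtain ⟨S, hS⟩ := (IsPGroup.of_card (p := 2) (n := j)
    (show Nat.card (zpowers g) = 2 ^ j by rw [Nat.card_zpowers, hj])).exists_le_sylow
  have hgS : g ∈ (S : Subgroup G) := hS (mem_zpowers g)
  -- `g` induces an inner automorphism on each component
  have hinner : ∀ T : Subgroup G, IsComponent T → ∃ c ∈ T, ∀ y ∈ T, g * y * g⁻¹ = c * y * c⁻¹ := by
    intro T hT
    obtain ⟨hsim, hcen, hns⟩ := component_simple hR hT
    haveI := hsim
    set Ly := layer G with hLy
    haveI : Ly.Normal := Lib.Components.layer_normal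
    have hTLy : T ≤ Ly := Lib.Components.isComponent_le_layer hT
    haveI hTn : (T.subgroupOf Ly).Normal := Lib.Components.isComponent_normal_in_layer hT
    let P1 := Lib.FusionMod.sylowInf S Ly
    let P2 := Lib.FusionMod.sylowInf P1 (T.subgroupOf Ly)
    let e := subgroupOfEquivOfLe hTLy
    let P : Sylow 2 T := P2.mapSurjective (f := e.toMonoidHom)
      (show Function.Surjective e.toMonoidHom from e.surjective)
    have hPS : ∀ y : T, y ∈ (P : Subgroup T) → (y : G) ∈ (S : Subgroup G) := by
      intro y hy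
      rw [Sylow.coe_mapSurjective] at hy
      obtain ⟨z, hz, rfl⟩ := hy
      have h1 : (z : Ly) ∈ (P1 : Subgroup Ly) ⊓ T.subgroupOf Ly :=
        Lib.FusionMod.map_sylowInf P1 (T.subgroupOf Ly) ▸ mem_map_of_mem _ hz
      have h2 : ((z : Ly) : G) ∈ (S : Subgroup G) ⊓ Ly :=
        Lib.FusionMod.map_sylowInf S Ly ▸ mem_map_of_mem _ h1.1
      exact h2.1
    have hnorm : ∀ y ∈ T, g * y * g⁻¹ ∈ T := by
      have heven : 2 ∣ Nat.card T := by
        by_contra h2
        exact hns (Cfsg.Agent.S0205.result (Nat.odd_iff.2 (Nat.two_dvd_ne_zero.1 h2)))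
      obtain ⟨z, hz⟩ := exists_prime_orderOf_dvd_card' 2 (P.dvd_card_of_dvd_card heven)
      have hz1 : ((z : T) : G) ≠ 1 := by
        intro h
        have : z = 1 := Subtype.ext (Subtype.ext h)
        rw [this, orderOf_one] at hz
        exact absurd hz (by norm_num)
      have hgz : g * ((z : T) : G) * g⁻¹ = ((z : T) : G) := by
        rw [hA.commute S.isPGroup' hgS (hPS _ z.2), mul_inv_cancel_right]
      have hcomp := Lib.Components.isComponent_conj hT g
      have hzc : ((z : T) : G) ∈ MulAut.conj g • T := ⟨_, (z : T).2, hgz⟩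
      have heq := normalizer_mem_of_sylow_meet hT hcomp hcen (z : T).2 hzc hz1
      intro y hy
      have : g * y * g⁻¹ ∈ T.map (MulAut.conj g).toMonoidHom := ⟨y, hy, rfl⟩
      rwa [heq] at this
    have hnorm' : ∀ y ∈ T, g⁻¹ * y * g ∈ T := by
      intro y hy
      have hpow : ∀ n : ℕ, ∀ y ∈ T, g ^ n * y * (g ^ n)⁻¹ ∈ T := by
        intro n
        induction n with
        | zero => intro y hy; simpa using hy
        | succ n ih =>
          intro y hy
          rw [pow_succ', show g * g ^ n * y * (g * g ^ n)⁻¹ = g * (g ^ n * y * (g ^ n)⁻¹) * g⁻¹ by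
            group]
          exact hnorm _ (ih y hy)
      have e : g⁻¹ = g ^ (orderOf g - 1) := inv_eq_of_mul_eq_one_right (by
        rw [← pow_succ', Nat.sub_add_cancel (orderOf_pos g), pow_orderOf_eq_one])
      have h2 := hpow (orderOf g - 1) y hy
      rw [← e, inv_inv] at h2
      exact h2
    have hgT : g ∈ normalizer (T : Set G) := mem_normalizer_iff.2 fun y => ⟨hnorm y, fun hy => by
      have := hnorm' _ hy
      rwa [show g⁻¹ * (g * y * g⁻¹) * g = y by group] at this⟩
    let α : MulAut T := T.normalizerMonoidHom ⟨g, hgT⟩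
    have hα : ∀ y : T, ((α y : T) : G) = g * y * g⁻¹ := fun y => rfl
    have h2 : ∃ i : ℕ, orderOf α = 2 ^ i := by
      have hd : orderOf α ∣ 2 ^ j := by
        rw [← hj, ← orderOf_mk g hgT]
        exact orderOf_map_dvd _ _
      obtain ⟨i, -, hi⟩ := (Nat.dvd_prime_pow Nat.prime_two).1 hd
      exact ⟨i, hi⟩
    have hcore : pPrimeCore 2 T = ⊥ := by
      haveI hn : (pPrimeCore 2 T).Normal := sSup_normal _ fun _ h => h.1
      refine hn.eq_bot_or_eq_top.resolve_right fun htop => hns (Cfsg.Agent.S0205.result ?_)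
      have h := Lib.PSolvable.pPrimeCore_coprime (p := 2) (G := T)
      rw [htop, card_top] at h
      exact Nat.coprime_two_right.1 h
    obtain ⟨c, hc⟩ := Cfsg.Agent.S4593.result hcen hcore P ((hA.subgroup T) 2 P) α h2 fun y hy =>
      Subtype.ext (by rw [hα, hA.commute S.isPGroup' hgS (hPS y hy), mul_inv_cancel_right])
    exact ⟨c, c.2, fun y hy => (hα ⟨y, hy⟩).symm.trans (congrArg Subtype.val (hc ⟨y, hy⟩))⟩
  -- compose the inner automorphisms
  haveI : Fintype G := Fintype.ofFinite G
  haveI : Fintype (Subgroup G) := Fintype.ofFinite _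
  have key : ∀ s : Finset (Subgroup G), (∀ T ∈ s, IsComponent T) →
      ∃ e ∈ H, (∀ T' : Subgroup G, IsComponent T' → T' ∉ s → ∀ y ∈ T', Commute e y) ∧
        ∀ T ∈ s, ∀ y ∈ T, Commute (e⁻¹ * g) y := by
    intro s
    induction s using Finset.induction_on with
    | empty => exact fun _ => ⟨1, H.one_mem, fun _ _ _ y _ => Commute.one_left y, by simp⟩
    | @insert T s hTs ih =>
      intro hs
      obtain ⟨e, heH, he1, he2⟩ := ih fun T' hT' => hs T' (Finset.mem_insert_of_mem hT')
      have hT := hs T (Finset.mem_insert_self _ _)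
      obtain ⟨c, hc, hcg⟩ := hinner T hT
      refine ⟨e * c, H.mul_mem heH (hTH T hT hc), fun T' hT' hnot y hy => ?_, ?_⟩
      · rw [Finset.mem_insert, not_or] at hnot
        refine (he1 T' hT' hnot.2 y hy).mul_left ?_
        exact (mem_centralizer_iff.1
          (Lib.Components.isComponent_le_centralizer hT hT' (Ne.symm hnot.1) hc) y hy).symm
      · intro T'' hT'' y hy
        rw [Finset.mem_insert] at hT''
        rcases hT'' with rfl | hT''
        · refine commute_of_conj_eq ?_
          have hey : Commute e (g * y * g⁻¹) :=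
            he1 T'' hT hTs _ (by rw [hcg y hy]; exact T''.mul_mem (T''.mul_mem hc hy) (T''.inv_mem hc))
          calc (e * c)⁻¹ * g * y * ((e * c)⁻¹ * g)⁻¹
              = c⁻¹ * (e⁻¹ * (g * y * g⁻¹) * e⁻¹⁻¹) * c := by group
            _ = c⁻¹ * (c * y * c⁻¹) * c := by
              rw [conj_eq_of_commute hey.inv_left, hcg y hy]
            _ = y := by group
        · have hne : T ≠ T'' := fun h => hTs (h ▸ hT'')
          rw [mul_inv_rev, mul_assoc]
          refine Commute.mul_left ?_ (he2 T'' hT'' y hy)
          exact Commute.inv_left (mem_centralizer_iff.1 (Lib.Components.isComponent_le_centralizer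
            hT (hs T'' (Finset.mem_insert_of_mem hT'')) hne hc) y hy).symm
  obtain ⟨e, heH, -, he2⟩ := key (Finset.univ.filter fun T => IsComponent T)
    (fun T hT => (Finset.mem_filter.1 hT).2)
  have h1 : e⁻¹ * g ∈ centralizer (layer G : Set G) := by
    rw [mem_centralizer_iff]
    intro y hy
    have hle : layer G ≤ centralizer ({e⁻¹ * g} : Set G) := by
      rw [Lib.Components.layer_le_iff]
      intro T hT y hy
      rw [mem_centralizer_singleton_iff]
      exact (he2 T (Finset.mem_filter.2 ⟨Finset.mem_univ _, hT⟩) y hy).symm.eq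
    exact mem_centralizer_singleton_iff.1 (hle hy)
  rw [hCL, mem_bot, inv_mul_eq_one] at h1
  exact h1 ▸ heH

theorem exists_component (hR : solvableRadical G = ⊥) [Nontrivial G] :
    ∃ T : Subgroup G, IsComponent T := by
  by_contra hcon
  push Not at hcon
  have hF : fittingSubgroup G = ⊥ := by
    rw [eq_bot_iff, ← hR]
    exact Lib.Components.subnormal_solvable_le_radical
      Lib.Components.fittingSubgroup_normal.isSubnormal Lib.Components.fittingSubgroup_isSolvable
  have h := Lib.Components.normal_le_fittingSubgroup_of_no_component (C := (⊤ : Subgroup G))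
    inferInstance (fun c _ => mem_centralizer_iff.2 fun y hy => by
      rw [SetLike.mem_coe, hF, mem_bot] at hy
      rw [hy, one_mul, mul_one]) (fun L hL _ => hcon L hL)
  rw [hF, le_bot_iff] at h
  exact (bot_ne_top (α := Subgroup G)) h.symm

/-- A non-soluble simple A-group has an element of odd prime order inverted by an involution. -/
theorem exists_inverted_prime [IsSimpleGroup G] (hA : IsAGroup G) (hns : ¬ Group.IsSolvable G) :
    ∃ (p : ℕ) (y t : G), p.Prime ∧ p ≠ 2 ∧ orderOf y = p ∧ orderOf t = 2 ∧
      t * y * t⁻¹ = y⁻¹ := by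
  haveI : Fact (Nat.Prime 2) := ⟨Nat.prime_two⟩
  have heven : 2 ∣ Nat.card G := by
    by_contra h2
    exact hns (Cfsg.Agent.S0205.result (Nat.odd_iff.2 (Nat.two_dvd_ne_zero.1 h2)))
  obtain ⟨t, ht⟩ := exists_prime_orderOf_dvd_card' 2 heven
  have htt := mul_self_of_orderOf_two ht
  have hti := inv_eq_self_of_orderOf_two ht
  by_cases hall : ∀ g : G, ∀ p : ℕ, p.Prime → p ∣ orderOf (t * (g * t * g⁻¹)) → p = 2
  · exfalso
    have hcomm : ∀ g : G, Commute (g * t * g⁻¹) t := by
      intro g
      set s := g * t * g⁻¹ with hs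
      have hs2 : orderOf s = 2 := by rw [hs, orderOf_conj']; exact ht
      set w := t * s with hw
      obtain ⟨k, hk⟩ : ∃ k, orderOf w = 2 ^ k := ⟨_, Nat.eq_prime_pow_of_unique_prime_dvd
        (orderOf_pos w).ne' (fun {d} hd hdv => hall g d hd hdv)⟩
      have hwt : t * w * t⁻¹ = w⁻¹ := by
        rw [hw, mul_inv_rev, inv_eq_self_of_orderOf_two hs2, hti, ← mul_assoc t t s, htt, one_mul]
      have hpw : IsPGroup 2 (zpowers w) := IsPGroup.of_card (by rw [Nat.card_zpowers, hk])
      have hpt : IsPGroup 2 (zpowers t) := IsPGroup.of_card (n := 1)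
        (by rw [Nat.card_zpowers, ht, pow_one])
      have hn : zpowers t ≤ normalizer ((zpowers w : Subgroup G) : Set G) := by
        rw [zpowers_le, mem_normalizer_iff]
        intro z
        have hz : ∀ z ∈ zpowers w, t * z * t⁻¹ ∈ zpowers w := by
          intro z hz
          obtain ⟨i, rfl⟩ := mem_zpowers_iff.1 hz
          rw [← conj_zpow, hwt]
          exact zpow_mem (inv_mem (mem_zpowers w)) i
        refine ⟨hz z, fun h => ?_⟩
        have := hz _ h
        rwa [conj_conj_self htt] at this
      have hp := hpw.to_sup_of_normal_left' hpt hn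
      have hsmem : s ∈ zpowers w ⊔ zpowers t := by
        have : s = t⁻¹ * w := by rw [hw, inv_mul_cancel_left]
        rw [this]
        exact mul_mem (inv_mem (mem_sup_right (mem_zpowers t))) (mem_sup_left (mem_zpowers w))
      exact hA.commute hp hsmem (mem_sup_right (mem_zpowers t))
    set N := normalClosure ({t} : Set G) with hN
    have hcN : IsMulCommutative N := by
      have hle : ∀ g : G, N ≤ centralizer ({g * t * g⁻¹} : Set G) := by
        intro g
        rw [hN, normalClosure, closure_le]
        intro c hc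
        rw [Group.mem_conjugatesOfSet_iff] at hc
        obtain ⟨d, hd, hdc⟩ := hc
        rw [Set.mem_singleton_iff] at hd
        subst hd
        obtain ⟨g', hg'⟩ := isConj_iff.1 hdc
        rw [SetLike.mem_coe, mem_centralizer_singleton_iff, ← hg']
        have h := hcomm (g⁻¹ * g')
        calc g' * d * g'⁻¹ * (g * d * g⁻¹)
            = g * ((g⁻¹ * g' * d * (g⁻¹ * g')⁻¹) * d) * g⁻¹ := by group
          _ = g * (d * (g⁻¹ * g' * d * (g⁻¹ * g')⁻¹)) * g⁻¹ := by rw [h.eq]
          _ = _ := by group
      have hle2 : N ≤ centralizer (N : Set G) := by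
        rw [hN, normalClosure, closure_le]
        intro c hc
        rw [Group.mem_conjugatesOfSet_iff] at hc
        obtain ⟨d, hd, hdc⟩ := hc
        rw [Set.mem_singleton_iff] at hd
        subst hd
        obtain ⟨g', hg'⟩ := isConj_iff.1 hdc
        rw [SetLike.mem_coe, mem_centralizer_iff]
        intro y hy
        rw [← hg']
        exact (mem_centralizer_singleton_iff.1 (hle g' hy))
      exact ⟨⟨fun a b => Subtype.ext (mem_centralizer_iff.1 (hle2 b.2) a a.2)⟩⟩
    rcases (show N.Normal from normalClosure_normal).eq_bot_or_eq_top with h | h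
    · have hmem : t ∈ N := subset_normalClosure (Set.mem_singleton t)
      rw [h, mem_bot] at hmem
      rw [hmem, orderOf_one] at ht
      exact absurd ht (by norm_num)
    · refine hns (Group.isSolvable_of_comm fun a b => ?_)
      have hm : ∀ c : G, c ∈ N := fun c => by rw [h]; exact mem_top c
      exact congrArg Subtype.val (hcN.is_comm.comm ⟨a, hm a⟩ ⟨b, hm b⟩)
  · push Not at hall
    obtain ⟨g, p, hp, hdvd, hp2⟩ := hall
    set w := t * (g * t * g⁻¹) with hw
    have hwt : t * w * t⁻¹ = w⁻¹ := by
      have hs2 : orderOf (g * t * g⁻¹) = 2 := by rw [orderOf_conj']; exact ht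
      rw [hw, mul_inv_rev, inv_eq_self_of_orderOf_two hs2, hti, ← mul_assoc t t, htt, one_mul]
    refine ⟨p, w ^ (orderOf w / p), t, hp, hp2, ?_, ht, ?_⟩
    · rw [orderOf_pow_of_dvd (Nat.div_pos (Nat.le_of_dvd (orderOf_pos w) hdvd) hp.pos).ne'
        (Nat.div_dvd_of_dvd hdvd), Nat.div_div_self hdvd (orderOf_pos w).ne']
    · rw [← conj_pow, hwt, inv_pow]

/-- A `2`-subgroup centralising an element of odd order inverted by a `2`-element is not a Sylow
`2`-subgroup. -/
theorem card_lt_of_centralizes (hA : IsAGroup G) {y τ : G} (hy : Odd (orderOf y)) (hy1 : y ≠ 1)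
    (hτ : ∃ j : ℕ, orderOf τ = 2 ^ j) (hinv : τ * y * τ⁻¹ = y⁻¹) {Q : Subgroup G}
    (hQ : IsPGroup 2 Q) (hQy : Q ≤ centralizer ({y} : Set G)) (S : Sylow 2 G) :
    2 * Nat.card Q ≤ Nat.card (S : Subgroup G) := by
  haveI : Fact (Nat.Prime 2) := ⟨Nat.prime_two⟩
  obtain ⟨S', hS'⟩ := hQ.exists_le_sylow
  have hcard : Nat.card (S' : Subgroup G) = Nat.card (S : Subgroup G) := by
    rw [S.card_eq_multiplicity, S'.card_eq_multiplicity]
  have hlt : Nat.card Q < Nat.card (S' : Subgroup G) := by
    refine lt_of_le_of_ne (card_le_of_le hS') fun h => ?_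
    have hQeq : Q = (S' : Subgroup G) := eq_of_le_of_card_ge hS' h.ge
    set E := extCentralizer y with hE
    have hQE : (S' : Subgroup G) ≤ E := fun q hq => Or.inl (by
      rw [mem_centralizer_singleton_iff.1 (hQy (hQeq ▸ hq)), mul_inv_cancel_right])
    obtain ⟨j, hj⟩ := hτ
    have hτE : τ ∈ E := Or.inr hinv
    obtain ⟨Pτ, hPτ⟩ := ((IsPGroup.of_card (p := 2) (n := j)
      (show Nat.card (zpowers τ) = 2 ^ j by rw [Nat.card_zpowers, hj])).comap_of_injective
        E.subtype E.subtype_injective).exists_le_sylow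
    obtain ⟨e, he⟩ := MulAction.exists_smul_eq E Pτ (S'.subtype hQE)
    have hmem : (e : G) * τ * (e : G)⁻¹ ∈ (S' : Subgroup G) := by
      have h1 : e * ⟨τ, hτE⟩ * e⁻¹ ∈ ((e • Pτ : Sylow 2 E) : Subgroup E) := by
        rw [Sylow.coe_subgroup_smul]
        exact ⟨⟨τ, hτE⟩, hPτ (mem_zpowers τ), rfl⟩
      rw [he] at h1
      exact h1
    rw [← hQeq] at hmem
    have hc := mem_centralizer_singleton_iff.1 (hQy hmem)
    have hy2 : y⁻¹ = y := by
      have hpre : ∀ z : G, (e : G) * τ * (e : G)⁻¹ * z * ((e : G) * τ * (e : G)⁻¹)⁻¹ =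
          (e : G) * (τ * ((e : G)⁻¹ * z * e) * τ⁻¹) * (e : G)⁻¹ := fun z => by group
      have h1 := hpre y
      rw [hc, mul_inv_cancel_right] at h1
      rcases e.2 with he' | he'
      · have h2 : (e : G)⁻¹ * y * e = y := by
          conv_lhs => rw [← he']
          group
        rw [h2, hinv] at h1
        rw [show (e : G) * y⁻¹ * (e : G)⁻¹ = ((e : G) * y * (e : G)⁻¹)⁻¹ by group, he'] at h1
        exact h1.symm
      · have h2 : (e : G)⁻¹ * y * e = y⁻¹ := by
          have he3 : y = ((e : G) * y * (e : G)⁻¹)⁻¹ := by rw [he', inv_inv]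
          conv_lhs => rw [he3]
          group
        rw [h2, show τ * y⁻¹ * τ⁻¹ = (τ * y * τ⁻¹)⁻¹ by group, hinv, inv_inv, he'] at h1
        exact h1.symm
    exact hy1 (eq_one_of_odd_of_sq hy (inv_eq_iff_mul_eq_one.1 hy2))
  obtain ⟨i, hi⟩ := hQ.exists_card_eq
  obtain ⟨k, hk⟩ := S'.isPGroup'.exists_card_eq
  rw [← hcard, hi, hk, ← pow_succ']
  rw [hi, hk] at hlt
  exact Nat.pow_le_pow_right two_pos ((Nat.pow_lt_pow_iff_right one_lt_two).1 hlt)

/-- A central element of prime-power order of a perfect A-group is trivial. -/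
theorem eq_one_of_central_of_perfect (hA : IsAGroup G) (hperf : commutator G = ⊤) {p k : ℕ}
    (hp : p.Prime) {d : G} (hd : d ∈ center G) (ho : orderOf d = p ^ k) : d = 1 := by
  haveI := Fact.mk hp
  obtain ⟨P, hP⟩ := (IsPGroup.of_card (p := p) (n := k)
    (show Nat.card (zpowers d) = p ^ k by rw [Nat.card_zpowers, ho])).exists_le_sylow
  obtain ⟨h1, h2, -⟩ := Lib.Transfer.abelian_sylow_normalizer P (hA p P)
  rw [h1, hperf, top_inf_eq] at h2
  have hmem : d ∈ (P : Subgroup G) ⊓ ((P : Subgroup G) ⊓
      centralizer (normalizer ((P : Subgroup G) : Set G) : Set G)) :=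
    ⟨hP (mem_zpowers d), hP (mem_zpowers d), mem_centralizer_iff.2 fun n _ => mem_center_iff.1 hd n⟩
  rw [h2, mem_bot] at hmem
  exact hmem

end Cfsg.Agent.Lib.AGroupIndex
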