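import Cfsg.Agent.Lib.AGroupIndex.Schur

/-!
# The stabiliser of two points and the involutions interchanging them
-/

set_option autoImplicit false

universe u

namespace Cfsg.Agent.Lib.AGroupIndex

open Subgroup

section
variable {G : Type u} [Group G]

/-- The stabiliser of the base point and of its image under `t`. -/
def twoPt (M : Subgroup G) (t : G) : Subgroup G := M ⊓ M.comap (MulAut.conj t).toMonoidHom

theorem mem_twoPt {M : Subgroup G} {t b : G} : b ∈ twoPt M t ↔ b ∈ M ∧ t * b * t⁻¹ ∈ M := Iff.rfl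

theorem twoPt_le {M : Subgroup G} {t : G} : twoPt M t ≤ M := inf_le_left

/-- The involutions mapping the base point to its image under `t`. -/
def swapSet (M : Subgroup G) (t : G) : Set G := {u | orderOf u = 2 ∧ t * u ∈ M}

theorem inv_eq_self_of_orderOf_two {t : G} (h : orderOf t = 2) : t⁻¹ = t :=
  inv_eq_of_mul_eq_one_right (by rw [← pow_two, ← h]; exact pow_orderOf_eq_one t)

theorem mul_self_of_orderOf_two {t : G} (h : orderOf t = 2) : t * t = 1 := by
  rw [← pow_two, ← h]; exact pow_orderOf_eq_one t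

theorem commute_of_conj_eq {a b : G} (h : a * b * a⁻¹ = b) : Commute a b :=
  mul_inv_eq_iff_eq_mul.1 h

theorem conj_eq_of_commute {a b : G} (h : Commute a b) : a * b * a⁻¹ = b :=
  mul_inv_eq_iff_eq_mul.2 h

end

namespace Ctx

variable {G : Type u} [Group G] [Finite G] {M : Subgroup G} (C : Ctx M) (S : Sylow 2 G)

/-- The number of involutions in `S`. -/
noncomputable def nInvol (S : Sylow 2 G) : ℕ :=
  Nat.card {u : G // orderOf u = 2 ∧ u ∈ (S : Subgroup G)}

include C

theorem odd_twoPt (t : G) : Odd (Nat.card (twoPt M t)) :=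
  C.odd_card.of_dvd_nat (card_dvd_of_le twoPt_le)

theorem conj_mem_twoPt {t b : G} (ht2 : orderOf t = 2) (hb : b ∈ twoPt M t) :
    t * b * t⁻¹ ∈ twoPt M t := by
  obtain ⟨h1, h2⟩ := mem_twoPt.1 hb
  refine mem_twoPt.2 ⟨h2, ?_⟩
  have e : t * (t * b * t⁻¹) * t⁻¹ = t * t * b * (t * t)⁻¹ := by group
  rw [e, mul_self_of_orderOf_two ht2]
  simpa using h1

omit C in
theorem fix_le_twoPt {t : G} : M ⊓ centralizer ({t} : Set G) ≤ twoPt M t := fun b hb =>
  mem_twoPt.2 ⟨hb.1, by
    rw [← mem_centralizer_singleton_iff.1 hb.2, mul_inv_cancel_right]; exact hb.1⟩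

omit C in
theorem mem_swapSet_self {t : G} (ht2 : orderOf t = 2) : t ∈ swapSet M t :=
  ⟨ht2, by rw [mul_self_of_orderOf_two ht2]; exact M.one_mem⟩

theorem conj_mem_swapSet {t b u : G} (ht2 : orderOf t = 2) (hb : b ∈ twoPt M t)
    (hu : u ∈ swapSet M t) : b * u * b⁻¹ ∈ swapSet M t := by
  refine ⟨by rw [orderOf_conj']; exact hu.1, ?_⟩
  have e : t * (b * u * b⁻¹) = (t * b * t⁻¹) * (t * u) * b⁻¹ := by group
  rw [e]
  exact M.mul_mem (M.mul_mem (mem_twoPt.1 hb).2 hu.2) (M.inv_mem (twoPt_le hb))

/-- The stabiliser of two points is transitive on the involutions interchanging them. -/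
theorem exists_twoPt_conj {t u : G} (ht2 : orderOf t = 2) (hu : u ∈ swapSet M t) :
    ∃ b ∈ twoPt M t, b * t * b⁻¹ = u := by
  obtain ⟨h, hh, e⟩ := C.exists_conj_invol ht2 hu.1
  refine ⟨h, mem_twoPt.2 ⟨hh, ?_⟩, e⟩
  have e2 : t * h * t⁻¹ = t * u * h := by
    rw [← e, inv_eq_self_of_orderOf_two ht2]; group
  rw [e2]
  exact M.mul_mem hu.2 hh

theorem swapSet_inj {t u v : G} {P : Sylow 2 G} (hu : u ∈ swapSet M t) (hv : v ∈ swapSet M t)
    (huP : u ∈ (P : Subgroup G)) (hvP : v ∈ (P : Subgroup G)) : u = v := by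
  refine inv_mul_eq_one.1 (C.eq_one_of_mem_of_mem P ?_
    ((P : Subgroup G).mul_mem ((P : Subgroup G).inv_mem huP) hvP))
  have e : u⁻¹ * v = (t * u)⁻¹ * (t * v) := by group
  rw [e]
  exact M.mul_mem (M.inv_mem hu.2) hv.2

/-- An involution of the interchanging set commuting with `t` is `t`. -/
theorem swapSet_eq_of_mem {t u : G} (ht : t ∈ (S : Subgroup G)) (ht2 : orderOf t = 2)
    (hu : u ∈ swapSet M t) (huS : u ∈ (S : Subgroup G)) : u = t :=
  C.swapSet_inj hu (mem_swapSet_self ht2) huS ht

theorem card_swap_mul {t : G} (ht : t ∈ (S : Subgroup G)) (ht2 : orderOf t = 2) :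
    (swapSet M t).ncard * (Nat.card (S : Subgroup G) - 1) =
      Nat.card {u : G // orderOf u = 2} := by
  classical
  haveI : Fintype G := Fintype.ofFinite G
  have ht' := inv_eq_self_of_orderOf_two ht2
  have hne : ∀ u : G, orderOf u = 2 → C.sPart S u ≠ 1 := fun u hu h => by
    have := C.sPart_spec S u
    rw [h, OneMemClass.coe_one, inv_one, one_mul] at this
    exact C.invol_not_mem hu this
  have hfib : ∀ s : ↥(S : Subgroup G), s ≠ 1 →
      ((Finset.univ.filter fun u : G => orderOf u = 2).filter fun u => C.sPart S u = s).card =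
        (swapSet M t).ncard := by
    intro s hs
    obtain ⟨h, hh, e⟩ := C.exists_orbit S ht (fun h => by
      rw [h, orderOf_one] at ht2; exact absurd ht2 (by norm_num)) s.2
      (fun h => hs (Subtype.ext h))
    rw [Set.ncard_eq_toFinset_card']
    refine (Finset.card_bij' (fun u _ => h * u * h⁻¹) (fun v _ => h⁻¹ * v * h) ?_ ?_ ?_ ?_).symm
    · intro u hu
      simp only [Set.mem_toFinset] at hu
      simp only [Finset.mem_filter, Finset.mem_univ, true_and]
      refine ⟨by rw [orderOf_conj']; exact hu.1, C.sPart_unique S ?_⟩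
      have : (s : G)⁻¹ * (h * u * h⁻¹) = ((s : G)⁻¹ * h * t) * (t⁻¹ * u) * h⁻¹ := by group
      rw [this, ht']
      exact M.mul_mem (M.mul_mem e hu.2) (M.inv_mem hh)
    · intro v hv
      simp only [Finset.mem_filter, Finset.mem_univ, true_and] at hv
      simp only [Set.mem_toFinset]
      refine ⟨?_, ?_⟩
      · have : h⁻¹ * v * h = h⁻¹ * v * h⁻¹⁻¹ := by rw [inv_inv]
        rw [this, orderOf_conj']; exact hv.1
      · have hsp := C.sPart_spec S v
        rw [hv.2] at hsp
        have : t * (h⁻¹ * v * h) = ((s : G)⁻¹ * h * t⁻¹)⁻¹ * ((s : G)⁻¹ * v) * h := by group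
        rw [this, ht']
        exact M.mul_mem (M.mul_mem (M.inv_mem e) hsp) hh
    · intro u _; group
    · intro v _; group
  rw [Nat.card_eq_fintype_card (α := {u : G // orderOf u = 2}), Fintype.card_subtype,
    Finset.card_eq_sum_card_fiberwise (f := fun u => C.sPart S u)
      (t := Finset.univ.erase (1 : ↥(S : Subgroup G))) (fun u hu => by
        simp only [Finset.coe_filter, Finset.mem_univ, true_and, Set.mem_setOf_eq] at hu
        exact Finset.mem_coe.2 (Finset.mem_erase.2 ⟨hne u hu, Finset.mem_univ _⟩)),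
    Finset.sum_congr rfl (fun s hs => hfib s (Finset.mem_erase.1 hs).1), Finset.sum_const,
    Finset.card_erase_of_mem (Finset.mem_univ _), Finset.card_univ, Nat.card_eq_fintype_card,
    smul_eq_mul, mul_comm]

theorem card_invol_modEq :
    ∃ j : ℕ, Nat.card {u : G // orderOf u = 2} =
      nInvol S + Nat.card (S : Subgroup G) * j := by
  classical
  haveI : Fintype G := Fintype.ofFinite G
  let X := {u : G // orderOf u = 2 ∧ u ∉ (S : Subgroup G)}
  letI : MulAction (S : Subgroup G) X :=
    { smul := fun s u => ⟨(s : G) * u.1 * (s : G)⁻¹, by rw [orderOf_conj']; exact u.2.1,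
        fun h => u.2.2 (by
          have := (S : Subgroup G).mul_mem ((S : Subgroup G).mul_mem
            ((S : Subgroup G).inv_mem s.2) h) s.2
          have e : (s : G)⁻¹ * ((s : G) * u.1 * (s : G)⁻¹) * s = u.1 := by group
          rwa [e] at this)⟩
      one_smul := fun u => Subtype.ext (by
        show ((1 : (S : Subgroup G)) : G) * u.1 * ((1 : (S : Subgroup G)) : G)⁻¹ = u.1
        simp)
      mul_smul := fun a b u => Subtype.ext (by
        show ((a * b : (S : Subgroup G)) : G) * u.1 * ((a * b : (S : Subgroup G)) : G)⁻¹ =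
          (a : G) * ((b : G) * u.1 * (b : G)⁻¹) * (a : G)⁻¹
        simp only [coe_mul]; group) }
  have hfree : ∀ u : X, MulAction.stabilizer (S : Subgroup G) u = ⊥ := by
    intro u
    rw [eq_bot_iff]
    intro s hs
    rw [mem_bot]
    by_contra hs1
    have hc : Commute (s : G) u.1 := commute_of_conj_eq (congrArg Subtype.val hs)
    obtain ⟨k, hk⟩ := S.isPGroup'.exists_card_eq
    have hdk : orderOf s ∣ 2 ^ k := by rw [← hk]; exact _root_.orderOf_dvd_natCard s
    obtain ⟨i, -, hi⟩ := (Nat.dvd_prime_pow Nat.prime_two).1 hdk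
    have hi0 : i ≠ 0 := by
      rintro rfl
      exact hs1 (orderOf_eq_one_iff.1 (by rw [hi, pow_zero]))
    have hz : orderOf ((s : G) ^ 2 ^ (i - 1)) = 2 := by
      rw [orderOf_pow_of_dvd (by positivity) (by
        rw [orderOf_coe, hi]; exact pow_dvd_pow 2 (Nat.sub_le i 1)), orderOf_coe, hi,
        Nat.pow_div (Nat.sub_le i 1) two_pos, Nat.sub_sub_self (Nat.one_le_iff_ne_zero.2 hi0),
        pow_one]
    exact u.2.2 (C.mem_of_commute S ((S : Subgroup G).pow_mem s.2 _) hz u.2.1
      (hc.symm.pow_right _))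
  refine ⟨Nat.card (Quotient (MulAction.orbitRel (S : Subgroup G) X)), ?_⟩
  have hX : Nat.card X =
      Nat.card (Quotient (MulAction.orbitRel (S : Subgroup G) X)) * Nat.card (S : Subgroup G) := by
    rw [Nat.card_congr (MulAction.selfEquivOrbitsQuotientProd hfree), Nat.card_prod]
  rw [mul_comm, ← hX, nInvol, ← Nat.card_sum]
  refine Nat.card_congr ?_
  exact
    { toFun := fun u => if h : u.1 ∈ (S : Subgroup G) then Sum.inl ⟨u.1, u.2, h⟩
        else Sum.inr ⟨u.1, u.2, h⟩
      invFun := Sum.elim (fun u => ⟨u.1, u.2.1⟩) (fun u => ⟨u.1, u.2.1⟩)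
      left_inv := fun u => by
        by_cases h : u.1 ∈ (S : Subgroup G) <;> simp [h]
      right_inv := fun u => by
        rcases u with u | u <;> simp [u.2.2] }

/-- `nInvol + 1` divides the order of `S`, and equals it exactly when `S` is elementary. -/
theorem nInvol_spec :
    (nInvol S + 1 = Nat.card (S : Subgroup G) ∧ ∀ s ∈ (S : Subgroup G), s * s = 1) ∨
      2 * (nInvol S + 1) ≤ Nat.card (S : Subgroup G) ∧ Odd (nInvol S) := by
  classical
  haveI : Fintype G := Fintype.ofFinite G
  letI : CommGroup (S : Subgroup G) :=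
    { (inferInstance : Group (S : Subgroup G)) with
      mul_comm := fun x y => Subtype.ext (C.comm S x.2 y.2) }
  set K := (powMonoidHom 2 : (S : Subgroup G) →* (S : Subgroup G)).ker with hK
  have hmem : ∀ x : (S : Subgroup G), x ∈ K ↔ x.1 = 1 ∨ orderOf x.1 = 2 := by
    intro x
    rw [hK, MonoidHom.mem_ker, powMonoidHom_apply]
    constructor
    · intro h
      by_cases hx : x = 1
      · left; rw [hx]; rfl
      · right
        haveI : Fact (Nat.Prime 2) := ⟨Nat.prime_two⟩
        rw [orderOf_coe]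
        exact orderOf_eq_prime h hx
    · rintro (h | h)
      · have : x = 1 := Subtype.ext h
        rw [this, one_pow]
      · rw [orderOf_coe] at h
        exact orderOf_dvd_iff_pow_eq_one.1 h.dvd
  have hcard : Nat.card K = nInvol S + 1 := by
    rw [nInvol, ← Finite.card_option]
    refine Nat.card_congr ?_
    exact
      { toFun := fun x => if h : x.1.1 = 1 then none else
          some ⟨x.1.1, ((hmem x.1).1 x.2).resolve_left h, x.1.2⟩
        invFun := fun u => match u with
          | none => 1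
          | some u => ⟨⟨u.1, u.2.2⟩, (hmem _).2 (Or.inr u.2.1)⟩
        left_inv := fun x => by
          by_cases h : x.1.1 = 1
          · simp only [h, dif_pos]
            exact Subtype.ext (Subtype.ext h.symm)
          · simp [h]
        right_inv := fun u => by
          rcases u with _ | u
          · simp
          · have : u.1 ≠ 1 := fun h => by
              have := u.2.1
              rw [h, orderOf_one] at this
              exact absurd this (by norm_num)
            simp [this] }
  obtain ⟨k, hk⟩ := S.isPGroup'.exists_card_eq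
  obtain ⟨i, hi, hKi⟩ := (Nat.dvd_prime_pow Nat.prime_two).1 (hk ▸ K.card_subgroup_dvd_card)
  have hi0 : i ≠ 0 := by
    rintro rfl
    obtain ⟨t, ht, ht2⟩ := C.exists_invol S
    haveI : Nonempty {u : G // orderOf u = 2 ∧ u ∈ (S : Subgroup G)} := ⟨⟨t, ht2, ht⟩⟩
    have : 0 < nInvol S := Nat.card_pos
    rw [pow_zero, hcard] at hKi
    omega
  rcases Nat.lt_or_eq_of_le hi with hlt | heq
  · right
    refine ⟨?_, ?_⟩
    · rw [← hcard, hKi, hk, ← pow_succ']
      exact Nat.pow_le_pow_right two_pos hlt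
    · rw [← Nat.not_even_iff_odd]
      intro he
      have : Even (Nat.card K) := hKi ▸ (Nat.even_pow.2 ⟨even_two, hi0⟩)
      rw [hcard] at this
      exact Nat.not_even_iff_odd.2 he.add_one this
  · left
    have htop : K = ⊤ := eq_top_of_card_eq K (by rw [hKi, heq, hk])
    refine ⟨by rw [← hcard, hKi, heq, hk], fun s hs => ?_⟩
    have : (⟨s, hs⟩ : (S : Subgroup G)) ∈ K := htop ▸ mem_top _
    rw [hK, MonoidHom.mem_ker, powMonoidHom_apply, pow_two] at this
    exact congrArg Subtype.val this

theorem even_card_sylow : Even (Nat.card (S : Subgroup G)) := by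
  obtain ⟨t, ht, ht2⟩ := C.exists_invol S
  rw [even_iff_two_dvd]
  have h := _root_.orderOf_dvd_natCard (⟨t, ht⟩ : (S : Subgroup G))
  rw [← orderOf_coe, ht2] at h
  exact h

/-- The interchanging involutions: an odd number, more than half of the points. -/
theorem card_swap_facts {t : G} (ht : t ∈ (S : Subgroup G)) (ht2 : orderOf t = 2) :
    Odd (swapSet M t).ncard ∧ Nat.card (S : Subgroup G) < 2 * (swapSet M t).ncard ∧
      ((∀ s ∈ (S : Subgroup G), s * s = 1) →
        ∃ j : ℕ, 0 < j ∧ (swapSet M t).ncard = 1 + j * Nat.card (S : Subgroup G)) := by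
  set f := (swapSet M t).ncard with hf
  set q := Nat.card (S : Subgroup G) with hq
  have h1 := C.card_swap_mul S ht ht2
  obtain ⟨j, hj⟩ := C.card_invol_modEq S
  rw [hj, ← hf, ← hq] at h1
  obtain ⟨a, ha⟩ := even_iff_two_dvd.1 (C.even_card_sylow S)
  have hq0 : 0 < q := Nat.card_pos
  obtain ⟨q', hq'⟩ : ∃ q', q = q' + 1 := ⟨q - 1, by omega⟩
  rw [hq'] at h1
  simp only [Nat.add_sub_cancel] at h1
  obtain ⟨t', ht', hne⟩ := C.exists_invol_not_mem S
  have hjpos : 0 < j := by
    rcases Nat.eq_zero_or_pos j with rfl | h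
    · exfalso
      rw [mul_zero, add_zero, nInvol] at hj
      have hbij : Function.Bijective
          (fun u : {u : G // orderOf u = 2 ∧ u ∈ (S : Subgroup G)} =>
            (⟨u.1, u.2.1⟩ : {u : G // orderOf u = 2})) := by
        rw [Nat.bijective_iff_injective_and_card]
        refine ⟨fun a b h => Subtype.ext ?_, hj.symm⟩
        exact (Subtype.mk.injEq _ _ _ _).mp h
      obtain ⟨u, hu⟩ := hbij.2 ⟨t', ht'⟩
      have hu' : u.1 = t' := (Subtype.mk.injEq _ _ _ _).mp hu
      exact hne (hu' ▸ u.2.2)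
    · exact h
  -- `f + n + 1` is a multiple of `q`
  have hdvd : q' + 1 ∣ f + nInvol S := by
    have : f * q' + f = nInvol S + (q' + 1) * j + f := by rw [h1]
    refine (Nat.dvd_add_left (dvd_mul_right (q' + 1) j)).1 ?_
    refine ⟨f, ?_⟩
    rw [mul_comm (q' + 1) f, mul_add, mul_one]
    omega
  obtain ⟨i, hi⟩ := hdvd
  have hfpos : 0 < f := by
    rw [hf, Set.ncard_pos (Set.toFinite _)]
    exact ⟨t, mem_swapSet_self ht2⟩
  have hipos : 0 < i := by
    rcases Nat.eq_zero_or_pos i with rfl | h
    · omega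
    · exact h
  have hqi : q' + 1 ≤ (q' + 1) * i := Nat.le_mul_of_pos_right _ hipos
  rcases C.nInvol_spec S with ⟨hn, hel⟩ | ⟨hn, hodd⟩
  · rw [← hq, hq'] at hn
    have hi2 : 2 ≤ i := by
      by_contra hi2
      have : i = 1 := by omega
      subst this
      have hf1 : f = 1 := by omega
      rw [hf1, one_mul] at h1
      have : 0 < (q' + 1) * j := by positivity
      omega
    obtain ⟨i', rfl⟩ : ∃ i', i = i' + 1 := ⟨i - 1, by omega⟩
    have hfi : f = 1 + i' * (q' + 1) := by
      have e : (q' + 1) * (i' + 1) = i' * (q' + 1) + (q' + 1) := by ring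
      omega
    refine ⟨?_, ?_, fun _ => ⟨i', by omega, by rw [hq']; exact hfi⟩⟩
    · rw [hfi, ← hq', ← mul_one 1]
      exact odd_one.add_even ((C.even_card_sylow S).mul_left _)
    · have : q' + 1 ≤ i' * (q' + 1) := Nat.le_mul_of_pos_left _ (by omega)
      omega
  · rw [← hq, hq'] at hn
    refine ⟨?_, by omega, fun hel => ?_⟩
    · have he : Even (f + nInvol S) := by
        rw [hi, ← hq']; exact (C.even_card_sylow S).mul_right _
      exact (Nat.even_add'.1 he).2 hodd
    · exfalso
      -- an elementary `S` has `q - 1` involutions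
      have hle : q ≤ nInvol S + 1 := by
        rw [hq, nInvol, ← Finite.card_option]
        classical
        refine Nat.card_le_card_of_injective (fun s : (S : Subgroup G) =>
          if h : (s : G) = 1 then none else some ⟨(s : G), orderOf_eq_prime (p := 2)
            (by rw [pow_two]; exact hel s s.2) h, s.2⟩) ?_
        intro a b hab
        by_cases h1 : (a : G) = 1 <;> by_cases h2 : (b : G) = 1 <;>
          simp [h1, h2] at hab <;> exact Subtype.ext (by simp [h1, h2, hab])
      omega

end Ctx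

end Cfsg.Agent.Lib.AGroupIndex

namespace Cfsg.Agent.Lib.AGroupIndex.Ctx

open Subgroup

variable {G : Type u} [Group G] [Finite G] {M : Subgroup G} (C : Ctx M)

include C

/-- The stabiliser of the two points has index `f` over the centraliser of `t` in `M`. -/
theorem index_fix_twoPt {t : G} (ht2 : orderOf t = 2) :
    ((M ⊓ centralizer ({t} : Set G)).subgroupOf (twoPt M t)).index = (swapSet M t).ncard := by
  rw [← Nat.card_coe_set_eq]
  refine Nat.card_eq_of_bijective (Quotient.lift
    (fun b : twoPt M t => (⟨(b : G) * t * (b : G)⁻¹,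
      C.conj_mem_swapSet ht2 b.2 (mem_swapSet_self ht2)⟩ : swapSet M t)) ?_) ⟨?_, ?_⟩
  · intro a b hab
    have h := QuotientGroup.leftRel_apply.1 hab
    rw [mem_subgroupOf] at h
    have hc := mem_centralizer_singleton_iff.1 h.2
    refine Subtype.ext ?_
    simp only [coe_mul, coe_inv] at hc ⊢
    calc (a : G) * t * (a : G)⁻¹ = a * (t * ((a : G)⁻¹ * b)) * (b : G)⁻¹ := by group
      _ = a * (((a : G)⁻¹ * b) * t) * (b : G)⁻¹ := by rw [hc]
      _ = (b : G) * t * (b : G)⁻¹ := by group
  · intro p q
    induction p using QuotientGroup.induction_on with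
    | H a =>
      induction q using QuotientGroup.induction_on with
      | H b =>
        intro hpq
        have h : (a : G) * t * (a : G)⁻¹ = (b : G) * t * (b : G)⁻¹ := congrArg Subtype.val hpq
        refine QuotientGroup.eq.2 (mem_subgroupOf.2 ⟨twoPt_le (a⁻¹ * b).2,
          mem_centralizer_singleton_iff.2 ?_⟩)
        simp only [coe_mul, coe_inv]
        calc (a : G)⁻¹ * b * t = (a : G)⁻¹ * ((b : G) * t * (b : G)⁻¹) * b := by group
          _ = (a : G)⁻¹ * ((a : G) * t * (a : G)⁻¹) * b := by rw [h]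
          _ = t * ((a : G)⁻¹ * b) := by group
  · rintro ⟨u, hu⟩
    obtain ⟨b, hb, e⟩ := C.exists_twoPt_conj ht2 hu
    exact ⟨QuotientGroup.mk ⟨b, hb⟩, Subtype.ext e⟩

end Cfsg.Agent.Lib.AGroupIndex.Ctx
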