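import Cfsg.Agent.Lib.AGroupIndex.CaseG2
import Cfsg.Agent.Lib.AGroupIndex.CaseE4

/-!
# An A-group with a subgroup of odd order and `2`-power index is soluble

Consequently a simple non-abelian A-group has no proper subgroup of `2`-power index.
-/

set_option autoImplicit false

universe u

namespace Cfsg.Agent.Lib.AGroupIndex

open Subgroup

theorem relIndex_dvd_of_isSubnormal {G : Type*} [Group G] [Finite G] (H : Subgroup G)
    {T : Subgroup G} (hT : T.IsSubnormal) : H.relIndex T ∣ H.index := by
  induction hT with
  | top => rw [relIndex_top_right]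
  | step A B hle _ hN ih =>
    refine dvd_trans ?_ ih
    have := hN
    have h := relIndex_dvd_index_of_normal_right (N := A.subgroupOf B) (M := H.subgroupOf B)
    rwa [relIndex_subgroupOf hle] at h

theorem solvable_aux : ∀ (n : ℕ) (G : Type u) [Group G] [Finite G], Nat.card G = n → IsAGroup G →
    ∀ M : Subgroup G, Odd (Nat.card M) → ∀ a : ℕ, M.index = 2 ^ a → Group.IsSolvable G := by
  intro n
  induction n using Nat.strong_induction_on with
  | _ n ih =>
    intro G _ _ hn hA M hM a ha
    by_contra hns
    haveI : Nontrivial G := by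
      by_contra hnt
      rw [not_nontrivial_iff_subsingleton] at hnt
      exact hns (Group.isSolvable_of_comm fun a b => Subsingleton.elim _ _)
    have hsub : ∀ H : Subgroup G, H ≠ ⊤ → ∀ L : Subgroup H, Odd (Nat.card L) → ∀ b : ℕ,
        L.index = 2 ^ b → Group.IsSolvable H := by
      intro H hH L hL b hb
      refine ih (Nat.card H) ?_ H rfl (hA.subgroup H) L hL b hb
      rw [← hn]
      exact lt_of_le_of_ne (card_le_card_group H) fun h => hH (eq_top_of_card_eq H h)
    have hsimple : IsSimpleGroup G := by
      refine ⟨fun N hN => ?_⟩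
      by_contra hne
      push Not at hne
      obtain ⟨hN0, hN1⟩ := hne
      have hsN : Group.IsSolvable N := by
        have hdvd : M.relIndex N ∣ 2 ^ a := ha ▸ relIndex_dvd_index_of_normal_right
        obtain ⟨b, -, hb⟩ := (Nat.dvd_prime_pow Nat.prime_two).1 hdvd
        refine hsub N hN1 (M.subgroupOf N) (hM.of_dvd_nat ?_) b hb
        rw [← card_map_of_injective (K := M.subgroupOf N) N.subtype_injective, subgroupOf_map_subtype]
        exact card_dvd_of_le inf_le_left
      have hsQ : Group.IsSolvable (G ⧸ N) := by
        have hsur := QuotientGroup.mk'_surjective N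
        have hdvd : (M.map (QuotientGroup.mk' N)).index ∣ 2 ^ a := ha ▸ index_map_dvd _ hsur
        obtain ⟨b, -, hb⟩ := (Nat.dvd_prime_pow Nat.prime_two).1 hdvd
        refine ih (Nat.card (G ⧸ N)) ?_ (G ⧸ N) rfl (hA.of_surjective hsur)
          (M.map (QuotientGroup.mk' N)) (hM.of_dvd_nat (card_map_dvd _ _)) b hb
        rw [← hn, ← index_eq_card, ← N.card_mul_index]
        exact lt_mul_of_one_lt_left (Nat.pos_of_ne_zero FiniteIndex.index_ne_zero)
          (N.one_lt_card_iff_ne_bot.2 hN0)
      haveI := hsN
      haveI := hsQ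
      exact hns (Group.isSolvable_of_ker_le_range N.subtype (QuotientGroup.mk' N)
        (by rw [QuotientGroup.ker_mk', range_subtype]))
    haveI : Fact (Nat.Prime 2) := ⟨Nat.prime_two⟩
    have C : Ctx M := ⟨hA, hsub, hsimple, hns, hM, a, ha⟩
    obtain ⟨S⟩ : Nonempty (Sylow 2 G) := inferInstance
    obtain ⟨t, ht, ht2⟩ := C.exists_invol S
    obtain ⟨u, hu, r, hr, hur, hut, hsingle⟩ := C.exists_fixed_single S ht ht2
    exact EData.contradiction (S := S) (t := t) (x := u) (r := r)
      ⟨C, ht, ht2, hu, hr, hur, hut, hsingle⟩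

/-- **An A-group with a subgroup of odd order and `2`-power index is soluble.** -/
theorem solvable_of_odd_index_two_pow {G : Type u} [Group G] [Finite G] (hA : IsAGroup G)
    (M : Subgroup G) (hM : Odd (Nat.card M)) {a : ℕ} (ha : M.index = 2 ^ a) :
    Group.IsSolvable G :=
  solvable_aux (Nat.card G) G rfl hA M hM a ha

/-- A non-soluble simple A-group has no proper subgroup of `2`-power index. -/
theorem eq_top_of_index_two_pow {G : Type u} [Group G] [Finite G] [IsSimpleGroup G]
    (hA : IsAGroup G) (hns : ¬ Group.IsSolvable G) (M : Subgroup G) {a : ℕ}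
    (ha : M.index = 2 ^ a) : M = ⊤ := by
  haveI : Fact (Nat.Prime 2) := ⟨Nat.prime_two⟩
  by_contra hM
  obtain ⟨Q⟩ : Nonempty (Sylow 2 M) := inferInstance
  obtain ⟨S, hS⟩ := (Q.isPGroup'.map M.subtype).exists_le_sylow
  set D := (S : Subgroup G) ⊓ M with hD
  have hDQ : Nat.card D = Nat.card (Q : Subgroup M) := by
    refine le_antisymm ?_ ?_
    · have hp : IsPGroup 2 (D.subgroupOf M) :=
        (S.isPGroup'.to_le inf_le_left).comap_of_injective _ M.subtype_injective
      obtain ⟨Q', hQ'⟩ := hp.exists_le_sylow
      rw [← Nat.card_congr (subgroupOfEquivOfLe (inf_le_right : D ≤ M)).toEquiv,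
        Q.card_eq_multiplicity, ← Q'.card_eq_multiplicity]
      exact card_le_of_le hQ'
    · rw [← card_map_of_injective (K := (Q : Subgroup M)) M.subtype_injective]
      exact card_le_of_le (le_inf hS (map_subtype_le _))
  -- `G = SM`
  let f : (S : Subgroup G) ⧸ M.subgroupOf (S : Subgroup G) → G ⧸ M :=
    Quotient.lift (fun s => ((s : G) : G ⧸ M)) fun s s' h => QuotientGroup.eq.2 (by
      have := mem_subgroupOf.1 (QuotientGroup.leftRel_apply.1 h)
      simpa using this)
  have hf : Function.Bijective f := by
    rw [Nat.bijective_iff_injective_and_card]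
    refine ⟨?_, ?_⟩
    · intro p q
      induction p using QuotientGroup.induction_on with
      | H s =>
        induction q using QuotientGroup.induction_on with
        | H s' =>
          intro h
          exact QuotientGroup.eq.2 (mem_subgroupOf.2 (by
            have := QuotientGroup.eq.1 (show ((s : G) : G ⧸ M) = (s' : G) from h)
            simpa using this))
    · rw [← index_eq_card, ← index_eq_card, ha]
      have h1 := (M.subgroupOf (S : Subgroup G)).card_mul_index
      have h3 : Nat.card (M.subgroupOf (S : Subgroup G)) = Nat.card D := by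
        rw [← card_map_of_injective (K := M.subgroupOf (S : Subgroup G))
          (S : Subgroup G).subtype_injective, subgroupOf_map_subtype, hD, inf_comm]
      rw [h3, hDQ, Q.card_eq_multiplicity, S.card_eq_multiplicity, ← M.card_mul_index, ha,
        Nat.factorization_mul Nat.card_pos.ne' (by positivity), Finsupp.add_apply,
        Nat.prime_two.factorization_pow, Finsupp.single_eq_same, pow_add] at h1
      exact Nat.eq_of_mul_eq_mul_left (pow_pos two_pos _) h1
  have hcore : D ≤ M.normalCore := by
    intro d hd g
    obtain ⟨q, hq⟩ := hf.2 ((g⁻¹ : G) : G ⧸ M)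
    induction q using QuotientGroup.induction_on with
    | H s =>
      have hm : (s : G)⁻¹ * g⁻¹ ∈ M :=
        QuotientGroup.eq.1 (show ((s : G) : G ⧸ M) = ((g⁻¹ : G) : G ⧸ M) from hq)
      have hc : (s : G)⁻¹ * d * s = d := by
        have h := hA.commute S.isPGroup' hd.1 s.2
        rw [mul_assoc, h, inv_mul_cancel_left]
      have e : g * d * g⁻¹ = ((s : G)⁻¹ * g⁻¹)⁻¹ * ((s : G)⁻¹ * d * s) * ((s : G)⁻¹ * g⁻¹) := by
        group
      rw [e, hc]
      exact M.mul_mem (M.mul_mem (M.inv_mem hm) hd.2) hm
  have hbot : M.normalCore = ⊥ := by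
    rcases M.normalCore_normal.eq_bot_or_eq_top with h | h
    · exact h
    · exact absurd (top_le_iff.1 (h ▸ M.normalCore_le)) hM
  rw [hbot, le_bot_iff] at hcore
  refine hns (solvable_of_odd_index_two_pow hA M ?_ ha)
  have h1 : Nat.card (Q : Subgroup M) = 1 := by rw [← hDQ, hcore, card_bot]
  rw [← Nat.not_even_iff_odd, even_iff_two_dvd]
  intro h2
  have := Q.dvd_card_of_dvd_card h2
  rw [h1] at this
  exact absurd this (by norm_num)

end Cfsg.Agent.Lib.AGroupIndex
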