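import Cfsg.Agent.Lib.AGroupIndex.Setting

/-!
# `M` is transitive on the points other than its own

A regular abelian `2`-subgroup `S` forces (Schur): every orbit of the stabiliser `M` outside the
base point meets the involutions of `S`.
-/

set_option autoImplicit false

universe u

namespace Cfsg.Agent.Lib.AGroupIndex

open Subgroup

/-- An involutive map has as many fixed points as the size of the set, modulo `2`. -/
theorem even_card_of_involutive {α : Type*} [DecidableEq α] (s : Finset α) (f : α → α)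
    (hf : ∀ a ∈ s, f a ∈ s) (hf2 : ∀ a ∈ s, f (f a) = a) (hfix : ∀ a ∈ s, f a ≠ a) :
    Even s.card := by
  have h : (∑ _a ∈ s, (1 : ZMod 2)) = 0 :=
    Finset.sum_involution (fun a _ => f a) (fun _ _ => by decide) (fun a ha _ => hfix a ha)
      (fun a ha => hf a ha) (fun a ha => hf2 a ha)
  rw [Finset.sum_const, nsmul_eq_mul, mul_one] at h
  exact even_iff_two_dvd.2 ((CharP.cast_eq_zero_iff (ZMod 2) 2 _).1 h)

theorem odd_card_filter_fixed {α : Type*} [DecidableEq α] (s : Finset α) (f : α → α)
    (hf : ∀ a ∈ s, f a ∈ s) (hf2 : ∀ a ∈ s, f (f a) = a) :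
    (Odd s.card ↔ Odd (s.filter fun a => f a = a).card) := by
  have h := even_card_of_involutive (s.filter fun a => ¬ f a = a) f (fun a ha => by
    rw [Finset.mem_filter] at ha ⊢
    exact ⟨hf a ha.1, fun h => ha.2 (by rw [hf2 a ha.1] at h; exact h.symm)⟩)
    (fun a ha => hf2 a (Finset.mem_filter.1 ha).1) (fun a ha => (Finset.mem_filter.1 ha).2)
  rw [← Finset.card_filter_add_card_filter_not (s := s) fun a => f a = a, Nat.odd_add]
  exact iff_true_right h

namespace Ctx

variable {G : Type u} [Group G] [Finite G] {M : Subgroup G} (C : Ctx M) (S : Sylow 2 G)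

include C

/-- The `S`-component of an element. -/
noncomputable def sPart (g : G) : (S : Subgroup G) :=
  ((C.bijective_mk S).2 (g : G ⧸ M)).choose

theorem sPart_spec (g : G) : (C.sPart S g : G)⁻¹ * g ∈ M :=
  QuotientGroup.eq.1 ((C.bijective_mk S).2 (g : G ⧸ M)).choose_spec

theorem sPart_unique {g : G} {s : (S : Subgroup G)} (h : (s : G)⁻¹ * g ∈ M) :
    C.sPart S g = s := by
  refine (C.bijective_mk S).1 (QuotientGroup.eq.2 ?_)
  have e : (C.sPart S g : G)⁻¹ * s = ((C.sPart S g : G)⁻¹ * g) * ((s : G)⁻¹ * g)⁻¹ := by group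
  rw [e]
  exact M.mul_mem (C.sPart_spec S g) (M.inv_mem h)

/-- Every orbit of `M` on the other points contains the image of an involution of `S`. -/
theorem exists_invol_orbit {a : G} (ha : a ∈ (S : Subgroup G)) (ha1 : a ≠ 1) :
    ∃ s ∈ (S : Subgroup G), orderOf s = 2 ∧ ∃ h ∈ M, s⁻¹ * h * a ∈ M := by
  classical
  haveI : Fintype G := Fintype.ofFinite G
  by_contra hcon
  push Not at hcon
  letI : CommGroup (S : Subgroup G) :=
    { (inferInstance : Group (S : Subgroup G)) with
      mul_comm := fun x y => Subtype.ext (C.comm S x.2 y.2) }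
  set D : Finset (S : Subgroup G) :=
    Finset.univ.filter fun c : (S : Subgroup G) => ∃ h ∈ M, (c : G)⁻¹ * h * a ∈ M with hD
  have memD : ∀ c : (S : Subgroup G), c ∈ D ↔ ∃ h ∈ M, (c : G)⁻¹ * h * a ∈ M := fun c => by
    simp [hD]
  have hno : ∀ c ∈ D, c * c ≠ 1 := by
    intro c hc h
    obtain ⟨k, hk, hka⟩ := (memD c).1 hc
    by_cases hc1 : c = 1
    · subst hc1
      simp only [OneMemClass.coe_one, inv_one, one_mul] at hka
      refine ha1 (C.eq_one_of_mem_of_mem S ?_ ha)
      have := M.mul_mem (M.inv_mem hk) hka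
      rwa [inv_mul_cancel_left] at this
    · refine hcon c c.2 ?_ k hk hka
      rw [orderOf_coe]
      haveI : Fact (Nat.Prime 2) := ⟨Nat.prime_two⟩
      exact orderOf_eq_prime (by rw [pow_two]; exact h) hc1
  -- the orbit has odd size
  have hDodd : Odd D.card := by
    let o : Set (G ⧸ M) := MulAction.orbit M (a : G ⧸ M)
    have hsm : ∀ (h : M) (g : G), h • (g : G ⧸ M) = (((h : G) * g : G) : G ⧸ M) := fun _ _ => rfl
    have himg : (fun c : (S : Subgroup G) => ((c : G) : G ⧸ M)) '' (D : Set (S : Subgroup G)) =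
        o := by
      ext q
      constructor
      · rintro ⟨c, hc, rfl⟩
        obtain ⟨h, hh, hha⟩ := (memD c).1 hc
        refine ⟨⟨h, hh⟩, ?_⟩
        show (⟨h, hh⟩ : M) • (a : G ⧸ M) = _
        rw [hsm]
        exact (QuotientGroup.eq.2 (by rw [← mul_assoc]; exact hha)).symm
      · rintro ⟨h, rfl⟩
        obtain ⟨c, hc⟩ := (C.bijective_mk S).2 (h • (a : G ⧸ M))
        refine ⟨c, (memD c).2 ⟨h, h.2, ?_⟩, hc⟩
        have := hc.trans (hsm h a)
        rw [mul_assoc]
        exact QuotientGroup.eq.1 this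
    have hcard : D.card = o.ncard := by
      rw [← himg, Set.ncard_image_of_injective _ (C.bijective_mk S).1, Set.ncard_coe_finset]
    rw [hcard, ← MulAction.index_stabilizer]
    exact C.odd_card.of_dvd_nat (index_dvd_card _)
  set E : ↥(S : Subgroup G) → Finset (S : Subgroup G) :=
    fun y => D.filter fun c => c⁻¹ * y ∈ D with hE
  set c2 : ↥(S : Subgroup G) → ℕ := fun y => (D.filter fun c => c * c = y).card with hc2
  have hpar : ∀ y, (Odd (E y).card ↔ Odd (c2 y)) := by
    intro y
    have hii : ∀ c : ↥(S : Subgroup G), (c⁻¹ * y)⁻¹ * y = c := fun c => by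
      rw [mul_inv_rev, inv_inv, mul_comm y⁻¹, mul_assoc, inv_mul_cancel, mul_one]
    rw [odd_card_filter_fixed (E y) (fun c => c⁻¹ * y) (fun c hc => by
      simp only [hE, Finset.mem_filter] at hc ⊢
      exact ⟨hc.2, (hii c).symm ▸ hc.1⟩)
      (fun c _ => hii c)]
    have hset : (E y).filter (fun c => c⁻¹ * y = c) = D.filter fun c => c * c = y := by
      ext c
      simp only [hE, Finset.mem_filter]
      constructor
      · rintro ⟨⟨h1, -⟩, h2⟩
        exact ⟨h1, (inv_mul_eq_iff_eq_mul.1 h2).symm⟩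
      · rintro ⟨h1, h2⟩
        have : c⁻¹ * y = c := by rw [← h2, inv_mul_cancel_left]
        exact ⟨⟨h1, this.symm ▸ h1⟩, this⟩
    rw [hset]
  -- invariance under `M`
  have hle : ∀ (h : G), h ∈ M → ∀ y : (S : Subgroup G),
      (E y).card ≤ (E (C.sPart S (h * y))).card := by
    intro h hh y
    refine Finset.card_le_card_of_injOn (fun c => C.sPart S (h * c)) (fun c hc => ?_)
      (fun c _ d _ hcd => ?_)
    · simp only [hE, Finset.coe_filter, Set.mem_setOf_eq] at hc ⊢
      obtain ⟨⟨h0, hh0, e0⟩, hd⟩ := And.imp_left (memD c).1 hc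
      obtain ⟨h4, hh4, e4⟩ := (memD _).1 hd
      have hc' := C.sPart_spec S (h * c)
      have hy' := C.sPart_spec S (h * y)
      refine ⟨(memD _).2 ⟨h * h0, M.mul_mem hh hh0, ?_⟩, (memD _).2
        ⟨((C.sPart S (h * c) : G)⁻¹ * (h * c)) * h4, M.mul_mem hc' hh4, ?_⟩⟩
      · have : (C.sPart S (h * c) : G)⁻¹ * (h * h0) * a =
            ((C.sPart S (h * c) : G)⁻¹ * (h * c)) * ((c : G)⁻¹ * h0 * a) := by group
        rw [this]; exact M.mul_mem hc' e0
      · have e4' : ((c : G)⁻¹ * (y : G))⁻¹ * h4 * a ∈ M := by simpa using e4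
        have : ((C.sPart S (h * c) : G)⁻¹ * (C.sPart S (h * y) : G))⁻¹ *
            (((C.sPart S (h * c) : G)⁻¹ * (h * c)) * h4) * a =
            ((C.sPart S (h * y) : G)⁻¹ * (h * y)) * (((c : G)⁻¹ * (y : G))⁻¹ * h4 * a) := by
          group
        simp only [coe_mul, coe_inv]
        rw [this]; exact M.mul_mem hy' e4'
    · have h1 := C.sPart_spec S (h * c)
      have h2 := C.sPart_spec S (h * d)
      simp only at hcd
      rw [hcd] at h1
      refine (C.bijective_mk S).1 (QuotientGroup.eq.2 ?_)
      have : (c : G)⁻¹ * d = ((C.sPart S (h * d) : G)⁻¹ * (h * c))⁻¹ *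
          ((C.sPart S (h * d) : G)⁻¹ * (h * d)) := by group
      rw [this]; exact M.mul_mem (M.inv_mem h1) h2
  have hinv : ∀ (h : G), h ∈ M → ∀ y : (S : Subgroup G),
      (E (C.sPart S (h * y))).card = (E y).card := by
    intro h hh y
    refine le_antisymm ?_ (hle h hh y)
    have hback : C.sPart S (h⁻¹ * (C.sPart S (h * y) : G)) = y := by
      refine C.sPart_unique S ?_
      have := C.sPart_spec S (h * y)
      have e : (y : G)⁻¹ * (h⁻¹ * (C.sPart S (h * y) : G)) =
          ((C.sPart S (h * y) : G)⁻¹ * (h * y))⁻¹ := by group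
      rw [e]; exact M.inv_mem this
    have := hle h⁻¹ (M.inv_mem hh) (C.sPart S (h * y))
    rwa [hback] at this
  set Y : Set (S : Subgroup G) := {y | y ≠ 1 ∧ Odd (c2 y)} with hY
  have hYne : Y.Nonempty := by
    by_contra h
    rw [Set.not_nonempty_iff_eq_empty] at h
    have hev : Even D.card := by
      rw [Finset.card_eq_sum_card_fiberwise (f := fun c : (S : Subgroup G) => c * c)
        (t := Finset.univ) (fun c _ => Finset.mem_coe.2 (Finset.mem_univ _))]
      refine Finset.even_sum _ fun y _ => ?_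
      by_cases hy : y = 1
      · subst hy
        rw [Finset.filter_eq_empty_iff.2 fun c hc => hno c hc]
        exact ⟨0, by simp⟩
      · rw [← Nat.not_odd_iff_even]
        intro ho
        have : y ∈ Y := ⟨hy, ho⟩
        rw [h] at this
        exact this
    exact (Nat.not_even_iff_odd.2 hDodd) hev
  set W := Subgroup.closure Y with hW
  have hsq : W ≠ ⊤ := by
    intro htop
    have hle : W ≤ (powMonoidHom 2 : (S : Subgroup G) →* (S : Subgroup G)).range := by
      rw [hW, closure_le]
      rintro y ⟨-, ho⟩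
      obtain ⟨c, hc⟩ := Finset.card_pos.1 ho.pos
      exact ⟨c, by rw [powMonoidHom_apply, pow_two]; exact (Finset.mem_filter.1 hc).2⟩
    rw [htop] at hle
    have hsur : Function.Surjective (powMonoidHom 2 : (S : Subgroup G) →* (S : Subgroup G)) :=
      fun y => hle (mem_top y)
    obtain ⟨t, htS, ht2⟩ := C.exists_invol S
    have hinj := (Finite.injective_iff_surjective).2 hsur
    have : (⟨t, htS⟩ : (S : Subgroup G)) = 1 := hinj (by
      simp only [powMonoidHom_apply, one_pow]
      exact Subtype.ext (by simp [← ht2, pow_orderOf_eq_one]))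
    have ht1 : t = 1 := congrArg Subtype.val this
    rw [ht1, orderOf_one] at ht2
    exact absurd ht2 (by norm_num)
  -- `M` preserves `WM`
  set P : ↥(S : Subgroup G) → Prop :=
    fun w => ∀ h ∈ M, C.sPart S (h * (w : G)) ∈ W with hP
  have hstep : ∀ y ∈ Y, ∀ w, P w → P (w * y) := by
    intro y hy w hw h hh
    set w1 := C.sPart S (h * w)
    have h1 := C.sPart_spec S (h * (w : G))
    set h1' := (w1 : G)⁻¹ * (h * w) with hh1
    have hy1 : C.sPart S (h1' * y) ∈ Y := by
      refine ⟨fun he => hy.1 ?_, ?_⟩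
      · have := C.sPart_spec S (h1' * y)
        rw [he, OneMemClass.coe_one, inv_one, one_mul] at this
        have : (y : G) ∈ M := by
          have := M.mul_mem (M.inv_mem h1) this
          rwa [inv_mul_cancel_left] at this
        exact Subtype.ext (C.eq_one_of_mem_of_mem S this y.2)
      · rw [← hpar, hinv _ h1, hpar]
        exact hy.2
    have e : C.sPart S (h * ((w * y : (S : Subgroup G)) : G)) = w1 * C.sPart S (h1' * y) := by
      refine C.sPart_unique S ?_
      have := C.sPart_spec S (h1' * y)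
      have e2 : ((w1 * C.sPart S (h1' * y) : (S : Subgroup G)) : G)⁻¹ *
          (h * ((w * y : (S : Subgroup G)) : G)) = (C.sPart S (h1' * y) : G)⁻¹ * (h1' * y) := by
        simp only [coe_mul, hh1]; group
      rw [e2]; exact this
    rw [e]
    exact W.mul_mem (hw h hh) (subset_closure hy1)
  have hPall : ∀ w ∈ W, P w := by
    intro w hw
    induction hw using Subgroup.closure_induction_right with
    | one =>
      intro h hh
      have : C.sPart S (h * ((1 : (S : Subgroup G)) : G)) = 1 :=
        C.sPart_unique S (by simpa using hh)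
      rw [this]; exact W.one_mem
    | mul_right x hx y hy ih => exact hstep y hy x ih
    | mul_inv_cancel x hx y hy ih =>
      have : ∀ n : ℕ, P (x * y ^ n) := by
        intro n
        induction n with
        | zero => simpa using ih
        | succ n ihn => rw [pow_succ, ← mul_assoc]; exact hstep y hy _ ihn
      have e : y⁻¹ = y ^ (orderOf y - 1) := by
        refine inv_eq_of_mul_eq_one_right ?_
        rw [← pow_succ', Nat.sub_add_cancel (orderOf_pos y), pow_orderOf_eq_one]
      rw [e]; exact this _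
  let L : Subgroup G :=
    { carrier := {g | C.sPart S g ∈ W}
      one_mem' := by
        show C.sPart S 1 ∈ W
        rw [C.sPart_unique S (s := 1) (by simp)]
        exact W.one_mem
      mul_mem' := fun {g g'} hg hg' => by
        show C.sPart S (g * g') ∈ W
        simp only [Set.mem_setOf_eq] at hg hg'
        set m := (C.sPart S g : G)⁻¹ * g with hm
        have hmM : m ∈ M := C.sPart_spec S g
        have h2 := hPall _ hg' m hmM
        have e : C.sPart S (g * g') = C.sPart S g * C.sPart S (m * (C.sPart S g' : G)) := by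
          refine C.sPart_unique S ?_
          have h3 := C.sPart_spec S (m * (C.sPart S g' : G))
          have h4 := C.sPart_spec S g'
          have : ((C.sPart S g * C.sPart S (m * (C.sPart S g' : G)) : (S : Subgroup G)) : G)⁻¹ *
              (g * g') = ((C.sPart S (m * (C.sPart S g' : G)) : G)⁻¹ * (m * (C.sPart S g' : G))) *
              ((C.sPart S g' : G)⁻¹ * g') := by
            simp only [coe_mul, hm]; group
          rw [this]; exact M.mul_mem h3 h4
        rw [e]; exact W.mul_mem hg h2
      inv_mem' := fun {g} hg => by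
        show C.sPart S g⁻¹ ∈ W
        simp only [Set.mem_setOf_eq] at hg
        set m := (C.sPart S g : G)⁻¹ * g with hm
        have hmM : m ∈ M := C.sPart_spec S g
        have h2 := hPall _ (W.inv_mem hg) m⁻¹ (M.inv_mem hmM)
        have e : C.sPart S g⁻¹ = C.sPart S (m⁻¹ * ((C.sPart S g)⁻¹ : (S : Subgroup G))) := by
          congr 1
          simp only [coe_inv, hm]; group
        rw [e]; exact h2 }
  have hML : M ≤ L := fun m hm => by
    show C.sPart S m ∈ W
    rw [C.sPart_unique S (g := m) (s := 1) (by simpa using hm)]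
    exact W.one_mem
  have hWL : ∀ w : (S : Subgroup G), w ∈ W ↔ (w : G) ∈ L := fun w => by
    show w ∈ W ↔ C.sPart S w ∈ W
    rw [C.sPart_unique S (g := (w : G)) (s := w) (by simp)]
  have hL : L ≠ ⊤ := fun h => hsq (eq_top_iff.2 fun w _ => (hWL w).2 (h ▸ mem_top _))
  obtain ⟨y, hy⟩ := hYne
  have hyL : (y : G) ∈ L := (hWL y).1 (subset_closure hy)
  rw [C.eq_of_le hML hL] at hyL
  exact hy.1 (Subtype.ext (C.eq_one_of_mem_of_mem S hyL y.2))

/-- `M` is transitive on the other points. -/
theorem exists_orbit {a b : G} (ha : a ∈ (S : Subgroup G)) (ha1 : a ≠ 1)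
    (hb : b ∈ (S : Subgroup G)) (hb1 : b ≠ 1) : ∃ h ∈ M, b⁻¹ * h * a ∈ M := by
  obtain ⟨s, hs, hs2, h1, hh1, e1⟩ := C.exists_invol_orbit S ha ha1
  obtain ⟨s', hs', hs2', h2, hh2, e2⟩ := C.exists_invol_orbit S hb hb1
  obtain ⟨k, hk, hks⟩ := C.exists_conj_invol hs2 hs2'
  have e3 : s'⁻¹ * k * s = k := by rw [← hks]; group
  refine ⟨h2⁻¹ * k * h1, M.mul_mem (M.mul_mem (M.inv_mem hh2) hk) hh1, ?_⟩
  have : b⁻¹ * (h2⁻¹ * k * h1) * a =
      (s'⁻¹ * h2 * b)⁻¹ * (s'⁻¹ * k * s) * (s⁻¹ * h1 * a) := by group
  rw [this, e3]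
  exact M.mul_mem (M.mul_mem (M.inv_mem e2) hk) e1

end Ctx

end Cfsg.Agent.Lib.AGroupIndex
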