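import Cfsg.Agent.Lib.AGroupIndex.Basic
import Cfsg.Agent.S0205

/-!
# A simple A-group with a subgroup of odd order and `2`-power index: the setting

`G` is a non-soluble simple group with abelian Sylow subgroups, `M` a subgroup of odd order whose
index is a power of `2`, so that `G = SM` for every Sylow `2`-subgroup `S`.
-/

set_option autoImplicit false

universe u

namespace Cfsg.Agent.Lib.AGroupIndex

open Subgroup

theorem orderOf_conj' {G : Type*} [Group G] (g x : G) : orderOf (g * x * g⁻¹) = orderOf x := by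
  rw [← MulAut.conj_apply, ← MulEquiv.coe_toMonoidHom, orderOf_injective _ (MulEquiv.injective _)]

/-- The minimal configuration. -/
structure Ctx {G : Type u} [Group G] [Finite G] (M : Subgroup G) : Prop where
  aGroup : IsAGroup G
  ih : ∀ H : Subgroup G, H ≠ ⊤ → ∀ L : Subgroup H, Odd (Nat.card L) → ∀ a : ℕ, L.index = 2 ^ a →
    Group.IsSolvable H
  simple : IsSimpleGroup G
  nonsolvable : ¬ Group.IsSolvable G
  odd_card : Odd (Nat.card M)
  index_pow : ∃ a : ℕ, M.index = 2 ^ a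

namespace Ctx

variable {G : Type u} [Group G] [Finite G] {M : Subgroup G} (C : Ctx M) (S : Sylow 2 G)

include C

theorem ne_top : M ≠ ⊤ := by
  rintro rfl
  refine C.nonsolvable (Cfsg.Agent.S0205.result ?_)
  have := C.odd_card
  rwa [Subgroup.card_top] at this

theorem eq_bot_of_normal (N : Subgroup G) (hn : N.Normal) (hN : N ≠ ⊤) : N = ⊥ := by
  haveI := C.simple
  exact (hn.eq_bot_or_eq_top).resolve_right hN

theorem normalCore_eq_bot {K : Subgroup G} (hK : K ≠ ⊤) : K.normalCore = ⊥ :=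
  C.eq_bot_of_normal _ K.normalCore_normal fun h => hK (top_le_iff.1 (h ▸ K.normalCore_le))

theorem not_comm : ¬ ∀ a b : G, a * b = b * a := by
  intro h
  exact C.nonsolvable (Group.isSolvable_of_comm h)

theorem centralizer_ne_top {g : G} (hg : g ≠ 1) : centralizer ({g} : Set G) ≠ ⊤ := by
  intro h
  have hz : g ∈ center G := by
    rw [mem_center_iff]
    intro x
    have hx : x ∈ centralizer ({g} : Set G) := h ▸ mem_top x
    exact (mem_centralizer_singleton_iff.1 hx)
  have hne : center G ≠ ⊤ := by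
    intro ht
    refine C.not_comm fun a b => ?_
    have hb : b ∈ center G := ht ▸ mem_top b
    exact mem_center_iff.1 hb a
  rw [C.eq_bot_of_normal (center G) inferInstance hne] at hz
  exact hg (mem_bot.1 hz)

theorem eq_one_of_mem_of_mem {x : G} (hxM : x ∈ M) (hxS : x ∈ (S : Subgroup G)) : x = 1 :=
  eq_one_of_odd_of_mem_pGroup S.isPGroup' (odd_orderOf C.odd_card hxM) hxS

theorem mul_inj {s s' m m' : G} (hs : s ∈ (S : Subgroup G)) (hs' : s' ∈ (S : Subgroup G))
    (hm : m ∈ M) (hm' : m' ∈ M) (h : s * m = s' * m') : s = s' := by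
  have e : s'⁻¹ * s = m' * m⁻¹ := by
    calc s'⁻¹ * s = s'⁻¹ * (s * m) * m⁻¹ := by group
      _ = s'⁻¹ * (s' * m') * m⁻¹ := by rw [h]
      _ = m' * m⁻¹ := by group
  exact (inv_mul_eq_one.1 (C.eq_one_of_mem_of_mem S (e ▸ M.mul_mem hm' (M.inv_mem hm))
    ((S : Subgroup G).mul_mem ((S : Subgroup G).inv_mem hs') hs))).symm

theorem card_sylow : Nat.card (S : Subgroup G) = M.index := by
  obtain ⟨a, ha⟩ := C.index_pow
  haveI : Fact (Nat.Prime 2) := ⟨Nat.prime_two⟩
  rw [S.card_eq_multiplicity, ← M.card_mul_index, ha]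
  congr 1
  rw [Nat.factorization_mul Nat.card_pos.ne' (by positivity), Finsupp.add_apply,
    Nat.factorization_eq_zero_of_not_dvd (fun h => (Nat.not_even_iff_odd.2 C.odd_card)
      (even_iff_two_dvd.2 h)), zero_add, Nat.prime_two.factorization_pow, Finsupp.single_eq_same]

/-- Every point of `G ⧸ M` is uniquely `sM` with `s` in `S`. -/
theorem bijective_mk : Function.Bijective (fun s : (S : Subgroup G) => ((s : G) : G ⧸ M)) := by
  rw [Nat.bijective_iff_injective_and_card]
  refine ⟨fun s s' h => ?_, by rw [C.card_sylow S]; rfl⟩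
  have hm : (s : G)⁻¹ * (s' : G) ∈ M := QuotientGroup.eq.1 h
  exact Subtype.ext (inv_mul_eq_one.1 (C.eq_one_of_mem_of_mem S hm
    ((S : Subgroup G).mul_mem ((S : Subgroup G).inv_mem s.2) s'.2)))

theorem exists_eq_mul (g : G) : ∃ s ∈ (S : Subgroup G), ∃ m ∈ M, g = s * m := by
  obtain ⟨s, hs⟩ := (C.bijective_mk S).2 (g : G ⧸ M)
  exact ⟨s, s.2, (s : G)⁻¹ * g, QuotientGroup.eq.1 hs, by group⟩

theorem exists_eq_mul' (g : G) : ∃ m ∈ M, ∃ s ∈ (S : Subgroup G), g = m * s := by
  obtain ⟨s, hs, m, hm, h⟩ := C.exists_eq_mul S g⁻¹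
  exact ⟨m⁻¹, M.inv_mem hm, s⁻¹, (S : Subgroup G).inv_mem hs, by
    rw [← mul_inv_rev, ← h, inv_inv]⟩

/-- An element fixing every point is trivial. -/
theorem eq_one_of_fixes_all {x : G} (h : ∀ s ∈ (S : Subgroup G), s⁻¹ * x * s ∈ M) : x = 1 := by
  have hx : x ∈ M.normalCore := by
    intro b
    obtain ⟨s, hs, m, hm, e⟩ := C.exists_eq_mul S b⁻¹
    have e2 : b * x * b⁻¹ = m⁻¹ * (s⁻¹ * x * s) * m := by
      rw [← inv_inv b, e]; group
    rw [e2]
    exact M.mul_mem (M.mul_mem (M.inv_mem hm) (h s hs)) hm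
  rw [C.normalCore_eq_bot C.ne_top] at hx
  exact mem_bot.1 hx

theorem comm {a b : G} (ha : a ∈ (S : Subgroup G)) (hb : b ∈ (S : Subgroup G)) :
    a * b = b * a :=
  C.aGroup.commute S.isPGroup' ha hb

/-- `M` is maximal. -/
theorem eq_of_le {K : Subgroup G} (hMK : M ≤ K) (hK : K ≠ ⊤) : K = M := by
  haveI : Fact (Nat.Prime 2) := ⟨Nat.prime_two⟩
  obtain ⟨S⟩ := (inferInstance : Nonempty (Sylow 2 G))
  refine le_antisymm (fun k hk => ?_) hMK
  obtain ⟨s, hs, m, hm, e⟩ := C.exists_eq_mul S k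
  have hsK : s ∈ K := by
    have : s = k * m⁻¹ := by rw [e]; group
    exact this ▸ K.mul_mem hk (K.inv_mem (hMK hm))
  have hcore : s ∈ K.normalCore := by
    intro b
    obtain ⟨m', hm', s', hs', e'⟩ := C.exists_eq_mul' S b
    have e2 : b * s * b⁻¹ = m' * s * m'⁻¹ := by
      rw [e', show m' * s' * s * (m' * s')⁻¹ = m' * (s' * s) * s'⁻¹ * m'⁻¹ by group,
        C.comm S hs' hs]
      group
    rw [e2]
    exact K.mul_mem (K.mul_mem (hMK hm') hsK) (K.inv_mem (hMK hm'))
  rw [C.normalCore_eq_bot hK] at hcore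
  rw [mem_bot] at hcore
  rw [e, hcore, one_mul]; exact hm

/-- A subgroup containing the `S`-part of each of its elements has a subgroup of odd order and
`2`-power index. -/
theorem split_index {H : Subgroup G}
    (h : ∀ s ∈ (S : Subgroup G), ∀ m ∈ M, s * m ∈ H → s ∈ H) :
    ∃ a : ℕ, (M.subgroupOf H).index = 2 ^ a := by
  haveI : Fact (Nat.Prime 2) := ⟨Nat.prime_two⟩
  let f : ↥((S : Subgroup G) ⊓ H) → H ⧸ M.subgroupOf H :=
    fun s => ((⟨(s : G), s.2.2⟩ : H) : H ⧸ M.subgroupOf H)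
  have hf : Function.Bijective f := by
    constructor
    · intro s s' hss
      have hm := QuotientGroup.eq.1 hss
      rw [mem_subgroupOf] at hm
      exact Subtype.ext (inv_mul_eq_one.1 (C.eq_one_of_mem_of_mem S hm
        ((S : Subgroup G).mul_mem ((S : Subgroup G).inv_mem s.2.1) s'.2.1)))
    · intro q
      induction q using QuotientGroup.induction_on with
      | H g =>
        obtain ⟨s, hs, m, hm, e⟩ := C.exists_eq_mul S (g : G)
        have hsH : s ∈ H := h s hs m hm (e ▸ g.2)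
        refine ⟨⟨s, hs, hsH⟩, QuotientGroup.eq.2 ?_⟩
        rw [mem_subgroupOf]
        show s⁻¹ * (g : G) ∈ M
        rw [e, inv_mul_cancel_left]; exact hm
  have hP : IsPGroup 2 ↥((S : Subgroup G) ⊓ H) := S.isPGroup'.to_le inf_le_left
  obtain ⟨a, ha⟩ := hP.exists_card_eq
  exact ⟨a, by rw [← ha, Nat.card_eq_of_bijective f hf]; rfl⟩

theorem odd_subgroupOf (H : Subgroup G) : Odd (Nat.card (M.subgroupOf H)) := by
  refine C.odd_card.of_dvd_nat ?_
  rw [← card_map_of_injective (K := M.subgroupOf H) H.subtype_injective, subgroupOf_map_subtype]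
  exact card_dvd_of_le inf_le_left

theorem split_solvable {H : Subgroup G} (hH : H ≠ ⊤)
    (h : ∀ s ∈ (S : Subgroup G), ∀ m ∈ M, s * m ∈ H → s ∈ H) : Group.IsSolvable H := by
  obtain ⟨a, ha⟩ := C.split_index S h
  exact C.ih H hH _ (C.odd_subgroupOf H) a ha

/-- In such a subgroup the normal subgroups of odd order lie in `M`. -/
theorem split_odd_le {H : Subgroup G}
    (h : ∀ s ∈ (S : Subgroup G), ∀ m ∈ M, s * m ∈ H → s ∈ H)
    {N : Subgroup H} (hn : N.Normal) (hN : Odd (Nat.card N)) {x : H} (hx : x ∈ N) : (x : G) ∈ M := by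
  obtain ⟨a, ha⟩ := C.split_index S h
  exact mem_subgroupOf.1 (le_of_odd_normal hN ha hx)

theorem split_centralizer_mem {t : G} (ht : t ∈ (S : Subgroup G)) :
    ∀ s ∈ (S : Subgroup G), ∀ m ∈ M, s * m ∈ centralizer ({t} : Set G) →
      s ∈ centralizer ({t} : Set G) :=
  fun _ hs _ _ _ => mem_centralizer_singleton_iff.2 (C.comm S hs ht)

/-- The centraliser of an involution of `S` normalises `S`. -/
theorem centralizer_invol_le {t : G} (ht : t ∈ (S : Subgroup G)) (ht2 : orderOf t = 2) :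
    centralizer ({t} : Set G) ≤ normalizer ((S : Subgroup G) : Set G) := by
  haveI : Fact (Nat.Prime 2) := ⟨Nat.prime_two⟩
  set H := centralizer ({t} : Set G) with hH
  have hne : H ≠ ⊤ := C.centralizer_ne_top (fun h => by
    rw [h, orderOf_one] at ht2; exact absurd ht2 (by norm_num))
  have hsplit := C.split_centralizer_mem S ht
  haveI := C.split_solvable S hne hsplit
  have hSH : (S : Subgroup G) ≤ H := fun s hs => mem_centralizer_singleton_iff.2 (C.comm S hs ht)
  let P : Sylow 2 H := S.subtype hSH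
  have hPc : IsMulCommutative (P : Subgroup H) := (C.aGroup.subgroup H) 2 P
  have hPn : (P : Subgroup H).Normal := by
    refine sylow_normal_of_centralizes P hPc fun N hn hN x hx => ?_
    rw [mem_centralizer_iff]
    intro y hy
    have hodd : Odd (Nat.card N) := Nat.odd_iff.2 (Nat.two_dvd_ne_zero.1 hN)
    have hy1 : (y : G) = 1 := by
      refine C.eq_one_of_fixes_all S fun s hs => ?_
      have hy' := hn.conj_mem y hy ⟨s, hSH hs⟩⁻¹
      have := C.split_odd_le S hsplit hn hodd hy'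
      simpa using this
    have : y = 1 := Subtype.ext hy1
    simp [this]
  intro g hg
  rw [mem_normalizer_iff]
  have key : ∀ a ∈ H, ∀ z ∈ (S : Subgroup G), a * z * a⁻¹ ∈ (S : Subgroup G) := fun a ha z hz =>
    hPn.conj_mem ⟨z, hSH hz⟩ hz ⟨a, ha⟩
  intro z
  refine ⟨key g hg z, fun hz => ?_⟩
  have := key g⁻¹ (H.inv_mem hg) _ hz
  have e : g⁻¹ * (g * z * g⁻¹) * g⁻¹⁻¹ = z := by group
  rwa [e] at this

theorem pGroup_le_of_centralizes {t : G} (ht : t ∈ (S : Subgroup G)) (ht2 : orderOf t = 2)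
    {Q : Subgroup G} (hQ : IsPGroup 2 Q) (hQt : Q ≤ centralizer ({t} : Set G)) :
    Q ≤ (S : Subgroup G) := by
  have h : Q ⊓ normalizer ((S : Subgroup G) : Set G) = Q ⊓ (S : Subgroup G) :=
    hQ.inf_normalizer_sylow S
  rw [inf_eq_left.2 (hQt.trans (C.centralizer_invol_le S ht ht2))] at h
  exact inf_eq_left.1 h.symm

theorem mem_of_commute {t : G} (ht : t ∈ (S : Subgroup G)) (ht2 : orderOf t = 2)
    {x : G} (hx : orderOf x = 2) (hxt : Commute x t) : x ∈ (S : Subgroup G) := by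
  refine C.pGroup_le_of_centralizes S ht ht2 (IsPGroup.of_card (n := 1) ?_) ?_ (mem_zpowers x)
  · rw [Nat.card_zpowers, hx, pow_one]
  · rw [zpowers_le, mem_centralizer_singleton_iff]; exact hxt.eq

theorem sylow_eq_of_invol {P : Sylow 2 G} {t : G} (ht : t ∈ (S : Subgroup G))
    (htP : t ∈ (P : Subgroup G)) (ht2 : orderOf t = 2) : P = S := by
  refine Sylow.ext (P.3 S.isPGroup' ?_).symm
  exact C.pGroup_le_of_centralizes S ht ht2 P.isPGroup' fun x hx =>
    mem_centralizer_singleton_iff.2 (C.comm P hx htP)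

omit C in
theorem exists_sylow_of_invol {t : G} (ht2 : orderOf t = 2) :
    ∃ P : Sylow 2 G, t ∈ (P : Subgroup G) := by
  haveI : Fact (Nat.Prime 2) := ⟨Nat.prime_two⟩
  obtain ⟨P, hP⟩ := (IsPGroup.of_card (p := 2) (n := 1)
    (show Nat.card (zpowers t) = 2 ^ 1 by rw [Nat.card_zpowers, ht2, pow_one])).exists_le_sylow
  exact ⟨P, hP (mem_zpowers t)⟩

/-- No nontrivial element of odd order commuting with an involution is inverted by a
`2`-element. -/
theorem not_inverted {s y τ : G} (hs : orderOf s = 2) (hy : Odd (orderOf y)) (hsy : Commute s y)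
    (hτ : ∃ j : ℕ, orderOf τ = 2 ^ j) (hinv : τ * y * τ⁻¹ = y⁻¹) : y = 1 := by
  obtain ⟨T, hT⟩ := exists_sylow_of_invol hs
  exact eq_one_of_inverted C.aGroup hs T.isPGroup' (C.centralizer_invol_le T hT hs)
    (fun Q hQ hQs => C.pGroup_le_of_centralizes T hT hs hQ hQs) hy hsy hτ hinv

theorem exists_invol : ∃ t ∈ (S : Subgroup G), orderOf t = 2 := by
  haveI : Fact (Nat.Prime 2) := ⟨Nat.prime_two⟩
  obtain ⟨a, ha⟩ := C.index_pow
  have ha0 : a ≠ 0 := by
    rintro rfl
    exact C.ne_top (index_eq_one.1 (by rw [ha, pow_zero]))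
  have hdvd : 2 ∣ Nat.card (S : Subgroup G) := by
    rw [C.card_sylow S, ha]; exact dvd_pow_self 2 ha0
  obtain ⟨x, hx⟩ := exists_prime_orderOf_dvd_card' 2 hdvd
  exact ⟨x, x.2, by rw [orderOf_coe]; exact hx⟩

theorem invol_not_mem {t : G} (ht2 : orderOf t = 2) : t ∉ M := fun h => by
  have := odd_orderOf C.odd_card h
  rw [ht2] at this
  exact absurd this (by decide)

/-- `S` is not normal: there is an involution outside. -/
theorem exists_invol_not_mem : ∃ t : G, orderOf t = 2 ∧ t ∉ (S : Subgroup G) := by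
  by_contra hcon
  push Not at hcon
  obtain ⟨t, ht, ht2⟩ := C.exists_invol S
  have hmem : ∀ g : G, g ∈ normalizer ((S : Subgroup G) : Set G) := by
    intro g
    refine Sylow.smul_eq_iff_mem_normalizer.1 ?_
    refine C.sylow_eq_of_invol S (t := g * t * g⁻¹) (hcon _ ?_) ?_ ?_
    · rw [orderOf_conj']; exact ht2
    · rw [Sylow.coe_subgroup_smul]
      exact ⟨t, ht, rfl⟩
    · rw [orderOf_conj']; exact ht2
  have hn : (S : Subgroup G).Normal := normalizer_eq_top_iff.1 (eq_top_iff.2 fun g _ => hmem g)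
  have hne : (S : Subgroup G) ≠ ⊤ := fun h => C.not_comm fun a b =>
    C.comm S (h ▸ mem_top a) (h ▸ mem_top b)
  have := C.eq_bot_of_normal _ hn hne
  rw [this, mem_bot] at ht
  rw [ht, orderOf_one] at ht2
  exact absurd ht2 (by norm_num)

/-- Two involutions in different Sylow `2`-subgroups are conjugate. -/
theorem isConj_of_not_mem {s t : G} (hs : orderOf s = 2) (ht : orderOf t = 2)
    (hsS : s ∈ (S : Subgroup G)) (htS : t ∉ (S : Subgroup G)) : IsConj s t := by
  have hs2 : s * s = 1 := by rw [← pow_two, ← hs]; exact pow_orderOf_eq_one s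
  have ht2 : t * t = 1 := by rw [← pow_two, ← ht]; exact pow_orderOf_eq_one t
  have hsi : s⁻¹ = s := inv_eq_of_mul_eq_one_right hs2
  have hti : t⁻¹ = t := inv_eq_of_mul_eq_one_right ht2
  set x := s * t with hx
  have hodd : Odd (orderOf x) := by
    rw [← Nat.not_even_iff_odd]
    rintro ⟨k, hk⟩
    have hpos : 0 < orderOf x := orderOf_pos x
    set z := x ^ k with hz
    have hz2 : orderOf z = 2 := by
      rw [orderOf_eq_iff (by norm_num)]
      refine ⟨by rw [hz, ← pow_mul, show k * 2 = orderOf x by omega, pow_orderOf_eq_one],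
        fun m hm hm0 h => ?_⟩
      have hm1 : m = 1 := by omega
      rw [hm1, pow_one] at h
      exact pow_ne_one_of_lt_orderOf (by omega) (by omega) h
    have hz' : z⁻¹ = z := inv_eq_of_mul_eq_one_right (by
      rw [← pow_two, ← hz2, pow_orderOf_eq_one])
    have hsx : s * x * s⁻¹ = x⁻¹ := by
      rw [hx, hsi, mul_inv_rev, hti, hsi, ← mul_assoc, hs2, one_mul]
    have htx : t * x * t⁻¹ = x⁻¹ := by
      rw [hx, hti, mul_inv_rev, hti, hsi, mul_assoc, mul_assoc, ht2, mul_one]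
    have c1 : Commute z s := by
      have : s * z * s⁻¹ = z := by rw [hz, ← conj_pow, hsx, inv_pow]; exact hz'
      exact (eq_mul_inv_iff_mul_eq.1 this.symm).trans rfl
    have c2 : Commute z t := by
      have : t * z * t⁻¹ = z := by rw [hz, ← conj_pow, htx, inv_pow]; exact hz'
      exact (eq_mul_inv_iff_mul_eq.1 this.symm).trans rfl
    have hzS : z ∈ (S : Subgroup G) := C.mem_of_commute S hsS hs hz2 c1
    exact htS (C.mem_of_commute S hzS hz2 ht c2.symm)
  obtain ⟨k, hk⟩ := hodd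
  refine isConj_iff.2 ⟨s * (x ^ k)⁻¹, ?_⟩
  have hsx : s * x * s⁻¹ = x⁻¹ := by
    rw [hx, hsi, mul_inv_rev, hti, hsi, ← mul_assoc, hs2, one_mul]
  have e1 : s * x ^ k = (x ^ k)⁻¹ * s := by
    rw [← inv_pow, ← hsx, conj_pow]; group
  have e2 : x ^ (k + k + 1) = 1 := by
    rw [show k + k + 1 = orderOf x by omega, pow_orderOf_eq_one]
  calc s * (x ^ k)⁻¹ * s * (s * (x ^ k)⁻¹)⁻¹ = s * ((x ^ k)⁻¹ * (s * x ^ k)) * s⁻¹ := by group
    _ = s * ((x ^ (k + k))⁻¹ * s) * s⁻¹ := by rw [e1, pow_add]; group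
    _ = s * (x * s) * s⁻¹ := by
      rw [inv_eq_of_mul_eq_one_right (by rw [← pow_succ]; exact e2)]
    _ = (s * s) * t * (s * s⁻¹) := by rw [hx]; group
    _ = t := by rw [hs2, mul_inv_cancel, one_mul, mul_one]

theorem isConj_invol {s t : G} (hs : orderOf s = 2) (ht : orderOf t = 2) : IsConj s t := by
  obtain ⟨S, hsS⟩ := exists_sylow_of_invol hs
  by_cases htS : t ∈ (S : Subgroup G)
  · obtain ⟨r, hr, hrS⟩ := C.exists_invol_not_mem S
    exact (C.isConj_of_not_mem S hs hr hsS hrS).trans (C.isConj_of_not_mem S ht hr htS hrS).symm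
  · exact C.isConj_of_not_mem S hs ht hsS htS

/-- `M` is transitive on the involutions. -/
theorem exists_conj_invol {s t : G} (hs : orderOf s = 2) (ht : orderOf t = 2) :
    ∃ h ∈ M, h * s * h⁻¹ = t := by
  obtain ⟨g, hg⟩ := isConj_iff.1 (C.isConj_invol hs ht)
  obtain ⟨P, hP⟩ := exists_sylow_of_invol ht
  obtain ⟨p, hp, m, hm, e⟩ := C.exists_eq_mul P g
  refine ⟨m, hm, ?_⟩
  have e2 : m * s * m⁻¹ = p⁻¹ * (g * s * g⁻¹) * p := by rw [e]; group
  rw [e2, hg, mul_assoc, C.comm P hP hp, inv_mul_cancel_left]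

/-- An element mapping an involution of `S` into `S` normalises `S`. -/
theorem mem_normalizer_of_conj {s g : G} (hs : s ∈ (S : Subgroup G)) (hs2 : orderOf s = 2)
    (h : g * s * g⁻¹ ∈ (S : Subgroup G)) : g ∈ normalizer ((S : Subgroup G) : Set G) := by
  refine Sylow.smul_eq_iff_mem_normalizer.1 ?_
  refine C.sylow_eq_of_invol S h ?_ (by rw [orderOf_conj']; exact hs2)
  rw [Sylow.coe_subgroup_smul]
  exact ⟨s, hs, rfl⟩

end Ctx

end Cfsg.Agent.Lib.AGroupIndex
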